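import Cfsg.Agent.H691.L34.Def
import Cfsg.Agent.H793.RIM.L34A
import Mathlib
import Mathlib.Algebra.CharP.Two
import Mathlib.LinearAlgebra.Dimension.Constructions
import Mathlib.LinearAlgebra.FiniteDimensional.Lemmas
import Mathlib.RingTheory.Artinian.Module
import Mathlib.Tactic.LinearCombination
import Mathlib.Tactic.Abel
import Mathlib.LinearAlgebra.Dual.Lemmas
import Mathlib.LinearAlgebra.QuadraticForm.Basic
import Mathlib.LinearAlgebra.Dimension.RankNullity
import Mathlib.LinearAlgebra.FiniteDimensional.Basic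
import Mathlib.Tactic
import Cfsg.Agent.ClassicalGeometry.TwoFamilies
import Cfsg.Agent.FastGrp
import Cfsg.Agent.Prune
set_option linter.all false

section
prune_inst 0x7fffa9ffbbfff9dfdf7d7e7daf9cdffdffb93fffa6fffdcbffe06bff1bffcb92cde56bad83eab2fe4fd6ea1418f87b53f9feefffea6bd87ffffd1ff45ffbffcffdf7bd0851de8cb40fbc2fff63f0678e7f3fffffffffffffffffffffffffffaeffbfffffffff

-- part: H288/L34/BrkDef
section
set_option linter.all false

/-! Common definitions for the brackets (copied literally from H691/L34/Stubs.lean). -/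

set_option autoImplicit false

namespace Cfsg.Agent.H288.L34

open Matrix Cfsg.Agent.H691.L34

/-- an invariant alternating bilinear map -/
structure Brk {F : Type} [Field F] {V : Type} [AddCommGroup V] [Module (ZMod 2) V]
    (ρ : Representation (ZMod 2) (G3 F) V) (β : V →ₗ[ZMod 2] V →ₗ[ZMod 2] V) : Prop where
  alt : ∀ x, β x x = 0
  inv : ∀ g x y, ρ g (β x y) = β (ρ g x) (ρ g y)

/-- the span of the brackets -/
def bsp {V : Type} [AddCommGroup V] [Module (ZMod 2) V] (β : V →ₗ[ZMod 2] V →ₗ[ZMod 2] V)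
    (W : Submodule (ZMod 2) V) : Submodule (ZMod 2) V :=
  Submodule.span (ZMod 2) {v | ∃ x ∈ W, ∃ y ∈ W, β x y = v}

/-- `diag(1,1,0)`, `diag(0,1,1)` -/
def d1 {F : Type} [Field F] : M3 F := !![1, 0, 0; 0, 1, 0; 0, 0, 0]

/-- `diag(0,1,1)` -/
def d2 {F : Type} [Field F] : M3 F := !![0, 0, 0; 0, 1, 0; 0, 0, 1]

end Cfsg.Agent.H288.L34
end

-- part: H20/LF/Cent
section
set_option linter.all false
open scoped Cfsg.Agent.FastGrp

/-!
# S5917: the centralizer of a Sylow `3`-subgroup of `PSL(3,4)` in an almost simple group (helper20)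

* `card_index_dvd` : `S` normal in `H`, `C_H(S) = 1`, `|Out S| = 12`: `|H : S|` divides `12`;
* `card_cent_dvd` : if moreover `S` has the facts `B34` of `PSL(3,4)` and `E ≤ S` has order `9`, then `|C_H(E)|` divides `108`;
* `not_dvd_cent` : so no subgroup of order `16` or `81` centralises `E`.
-/

set_option autoImplicit false
set_option linter.unusedSectionVars false

namespace Cfsg.Agent.H20.LF

open Subgroup Cfsg.Agent.H793.RIM

universe u

variable {H : Type u} [Group H] [Finite H]

/-- `|H : S|` divides `|Out S|` -/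
theorem card_index_dvd (S : Subgroup H) [S.Normal] (hC : centralizer (S : Set H) = ⊥) :
    S.index ∣ (MulAut.conj : S →* MulAut S).range.index := by
  -- the action of `H` on `S`
  let f : H →* MulAut S := MulAut.conjNormal
  have hf : Function.Injective f := by
    rw [injective_iff_map_eq_one]
    intro h hh
    have h1 : h ∈ centralizer (S : Set H) := by
      rw [mem_centralizer_iff]
      intro s hs
      have h2 : f h ⟨s, hs⟩ = ⟨s, hs⟩ := by rw [hh]; rfl
      have h3 : h * s * h⁻¹ = s := by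
        have := congrArg Subtype.val h2
        rwa [MulAut.conjNormal_apply] at this
      rw [mul_inv_eq_iff_eq_mul] at h3
      exact h3.symm
    rw [hC] at h1
    exact h1
  have hS : S.map f = (MulAut.conj : S →* MulAut S).range := by
    ext φ
    constructor
    · rintro ⟨s, hs, rfl⟩
      refine ⟨⟨s, hs⟩, ?_⟩
      ext x
      simp [f, MulAut.conjNormal_apply]
    · rintro ⟨s, rfl⟩
      refine ⟨s, s.2, ?_⟩
      ext x
      simp [f, MulAut.conjNormal_apply]
  have h1 : (S.map f).relIndex f.range = S.index := by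
    have h2 := Subgroup.relIndex_map_map_of_injective (f := f) S ⊤ hf
    rw [← MonoidHom.range_eq_map] at h2
    rw [h2, Subgroup.relIndex_top_right]
  rw [← h1, hS]
  exact Subgroup.relIndex_dvd_index_of_le (by rw [← hS]; exact Subgroup.map_le_range f S)

end Cfsg.Agent.H20.LF
end

-- part: H550/L34/Rel
section
prune_inst 0x14004400062020828182506320020002400059000000000c14002400340c020294520c0145011029008ac506808006011000140424000000e00880000010000040002021100a104040008c00180000000000000000000000000000000010004000000000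
set_option linter.all false
open scoped Cfsg.Agent.FastGrp

-- part: H550/L34/Mat
section
/-!
# S5917: explicit matrices of `3² : Q₈` in `SL₃(4)` (helper550)

`ω ^ 2 = ω + 1` in a field of characteristic two. `mD, mP` generate the extraspecial group, `mW, mJ` generate `Q₈`, `mZ` is
the involution of `Q₈` (the parity); `mE = mD⁻¹`, `mQ = mP⁻¹`, `mA = J D J⁻¹`, `mB = W A W⁻¹`.
-/

set_option autoImplicit false
set_option linter.unusedSectionVars false
set_option linter.unusedSimpArgs false
set_option linter.unusedTactic false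
set_option linter.unreachableTactic false

namespace Cfsg.Agent.H550.L34

open Matrix Cfsg.Agent.H691.L34

variable {F : Type} [Field F]

/-- a primitive cube root of unity in characteristic two -/
structure Om (ω : F) : Prop where
  two : (2 : F) = 0
  eq : ω ^ 2 = ω + 1

def mD (ω : F) : M3 F := !![1, 0, 0; 0, ω, 0; 0, 0, ω + 1]
def mE (ω : F) : M3 F := !![1, 0, 0; 0, ω + 1, 0; 0, 0, ω]
def mP : M3 F := !![0, 1, 0; 0, 0, 1; 1, 0, 0]
def mQ : M3 F := !![0, 0, 1; 1, 0, 0; 0, 1, 0]
def mW (ω : F) : M3 F := !![1, 1, 1; 1, ω, ω + 1; 1, ω + 1, ω]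
def mJ (ω : F) : M3 F := !![1, ω + 1, ω + 1; ω, ω, ω + 1; ω, ω + 1, ω]
def mZ : M3 F := !![1, 0, 0; 0, 0, 1; 0, 1, 0]
def mA (ω : F) : M3 F := !![0, ω + 1, 0; 0, 0, 1; ω, 0, 0]
def mB (ω : F) : M3 F := !![0, ω, 0; 0, 0, 1; ω + 1, 0, 0]
/-- two congruences -/
def mG : M3 F := !![0, 0, 1; 1, 0, 0; 1, 1, 0]
def mH : M3 F := !![0, 1, 1; 0, 0, 1; 1, 0, 1]

section
variable {ω : F} (h : Om ω)
include h

attribute [-instance] instNoNatZeroDivisorsOfIsAddTorsionFree instIsCharPOfIsLeftCancelAddOfCharP in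
theorem det_D : (mD ω).det = 1 := by
  have h2 := h.two
  have h1 := h.eq
  rw [mD, det_fin_three]
  simp only [_root_.Fin.isValue, _root_.Matrix.of_apply, _root_.Matrix.cons_val', _root_.Matrix.cons_val_zero, _root_.Matrix.cons_val_fin_one, _root_.Matrix.cons_val_one, _root_.one_mul, _root_.Matrix.cons_val, _root_.MulZeroClass.mul_zero, _root_.sub_zero, _root_.MulZeroClass.zero_mul, _root_.add_zero]
  try grobner

attribute [-instance] instNoNatZeroDivisorsOfIsAddTorsionFree instIsCharPOfIsLeftCancelAddOfCharP in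
theorem det_E : (mE ω).det = 1 := by
  have h2 := h.two
  have h1 := h.eq
  rw [mE, det_fin_three]
  simp only [_root_.Fin.isValue, _root_.Matrix.of_apply, _root_.Matrix.cons_val', _root_.Matrix.cons_val_zero, _root_.Matrix.cons_val_fin_one, _root_.Matrix.cons_val_one, _root_.one_mul, _root_.Matrix.cons_val, _root_.MulZeroClass.mul_zero, _root_.sub_zero, _root_.MulZeroClass.zero_mul, _root_.add_zero]
  try grobner

attribute [-instance] instNoNatZeroDivisorsOfIsAddTorsionFree instIsCharPOfIsLeftCancelAddOfCharP in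
theorem det_W : (mW ω).det = 1 := by
  have h2 := h.two
  have h1 := h.eq
  rw [mW, det_fin_three]
  simp only [_root_.Fin.isValue, _root_.Matrix.of_apply, _root_.Matrix.cons_val', _root_.Matrix.cons_val_zero, _root_.Matrix.cons_val_fin_one, _root_.Matrix.cons_val_one, _root_.one_mul, _root_.Matrix.cons_val, _root_.mul_one]
  try grobner

attribute [-instance] instNoNatZeroDivisorsOfIsAddTorsionFree instIsCharPOfIsLeftCancelAddOfCharP in
theorem det_J : (mJ ω).det = 1 := by
  have h2 := h.two
  have h1 := h.eq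
  rw [mJ, det_fin_three]
  simp only [_root_.Fin.isValue, _root_.Matrix.of_apply, _root_.Matrix.cons_val', _root_.Matrix.cons_val_zero, _root_.Matrix.cons_val_fin_one, _root_.Matrix.cons_val_one, _root_.one_mul, _root_.Matrix.cons_val]
  try grobner

theorem det_P : (mP : M3 F).det = 1 := by
  have h2 := h.two
  rw [mP, det_fin_three]
  simp
  try grind

theorem det_Q : (mQ : M3 F).det = 1 := by
  have h2 := h.two
  rw [mQ, det_fin_three]
  simp
  try grind

attribute [-instance] instNoNatZeroDivisorsOfIsAddTorsionFree instIsCharPOfIsLeftCancelAddOfCharP in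
theorem det_Z : (mZ : M3 F).det = 1 := by
  have h2 := h.two
  rw [mZ, det_fin_three]
  simp
  try grobner

theorem det_G : (mG : M3 F).det = 1 := by
  have h2 := h.two
  rw [mG, det_fin_three]
  simp
  try grind

theorem det_H : (mH : M3 F).det = 1 := by
  have h2 := h.two
  rw [mH, det_fin_three]
  simp
  try grind

attribute [-instance] instNoNatZeroDivisorsOfIsAddTorsionFree instIsCharPOfIsLeftCancelAddOfCharP in
theorem ct_D : ct (mD ω) = mE ω := by
  have h2 := h.two
  have h1 := h.eq
  ext i j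
  (revert i j; simp only [mD, mE, mP, mQ, mW, mJ, mZ, mA, mB, mG, mH, ct, Matrix.mul_apply, Fin.sum_univ_three, _root_.Fin.forall_fin_succ, _root_.Matrix.transpose_apply, _root_.Matrix.map_apply, _root_.Matrix.of_apply, _root_.Matrix.cons_val', _root_.Matrix.cons_val_fin_one, Fin.isValue, _root_.Matrix.cons_val_zero, _root_.Matrix.cons_val_succ, _root_.forall_const, _root_.one_pow, _root_.ne_eq, _root_.OfNat.ofNat_ne_zero, _root_.not_false_eq_true, _root_.zero_pow, _root_.and_self, _root_.and_true, _root_.true_and]) <;> (repeat' with_reducible apply And.intro) <;> try grobner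

theorem ct_P : ct (mP : M3 F) = mQ := by
  have h2 := h.two
  have h1 := h.eq
  ext i j
  (revert i j; simp only [mD, mE, mP, mQ, mW, mJ, mZ, mA, mB, mG, mH, ct, Matrix.mul_apply, Fin.sum_univ_three, _root_.Fin.forall_fin_succ, _root_.Matrix.transpose_apply, _root_.Matrix.map_apply, _root_.Matrix.of_apply, _root_.Matrix.cons_val', _root_.Matrix.cons_val_fin_one, Fin.isValue, _root_.Matrix.cons_val_zero, _root_.Matrix.cons_val_succ, _root_.forall_const, _root_.ne_eq, _root_.OfNat.ofNat_ne_zero, _root_.not_false_eq_true, _root_.zero_pow, _root_.one_pow, _root_.and_self, _root_.implies_true]) <;> (repeat' with_reducible apply And.intro) <;> try grind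

attribute [-instance] instNoNatZeroDivisorsOfIsAddTorsionFree instIsCharPOfIsLeftCancelAddOfCharP in
theorem DD : mD ω * ct (mD ω) = 1 := by
  have h2 := h.two
  have h1 := h.eq
  ext i j
  (revert i j; simp only [mD, mE, mP, mQ, mW, mJ, mZ, mA, mB, mG, mH, ct, Matrix.mul_apply, Fin.sum_univ_three, _root_.Fin.forall_fin_succ, _root_.Matrix.of_apply, _root_.Matrix.cons_val', _root_.Matrix.cons_val_fin_one, _root_.Matrix.transpose_apply, _root_.Matrix.map_apply, Fin.isValue, _root_.Matrix.cons_val_zero, _root_.Matrix.cons_val_one, _root_.Matrix.cons_val, _root_.one_pow, _root_.mul_one, _root_.ne_eq, _root_.OfNat.ofNat_ne_zero, _root_.not_false_eq_true, _root_.zero_pow, _root_.MulZeroClass.mul_zero, _root_.add_zero, _root_.Matrix.cons_val_succ, _root_.zero_add, _root_.IsEmpty.forall_iff, _root_.and_true, _root_.Matrix.one_apply_eq, _root_.MulZeroClass.zero_mul, Nat.reduceAdd, _root_.Fin.succ_zero_eq_one, _root_.zero_ne_one, _root_.Matrix.one_apply_ne, _root_.Fin.succ_one_eq_two, Fin.reduceEq,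 _root_.and_self, _root_.Fin.succ_ne_zero, _root_.true_and]) <;> (repeat' with_reducible apply And.intro) <;> try grobner

theorem PP : mP * ct (mP : M3 F) = 1 := by
  have h2 := h.two
  have h1 := h.eq
  ext i j
  (revert i j; simp only [mD, mE, mP, mQ, mW, mJ, mZ, mA, mB, mG, mH, ct, Matrix.mul_apply, Fin.sum_univ_three, _root_.Fin.forall_fin_succ, _root_.Matrix.of_apply, _root_.Matrix.cons_val', _root_.Matrix.cons_val_fin_one, _root_.Matrix.transpose_apply, _root_.Matrix.map_apply, Fin.isValue, _root_.Matrix.cons_val_zero, _root_.Matrix.cons_val_one, _root_.Matrix.cons_val, _root_.ne_eq, _root_.OfNat.ofNat_ne_zero, _root_.not_false_eq_true, _root_.zero_pow, _root_.MulZeroClass.mul_zero, _root_.one_pow, _root_.mul_one, _root_.zero_add, _root_.add_zero, _root_.Matrix.cons_val_succ, _root_.IsEmpty.forall_iff, _root_.and_true, _root_.Matrix.one_apply_eq, Nat.reduceAdd, _root_.Fin.succ_zero_eq_one, _root_.zero_ne_one, _root_.Matrix.one_apply_ne, _root_.Fin.succ_one_eq_two, Fin.reduceEq,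 _root_.and_self, _root_.Fin.succ_ne_zero, _root_.true_and]) <;> (repeat' with_reducible apply And.intro) <;> try grind

attribute [-instance] instNoNatZeroDivisorsOfIsAddTorsionFree instIsCharPOfIsLeftCancelAddOfCharP in
theorem WW : mW ω * ct (mW ω) = 1 := by
  have h2 := h.two
  have h1 := h.eq
  ext i j
  (revert i j; simp only [mD, mE, mP, mQ, mW, mJ, mZ, mA, mB, mG, mH, ct, Matrix.mul_apply, Fin.sum_univ_three, _root_.Fin.forall_fin_succ, _root_.Matrix.of_apply, _root_.Matrix.cons_val', _root_.Matrix.cons_val_fin_one, _root_.Matrix.transpose_apply, _root_.Matrix.map_apply, Fin.isValue, _root_.Matrix.cons_val_zero, _root_.Matrix.cons_val_one, _root_.Matrix.cons_val, _root_.one_pow, _root_.mul_one, _root_.Matrix.cons_val_succ, _root_.IsEmpty.forall_iff, _root_.and_true, _root_.Matrix.one_apply_eq, _root_.add_eq_right, _root_.one_mul, Nat.reduceAdd, _root_.Fin.succ_zero_eq_one, _root_.ne_eq, _root_.zero_ne_one, _root_.not_false_eq_true, _root_.Matrix.one_apply_ne, _root_.Fin.succ_one_eq_two,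 Fin.reduceEq, _root_.Fin.succ_ne_zero]) <;> (repeat' with_reducible apply And.intro) <;> try grobner

attribute [-instance] instNoNatZeroDivisorsOfIsAddTorsionFree instIsCharPOfIsLeftCancelAddOfCharP in
theorem JJ : mJ ω * ct (mJ ω) = 1 := by
  have h2 := h.two
  have h1 := h.eq
  ext i j
  (revert i j; simp only [mD, mE, mP, mQ, mW, mJ, mZ, mA, mB, mG, mH, ct, Matrix.mul_apply, Fin.sum_univ_three, _root_.Fin.forall_fin_succ, _root_.Matrix.of_apply, _root_.Matrix.cons_val', _root_.Matrix.cons_val_fin_one, _root_.Matrix.transpose_apply, _root_.Matrix.map_apply, Fin.isValue, _root_.Matrix.cons_val_zero, _root_.Matrix.cons_val_one, _root_.Matrix.cons_val, _root_.one_pow, _root_.mul_one, _root_.Matrix.cons_val_succ, _root_.IsEmpty.forall_iff, _root_.and_true, _root_.Matrix.one_apply_eq, _root_.one_mul, Nat.reduceAdd, _root_.Fin.succ_zero_eq_one, _root_.ne_eq, _root_.zero_ne_one, _root_.not_false_eq_true, _root_.Matrix.one_apply_ne, _root_.Fin.succ_one_eq_two, Fin.reduceEq, _root_.Fin.succ_ne_zero])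 <;> (repeat' with_reducible apply And.intro) <;> try grobner

theorem ZZ : mZ * ct (mZ : M3 F) = 1 := by
  have h2 := h.two
  have h1 := h.eq
  ext i j
  (revert i j; simp only [mD, mE, mP, mQ, mW, mJ, mZ, mA, mB, mG, mH, ct, Matrix.mul_apply, Fin.sum_univ_three, _root_.Fin.forall_fin_succ, _root_.Matrix.of_apply, _root_.Matrix.cons_val', _root_.Matrix.cons_val_fin_one, _root_.Matrix.transpose_apply, _root_.Matrix.map_apply, Fin.isValue, _root_.Matrix.cons_val_zero, _root_.Matrix.cons_val_one, _root_.Matrix.cons_val, _root_.one_pow, _root_.mul_one, _root_.ne_eq, _root_.OfNat.ofNat_ne_zero, _root_.not_false_eq_true, _root_.zero_pow, _root_.MulZeroClass.mul_zero, _root_.add_zero, _root_.Matrix.cons_val_succ, _root_.zero_add, _root_.IsEmpty.forall_iff, _root_.and_true, _root_.Matrix.one_apply_eq, Nat.reduceAdd, _root_.Fin.succ_zero_eq_one, _root_.zero_ne_one, _root_.Matrix.one_apply_ne, _root_.Fin.succ_one_eq_two, Fin.reduceEq, _root_.and_self, _root_.Fin.succ_ne_zero, _root_.true_and])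 <;> (repeat' with_reducible apply And.intro) <;> try grind

attribute [-instance] instNoNatZeroDivisorsOfIsAddTorsionFree instIsCharPOfIsLeftCancelAddOfCharP in
theorem W2 : mW ω * mW ω = mZ := by
  have h2 := h.two
  have h1 := h.eq
  ext i j
  (revert i j; simp only [mD, mE, mP, mQ, mW, mJ, mZ, mA, mB, mG, mH, ct, Matrix.mul_apply, Fin.sum_univ_three, _root_.Fin.forall_fin_succ, _root_.Matrix.of_apply, _root_.Matrix.cons_val', _root_.Matrix.cons_val_fin_one, Fin.isValue, _root_.Matrix.cons_val_zero, _root_.Matrix.cons_val_one, _root_.Matrix.cons_val, _root_.mul_one, _root_.Matrix.cons_val_succ, _root_.forall_const, _root_.add_eq_right, _root_.one_mul]) <;> (repeat' with_reducible apply And.intro) <;> try grobner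

attribute [-instance] instNoNatZeroDivisorsOfIsAddTorsionFree instIsCharPOfIsLeftCancelAddOfCharP in
theorem J2 : mJ ω * mJ ω = mZ := by
  have h2 := h.two
  have h1 := h.eq
  ext i j
  (revert i j; simp only [mD, mE, mP, mQ, mW, mJ, mZ, mA, mB, mG, mH, ct, Matrix.mul_apply, Fin.sum_univ_three, _root_.Fin.forall_fin_succ, _root_.Matrix.of_apply, _root_.Matrix.cons_val', _root_.Matrix.cons_val_fin_one, Fin.isValue, _root_.Matrix.cons_val_zero, _root_.Matrix.cons_val_one, _root_.Matrix.cons_val, _root_.mul_one, _root_.Matrix.cons_val_succ, _root_.forall_const, _root_.one_mul]) <;> (repeat' with_reducible apply And.intro) <;> try grobner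

theorem Z2 : mZ * (mZ : M3 F) = 1 := by
  have h2 := h.two
  have h1 := h.eq
  ext i j
  (revert i j; simp only [mD, mE, mP, mQ, mW, mJ, mZ, mA, mB, mG, mH, ct, Matrix.mul_apply, Fin.sum_univ_three, _root_.Fin.forall_fin_succ, _root_.Matrix.of_apply, _root_.Matrix.cons_val', _root_.Matrix.cons_val_fin_one, Fin.isValue, _root_.Matrix.cons_val_zero, _root_.Matrix.cons_val_one, _root_.Matrix.cons_val, _root_.mul_one, _root_.MulZeroClass.mul_zero, _root_.add_zero, _root_.Matrix.cons_val_succ, _root_.zero_add, _root_.IsEmpty.forall_iff, _root_.and_true, _root_.Matrix.one_apply_eq, Nat.reduceAdd, _root_.Fin.succ_zero_eq_one, _root_.ne_eq, _root_.zero_ne_one, _root_.not_false_eq_true, _root_.Matrix.one_apply_ne, _root_.Fin.succ_one_eq_two, Fin.reduceEq, _root_.and_self, _root_.Fin.succ_ne_zero, _root_.true_and]) <;> (repeat' with_reducible apply And.intro) <;> try grind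

attribute [-instance] instNoNatZeroDivisorsOfIsAddTorsionFree instIsCharPOfIsLeftCancelAddOfCharP in
theorem WJ : mW ω * mJ ω = mZ * (mJ ω * mW ω) := by
  have h2 := h.two
  have h1 := h.eq
  ext i j
  (revert i j; simp only [mD, mE, mP, mQ, mW, mJ, mZ, mA, mB, mG, mH, ct, Matrix.mul_apply, Fin.sum_univ_three, _root_.Fin.forall_fin_succ, _root_.Matrix.of_apply, _root_.Matrix.cons_val', _root_.Matrix.cons_val_fin_one, Fin.isValue, _root_.Matrix.cons_val_zero, _root_.Matrix.cons_val_one, _root_.Matrix.cons_val, _root_.Matrix.cons_mul, _root_.Nat.succ_eq_add_one, Nat.reduceAdd, _root_.Matrix.vecMul_cons, _root_.Matrix.head_cons, _root_.one_smul, _root_.Matrix.tail_cons, _root_.Matrix.smul_cons, _root_.smul_eq_mul, _root_.mul_one, _root_.Matrix.smul_empty, _root_.Matrix.empty_vecMul, _root_.add_zero, _root_.Matrix.add_cons, _root_.Matrix.empty_add_empty, _root_.Matrix.empty_mul, _root_.Equiv.symm_apply_apply, _root_.Matrix.cons_val_succ, _root_.forall_const, _root_.one_mul, _root_.MulZeroClass.zero_mul,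 _root_.zero_add]) <;> (repeat' with_reducible apply And.intro) <;> try grobner

attribute [-instance] instNoNatZeroDivisorsOfIsAddTorsionFree instIsCharPOfIsLeftCancelAddOfCharP in
theorem WD : mW ω * mD ω = mP * mW ω := by
  have h2 := h.two
  have h1 := h.eq
  ext i j
  (revert i j; simp only [mD, mE, mP, mQ, mW, mJ, mZ, mA, mB, mG, mH, ct, Matrix.mul_apply, Fin.sum_univ_three, _root_.Fin.forall_fin_succ, _root_.Matrix.of_apply, _root_.Matrix.cons_val', _root_.Matrix.cons_val_fin_one, Fin.isValue, _root_.Matrix.cons_val_zero, _root_.Matrix.cons_val_one, _root_.Matrix.cons_val, _root_.mul_one, _root_.MulZeroClass.mul_zero, _root_.add_zero, _root_.Matrix.cons_val_succ, _root_.zero_add, _root_.forall_const, _root_.one_mul, _root_.MulZeroClass.zero_mul, _root_.and_self, _root_.true_and]) <;> (repeat' with_reducible apply And.intro) <;> try grobner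

attribute [-instance] instNoNatZeroDivisorsOfIsAddTorsionFree instIsCharPOfIsLeftCancelAddOfCharP in
theorem WP : mW ω * mP = mE ω * mW ω := by
  have h2 := h.two
  have h1 := h.eq
  ext i j
  (revert i j; simp only [mD, mE, mP, mQ, mW, mJ, mZ, mA, mB, mG, mH, ct, Matrix.mul_apply, Fin.sum_univ_three, _root_.Fin.forall_fin_succ, _root_.Matrix.of_apply, _root_.Matrix.cons_val', _root_.Matrix.cons_val_fin_one, Fin.isValue, _root_.Matrix.cons_val_zero, _root_.Matrix.cons_val_one, _root_.Matrix.cons_val, _root_.MulZeroClass.mul_zero, _root_.add_zero, _root_.mul_one, _root_.zero_add, _root_.Matrix.cons_val_succ, _root_.forall_const, _root_.MulZeroClass.zero_mul, _root_.and_self, _root_.true_and]) <;> (repeat' with_reducible apply And.intro) <;> try grobner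

attribute [-instance] instNoNatZeroDivisorsOfIsAddTorsionFree instIsCharPOfIsLeftCancelAddOfCharP in
theorem JD : mJ ω * mD ω = (ω + 1) • (mD ω * mP * mJ ω) := by
  have h2 := h.two
  have h1 := h.eq
  ext i j
  (revert i j; simp only [mD, mE, mP, mQ, mW, mJ, mZ, mA, mB, mG, mH, ct, Matrix.mul_apply, Fin.sum_univ_three, _root_.Fin.forall_fin_succ, _root_.Matrix.of_apply, _root_.Matrix.cons_val', _root_.Matrix.cons_val_fin_one, Fin.isValue, _root_.Matrix.cons_val_zero, _root_.Matrix.cons_val_one, _root_.Matrix.cons_val, _root_.Matrix.cons_mul, _root_.Nat.succ_eq_add_one, Nat.reduceAdd, _root_.Matrix.vecMul_cons, _root_.Matrix.head_cons, _root_.one_smul, _root_.Matrix.tail_cons, _root_.zero_smul, _root_.Matrix.empty_vecMul, _root_.add_zero, _root_.Matrix.smul_cons, _root_.smul_eq_mul, _root_.MulZeroClass.mul_zero, _root_.mul_one, _root_.Matrix.smul_empty, _root_.zero_add, _root_.Matrix.empty_mul, _root_.Equiv.symm_apply_apply, _root_.Matrix.smul_apply, _root_.Matrix.cons_val_succ, _root_.forall_const,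 _root_.and_self, _root_.and_true, _root_.mul_eq_mul_left_iff]) <;> (repeat' with_reducible apply And.intro) <;> try grobner

attribute [-instance] instNoNatZeroDivisorsOfIsAddTorsionFree instIsCharPOfIsLeftCancelAddOfCharP in
theorem JP : mJ ω * mP = ω • (mD ω * mQ * mJ ω) := by
  have h2 := h.two
  have h1 := h.eq
  ext i j
  (revert i j; simp only [mD, mE, mP, mQ, mW, mJ, mZ, mA, mB, mG, mH, ct, Matrix.mul_apply, Fin.sum_univ_three, _root_.Fin.forall_fin_succ, _root_.Matrix.of_apply, _root_.Matrix.cons_val', _root_.Matrix.cons_val_fin_one, Fin.isValue, _root_.Matrix.cons_val_zero, _root_.Matrix.cons_val_one, _root_.Matrix.cons_val, _root_.Matrix.cons_mul, _root_.Nat.succ_eq_add_one, Nat.reduceAdd, _root_.Matrix.vecMul_cons, _root_.Matrix.head_cons, _root_.one_smul, _root_.Matrix.tail_cons, _root_.zero_smul, _root_.Matrix.empty_vecMul, _root_.add_zero, _root_.Matrix.smul_cons, _root_.smul_eq_mul, _root_.mul_one, _root_.MulZeroClass.mul_zero, _root_.Matrix.smul_empty, _root_.zero_add,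 _root_.Matrix.empty_mul, _root_.Equiv.symm_apply_apply, _root_.Matrix.smul_apply, _root_.Matrix.cons_val_succ, _root_.forall_const, _root_.and_self, _root_.and_self_left]) <;> (repeat' with_reducible apply And.intro) <;> try grobner

attribute [-instance] instNoNatZeroDivisorsOfIsAddTorsionFree instIsCharPOfIsLeftCancelAddOfCharP in
theorem cWD : mW ω * mD ω * ct (mW ω) = mP := by
  have h2 := h.two
  have h1 := h.eq
  ext i j
  (revert i j; simp only [mD, mE, mP, mQ, mW, mJ, mZ, mA, mB, mG, mH, ct, Matrix.mul_apply, Fin.sum_univ_three, _root_.Fin.forall_fin_succ, _root_.Matrix.cons_mul, _root_.Nat.succ_eq_add_one, Nat.reduceAdd, _root_.Matrix.vecMul_cons, _root_.Matrix.head_cons, _root_.one_smul, _root_.Matrix.tail_cons, _root_.Matrix.empty_vecMul, _root_.add_zero, _root_.Matrix.add_cons, _root_.zero_add, _root_.Matrix.empty_add_empty, _root_.Matrix.smul_cons, _root_.smul_eq_mul, _root_.MulZeroClass.mul_zero, _root_.Matrix.smul_empty, _root_.Matrix.empty_mul, _root_.Equiv.symm_apply_apply,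 _root_.Matrix.of_apply, _root_.Matrix.cons_val', _root_.Matrix.cons_val_fin_one, _root_.Matrix.transpose_apply, _root_.Matrix.map_apply, Fin.isValue, _root_.Matrix.cons_val_zero, _root_.Matrix.cons_val_one, _root_.Matrix.cons_val, _root_.one_pow, _root_.mul_one, _root_.Matrix.cons_val_succ, _root_.forall_const]) <;> (repeat' with_reducible apply And.intro) <;> try grobner

theorem cZD : mZ * mD ω * ct mZ = mE ω := by
  have h2 := h.two
  have h1 := h.eq
  ext i j
  (revert i j; simp only [mD, mE, mP, mQ, mW, mJ, mZ, mA, mB, mG, mH, ct, Matrix.mul_apply, Fin.sum_univ_three, _root_.Fin.forall_fin_succ, _root_.Matrix.cons_mul, _root_.Nat.succ_eq_add_one, Nat.reduceAdd, _root_.Matrix.vecMul_cons, _root_.Matrix.head_cons, _root_.one_smul, _root_.Matrix.tail_cons, _root_.zero_smul, _root_.Matrix.empty_vecMul, _root_.add_zero, _root_.zero_add, _root_.Matrix.empty_mul, _root_.Equiv.symm_apply_apply, _root_.Matrix.of_apply, _root_.Matrix.cons_val', _root_.Matrix.cons_val_fin_one, _root_.Matrix.transpose_apply,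 _root_.Matrix.map_apply, Fin.isValue, _root_.Matrix.cons_val_zero, _root_.Matrix.cons_val_one, _root_.Matrix.cons_val, _root_.one_pow, _root_.mul_one, _root_.ne_eq, _root_.OfNat.ofNat_ne_zero, _root_.not_false_eq_true, _root_.zero_pow, _root_.MulZeroClass.mul_zero, _root_.Matrix.cons_val_succ, _root_.implies_true, _root_.and_self]) <;> (repeat' with_reducible apply And.intro) <;> try grind

theorem cZP : mZ * mP * ct (mZ : M3 F) = mQ := by
  have h2 := h.two
  have h1 := h.eq
  ext i j
  (revert i j; simp only [mD, mE, mP, mQ, mW, mJ, mZ, mA, mB, mG, mH, ct, Matrix.mul_apply, Fin.sum_univ_three, _root_.Fin.forall_fin_succ, _root_.Matrix.cons_mul, _root_.Nat.succ_eq_add_one, Nat.reduceAdd, _root_.Matrix.vecMul_cons, _root_.Matrix.head_cons, _root_.one_smul, _root_.Matrix.tail_cons, _root_.zero_smul, _root_.Matrix.empty_vecMul, _root_.add_zero, _root_.zero_add, _root_.Matrix.empty_mul, _root_.Equiv.symm_apply_apply, _root_.Matrix.of_apply, _root_.Matrix.cons_val', _root_.Matrix.cons_val_fin_one,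 _root_.Matrix.transpose_apply, _root_.Matrix.map_apply, Fin.isValue, _root_.Matrix.cons_val_zero, _root_.Matrix.cons_val_one, _root_.Matrix.cons_val, _root_.one_pow, _root_.mul_one, _root_.ne_eq, _root_.OfNat.ofNat_ne_zero, _root_.not_false_eq_true, _root_.zero_pow, _root_.MulZeroClass.mul_zero, _root_.Matrix.cons_val_succ, _root_.implies_true, _root_.and_self]) <;> (repeat' with_reducible apply And.intro) <;> try grind

attribute [-instance] instNoNatZeroDivisorsOfIsAddTorsionFree instIsCharPOfIsLeftCancelAddOfCharP in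
theorem cDD : mD ω * mD ω * ct (mD ω) = mD ω := by
  have h2 := h.two
  have h1 := h.eq
  ext i j
  (revert i j; simp only [mD, mE, mP, mQ, mW, mJ, mZ, mA, mB, mG, mH, ct, Matrix.mul_apply, Fin.sum_univ_three, _root_.Fin.forall_fin_succ, _root_.Matrix.cons_mul, _root_.Nat.succ_eq_add_one, Nat.reduceAdd, _root_.Matrix.vecMul_cons, _root_.Matrix.head_cons, _root_.one_smul, _root_.Matrix.tail_cons, _root_.zero_smul, _root_.Matrix.empty_vecMul, _root_.add_zero, _root_.Matrix.smul_cons, _root_.smul_eq_mul, _root_.MulZeroClass.mul_zero, _root_.Matrix.smul_empty, _root_.zero_add, _root_.Matrix.empty_mul, _root_.Equiv.symm_apply_apply, _root_.Matrix.of_apply, _root_.Matrix.cons_val', _root_.Matrix.cons_val_fin_one, _root_.Matrix.transpose_apply, _root_.Matrix.map_apply, Fin.isValue, _root_.Matrix.cons_val_zero, _root_.Matrix.cons_val_one, _root_.Matrix.cons_val, _root_.one_pow, _root_.mul_one, _root_.ne_eq, _root_.OfNat.ofNat_ne_zero, _root_.not_false_eq_true, _root_.zero_pow, _root_.Matrix.cons_val_succ,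 _root_.forall_const, _root_.true_and, _root_.MulZeroClass.zero_mul, _root_.and_self, _root_.and_true]) <;> (repeat' with_reducible apply And.intro) <;> try grobner

attribute [-instance] instNoNatZeroDivisorsOfIsAddTorsionFree instIsCharPOfIsLeftCancelAddOfCharP in
theorem cPD : mP * mD ω * ct mP = ω • mD ω := by
  have h2 := h.two
  have h1 := h.eq
  ext i j
  (revert i j; simp only [mD, mE, mP, mQ, mW, mJ, mZ, mA, mB, mG, mH, ct, Matrix.mul_apply, Fin.sum_univ_three, _root_.Fin.forall_fin_succ, _root_.Matrix.cons_mul, _root_.Nat.succ_eq_add_one, Nat.reduceAdd, _root_.Matrix.vecMul_cons, _root_.Matrix.head_cons, _root_.zero_smul, _root_.Matrix.tail_cons, _root_.one_smul, _root_.Matrix.empty_vecMul, _root_.add_zero, _root_.zero_add, _root_.Matrix.empty_mul, _root_.Equiv.symm_apply_apply, _root_.Matrix.of_apply, _root_.Matrix.cons_val', _root_.Matrix.cons_val_fin_one, _root_.Matrix.transpose_apply, _root_.Matrix.map_apply, Fin.isValue, _root_.Matrix.cons_val_zero, _root_.Matrix.cons_val_one,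 _root_.Matrix.cons_val, _root_.Matrix.smul_apply, _root_.smul_eq_mul, _root_.ne_eq, _root_.OfNat.ofNat_ne_zero, _root_.not_false_eq_true, _root_.zero_pow, _root_.MulZeroClass.mul_zero, _root_.one_pow, _root_.mul_one, _root_.Matrix.cons_val_succ, _root_.forall_const, _root_.and_self, _root_.and_true, _root_.true_and]) <;> (repeat' with_reducible apply And.intro) <;> try grobner

attribute [-instance] instNoNatZeroDivisorsOfIsAddTorsionFree instIsCharPOfIsLeftCancelAddOfCharP in
theorem cJD : mJ ω * mD ω * ct (mJ ω) = mA ω := by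
  have h2 := h.two
  have h1 := h.eq
  ext i j
  (revert i j; simp only [mD, mE, mP, mQ, mW, mJ, mZ, mA, mB, mG, mH, ct, Matrix.mul_apply, Fin.sum_univ_three, _root_.Fin.forall_fin_succ, _root_.Matrix.cons_mul, _root_.Nat.succ_eq_add_one, Nat.reduceAdd, _root_.Matrix.vecMul_cons, _root_.Matrix.head_cons, _root_.one_smul, _root_.Matrix.tail_cons, _root_.Matrix.smul_cons, _root_.smul_eq_mul, _root_.MulZeroClass.mul_zero, _root_.Matrix.smul_empty, _root_.Matrix.empty_vecMul, _root_.add_zero, _root_.Matrix.add_cons, _root_.zero_add, _root_.Matrix.empty_add_empty, _root_.mul_one, _root_.Matrix.empty_mul, _root_.Equiv.symm_apply_apply, _root_.Matrix.of_apply, _root_.Matrix.cons_val', _root_.Matrix.cons_val_fin_one, _root_.Matrix.transpose_apply, _root_.Matrix.map_apply, Fin.isValue, _root_.Matrix.cons_val_zero, _root_.Matrix.cons_val_one, _root_.Matrix.cons_val, _root_.one_pow, _root_.Matrix.cons_val_succ, _root_.forall_const, _root_.one_mul]) <;> (repeat' with_reducible apply And.intro) <;>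 try grobner

attribute [-instance] instNoNatZeroDivisorsOfIsAddTorsionFree instIsCharPOfIsLeftCancelAddOfCharP in
theorem cWA : mW ω * mA ω * ct (mW ω) = mB ω := by
  have h2 := h.two
  have h1 := h.eq
  ext i j
  (revert i j; simp only [mD, mE, mP, mQ, mW, mJ, mZ, mA, mB, mG, mH, ct, Matrix.mul_apply, Fin.sum_univ_three, _root_.Fin.forall_fin_succ, _root_.Matrix.cons_mul, _root_.Nat.succ_eq_add_one, Nat.reduceAdd, _root_.Matrix.vecMul_cons, _root_.Matrix.head_cons, _root_.one_smul, _root_.Matrix.tail_cons, _root_.Matrix.empty_vecMul, _root_.add_zero, _root_.Matrix.add_cons, _root_.zero_add, _root_.Matrix.empty_add_empty, _root_.Matrix.smul_cons, _root_.smul_eq_mul, _root_.MulZeroClass.mul_zero, _root_.mul_one, _root_.Matrix.smul_empty, _root_.Matrix.empty_mul, _root_.Equiv.symm_apply_apply, _root_.Matrix.of_apply, _root_.Matrix.cons_val', _root_.Matrix.cons_val_fin_one, _root_.Matrix.transpose_apply, _root_.Matrix.map_apply, Fin.isValue, _root_.Matrix.cons_val_zero, _root_.Matrix.cons_val_one,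 _root_.Matrix.cons_val, _root_.one_pow, _root_.Matrix.cons_val_succ, _root_.forall_const, _root_.one_mul, _root_.add_eq_right]) <;> (repeat' with_reducible apply And.intro) <;> try grobner

attribute [-instance] instNoNatZeroDivisorsOfIsAddTorsionFree instIsCharPOfIsLeftCancelAddOfCharP in
theorem sum8 : mD ω + mE ω + mP + mQ + mA ω + ct (mA ω) + mB ω + ct (mB ω) = mZ + 1 := by
  have h2 := h.two
  have h1 := h.eq
  ext i j
  (revert i j; simp only [mD, mE, mP, mQ, mW, mJ, mZ, mA, mB, mG, mH, ct, Matrix.mul_apply, Fin.sum_univ_three, _root_.Fin.forall_fin_succ, _root_.Matrix.of_add_of, _root_.Matrix.add_cons, _root_.Matrix.head_cons, _root_.Matrix.tail_cons, _root_.add_zero, _root_.Matrix.empty_add_empty, _root_.zero_add, _root_.Matrix.add_apply, _root_.Matrix.of_apply, _root_.Matrix.cons_val', _root_.Matrix.cons_val_fin_one, _root_.Matrix.transpose_apply, _root_.Matrix.map_apply, Fin.isValue, _root_.Matrix.cons_val_zero, _root_.Matrix.cons_val_succ, _root_.IsEmpty.forall_iff, _root_.and_true,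 _root_.ne_eq, _root_.OfNat.ofNat_ne_zero, _root_.not_false_eq_true, _root_.zero_pow, _root_.Matrix.one_apply_eq, Nat.reduceAdd, _root_.Fin.succ_zero_eq_one, _root_.zero_ne_one, _root_.Matrix.one_apply_ne, _root_.Fin.succ_one_eq_two, Fin.reduceEq, _root_.true_and, _root_.Fin.succ_ne_zero, _root_.add_eq_right, _root_.one_pow]) <;> (repeat' with_reducible apply And.intro) <;> try grobner

attribute [-instance] instNoNatZeroDivisorsOfIsAddTorsionFree instIsCharPOfIsLeftCancelAddOfCharP in
theorem cZA : mZ * mA ω * ct mZ = ct (mA ω) := by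
  have h2 := h.two
  have h1 := h.eq
  ext i j
  (revert i j; simp only [mD, mE, mP, mQ, mW, mJ, mZ, mA, mB, mG, mH, ct, Matrix.mul_apply, Fin.sum_univ_three, _root_.Fin.forall_fin_succ, _root_.Matrix.cons_mul, _root_.Nat.succ_eq_add_one, Nat.reduceAdd, _root_.Matrix.vecMul_cons, _root_.Matrix.head_cons, _root_.one_smul, _root_.Matrix.tail_cons, _root_.zero_smul, _root_.Matrix.empty_vecMul, _root_.add_zero, _root_.zero_add, _root_.Matrix.empty_mul, _root_.Equiv.symm_apply_apply, _root_.Matrix.of_apply, _root_.Matrix.cons_val', _root_.Matrix.cons_val_fin_one, _root_.Matrix.transpose_apply, _root_.Matrix.map_apply, Fin.isValue, _root_.Matrix.cons_val_zero, _root_.Matrix.cons_val_one, _root_.Matrix.cons_val, _root_.one_pow, _root_.mul_one, _root_.ne_eq, _root_.OfNat.ofNat_ne_zero, _root_.not_false_eq_true, _root_.zero_pow, _root_.MulZeroClass.mul_zero, _root_.Matrix.cons_val_succ, _root_.forall_const, _root_.true_and, _root_.and_self, _root_.and_true, _root_.implies_true]) <;> (repeat' with_reducible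 apply And.intro) <;> try grobner

attribute [-instance] instNoNatZeroDivisorsOfIsAddTorsionFree instIsCharPOfIsLeftCancelAddOfCharP in
theorem cZB : mZ * mB ω * ct mZ = ct (mB ω) := by
  have h2 := h.two
  have h1 := h.eq
  ext i j
  (revert i j; simp only [mD, mE, mP, mQ, mW, mJ, mZ, mA, mB, mG, mH, ct, Matrix.mul_apply, Fin.sum_univ_three, _root_.Fin.forall_fin_succ, _root_.Matrix.cons_mul, _root_.Nat.succ_eq_add_one, Nat.reduceAdd, _root_.Matrix.vecMul_cons, _root_.Matrix.head_cons, _root_.one_smul, _root_.Matrix.tail_cons, _root_.zero_smul, _root_.Matrix.empty_vecMul, _root_.add_zero, _root_.zero_add, _root_.Matrix.empty_mul, _root_.Equiv.symm_apply_apply, _root_.Matrix.of_apply, _root_.Matrix.cons_val', _root_.Matrix.cons_val_fin_one, _root_.Matrix.transpose_apply, _root_.Matrix.map_apply, Fin.isValue, _root_.Matrix.cons_val_zero, _root_.Matrix.cons_val_one, _root_.Matrix.cons_val, _root_.one_pow, _root_.mul_one, _root_.ne_eq, _root_.OfNat.ofNat_ne_zero, _root_.not_false_eq_true,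 _root_.zero_pow, _root_.MulZeroClass.mul_zero, _root_.Matrix.cons_val_succ, _root_.forall_const, _root_.true_and, _root_.and_self, _root_.and_true, _root_.implies_true]) <;> (repeat' with_reducible apply And.intro) <;> try grobner

attribute [-instance] instNoNatZeroDivisorsOfIsAddTorsionFree instIsCharPOfIsLeftCancelAddOfCharP in
theorem hf1 : (1 : M3 F) + mD ω + mE ω = !![1, 0, 0; 0, 0, 0; 0, 0, 0] := by
  have h2 := h.two
  have h1 := h.eq
  ext i j
  (revert i j; simp only [mD, mE, mP, mQ, mW, mJ, mZ, mA, mB, mG, mH, ct, Matrix.mul_apply, Fin.sum_univ_three, _root_.Fin.forall_fin_succ, _root_.Matrix.add_apply, _root_.Matrix.of_apply, _root_.Matrix.cons_val', _root_.Matrix.cons_val_fin_one, Fin.isValue, _root_.Matrix.cons_val_zero, _root_.add_eq_right, _root_.Matrix.cons_val_succ, _root_.IsEmpty.forall_iff, _root_.and_true, _root_.Matrix.one_apply_eq, Nat.reduceAdd, _root_.Fin.succ_zero_eq_one, _root_.ne_eq, _root_.zero_ne_one, _root_.not_false_eq_true, _root_.Matrix.one_apply_ne,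 _root_.add_zero, _root_.Fin.succ_one_eq_two, Fin.reduceEq, _root_.and_self, _root_.Fin.succ_ne_zero, _root_.zero_add, _root_.true_and]) <;> (repeat' with_reducible apply And.intro) <;> try grobner

attribute [-instance] instNoNatZeroDivisorsOfIsAddTorsionFree instIsCharPOfIsLeftCancelAddOfCharP in
theorem hf2 : mD ω + mE ω = !![0, 0, 0; 0, 1, 0; 0, 0, 1] := by
  have h2 := h.two
  have h1 := h.eq
  ext i j
  (revert i j; simp only [mD, mE, mP, mQ, mW, mJ, mZ, mA, mB, mG, mH, ct, Matrix.mul_apply, Fin.sum_univ_three, _root_.Fin.forall_fin_succ, _root_.Matrix.add_apply, _root_.Matrix.of_apply, _root_.Matrix.cons_val', _root_.Matrix.cons_val_fin_one, Fin.isValue, _root_.Matrix.cons_val_zero, _root_.Matrix.cons_val_succ, _root_.forall_const, _root_.add_zero, _root_.and_self, _root_.and_true, _root_.add_eq_left, _root_.true_and]) <;> (repeat' with_reducible apply And.intro) <;> try grobner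

attribute [-instance] instNoNatZeroDivisorsOfIsAddTorsionFree instIsCharPOfIsLeftCancelAddOfCharP in
theorem hG : mG * (1 + mD ω + mE ω) * ct mG = mZ + 1 := by
  have h2 := h.two
  have h1 := h.eq
  rw [hf1 h]
  ext i j
  (revert i j; simp only [mG, mZ, ct, Matrix.mul_apply, Fin.sum_univ_three, _root_.Fin.forall_fin_succ, _root_.Matrix.cons_mul, _root_.Nat.succ_eq_add_one, Nat.reduceAdd, _root_.Matrix.vecMul_cons, _root_.Matrix.head_cons, _root_.zero_smul, _root_.Matrix.tail_cons, _root_.one_smul, _root_.Matrix.empty_vecMul, _root_.add_zero, _root_.zero_add, _root_.Matrix.add_cons, _root_.Matrix.empty_add_empty, _root_.Matrix.empty_mul, _root_.Equiv.symm_apply_apply, _root_.Matrix.of_apply, _root_.Matrix.cons_val', _root_.Matrix.cons_val_fin_one, _root_.Matrix.transpose_apply, _root_.Matrix.map_apply, Fin.isValue, _root_.Matrix.cons_val_zero, _root_.Matrix.cons_val_one, _root_.Matrix.cons_val, _root_.Matrix.add_apply, _root_.ne_eq, _root_.OfNat.ofNat_ne_zero, _root_.not_false_eq_true,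 _root_.zero_pow, _root_.MulZeroClass.mul_zero, _root_.one_pow, _root_.mul_one, _root_.Matrix.cons_val_succ, _root_.IsEmpty.forall_iff, _root_.and_true, _root_.Matrix.one_apply_eq, _root_.Fin.succ_zero_eq_one, _root_.zero_ne_one, _root_.Matrix.one_apply_ne, _root_.Fin.succ_one_eq_two, Fin.reduceEq, _root_.and_self, _root_.Fin.succ_ne_zero, _root_.true_and, _root_.left_eq_add]) <;> (repeat' with_reducible apply And.intro) <;> try grobner

attribute [-instance] instNoNatZeroDivisorsOfIsAddTorsionFree instIsCharPOfIsLeftCancelAddOfCharP in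
theorem hH : mH * (mD ω + mE ω) * ct mH = mD ω + mE ω + mP + mQ := by
  have h2 := h.two
  have h1 := h.eq
  rw [hf2 h]
  ext i j
  (revert i j; simp only [mH, mP, mQ, ct, Matrix.mul_apply, Fin.sum_univ_three, _root_.Fin.forall_fin_succ, _root_.Matrix.cons_mul, _root_.Nat.succ_eq_add_one, Nat.reduceAdd, _root_.Matrix.vecMul_cons, _root_.Matrix.head_cons, _root_.zero_smul, _root_.Matrix.tail_cons, _root_.one_smul, _root_.Matrix.empty_vecMul, _root_.add_zero, _root_.Matrix.add_cons, _root_.zero_add, _root_.Matrix.empty_add_empty, _root_.Matrix.empty_mul, _root_.Equiv.symm_apply_apply, _root_.Matrix.of_apply, _root_.Matrix.cons_val', _root_.Matrix.cons_val_fin_one, _root_.Matrix.transpose_apply, _root_.Matrix.map_apply, Fin.isValue, _root_.Matrix.cons_val_zero, _root_.Matrix.cons_val_one, _root_.Matrix.cons_val, _root_.Matrix.of_add_of, _root_.Matrix.add_apply, _root_.ne_eq, _root_.OfNat.ofNat_ne_zero, _root_.not_false_eq_true, _root_.zero_pow, _root_.MulZeroClass.mul_zero, _root_.one_pow,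 _root_.mul_one, _root_.Matrix.cons_val_succ, _root_.forall_const, _root_.and_self, _root_.and_true, _root_.implies_true]) <;> (repeat' with_reducible apply And.intro) <;> try grobner

end

end Cfsg.Agent.H550.L34
end

-- part: H550/L34/Rel
section
/-!
# S5917: the group `3² : Q₈` of `PSL₃(4)` by explicit elements (helper550)
-/

set_option autoImplicit false

namespace Cfsg.Agent.H550.L34

open Matrix Cfsg.Agent.H691.L34

variable {F : Type} [Field F] {ω : F} (h : Om ω)

/-- `diag(1, ω, ω²)` -/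
def gD : G3 F := ⟨mD ω, det_D h⟩
/-- the cyclic permutation -/
def gP : G3 F := ⟨mP, det_P h⟩
def gE : G3 F := ⟨mE ω, det_E h⟩
def gQ : G3 F := ⟨mQ, det_Q h⟩
/-- the first generator of `Q₈` -/
def gW : G3 F := ⟨mW ω, det_W h⟩
/-- the second generator of `Q₈` -/
def gJ : G3 F := ⟨mJ ω, det_J h⟩
/-- the involution -/
def gZ : G3 F := ⟨mZ, det_Z h⟩

include h in
attribute [-instance] instNoNatZeroDivisorsOfIsAddTorsionFree instIsCharPOfIsLeftCancelAddOfCharP in
theorem om3 : ω ^ 3 = 1 := by
  have h2 := h.two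
  have h1 := h.eq
  grobner

include h in
attribute [-instance] instNoNatZeroDivisorsOfIsAddTorsionFree instIsCharPOfIsLeftCancelAddOfCharP in
theorem om_ne : ω ≠ 1 := by
  intro e
  have h2 := h.two
  have h1 := h.eq
  rw [e] at h1
  have : (1 : F) = 0 := by grobner
  exact one_ne_zero this

/-- scalar -/
def gS : G3 F := ⟨ω • (1 : M3 F), by
  rw [det_smul, det_one, mul_one, Fintype.card_fin, om3 h]⟩

theorem gS_center : gS h ∈ Subgroup.center (G3 F) := by
  rw [Subgroup.mem_center_iff]
  intro g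
  apply Subtype.ext
  show g.1 * (ω • (1 : M3 F)) = (ω • (1 : M3 F)) * g.1
  rw [Matrix.mul_smul, Matrix.smul_mul, mul_one, one_mul]

include h in
theorem om_sq : (ω + 1) = ω ^ 2 := h.eq.symm

theorem W_D : gW h * gD h = gP h * gW h := Subtype.ext (WD h)

theorem D_inv : (gD h)⁻¹ = gE h := by
  apply inv_eq_of_mul_eq_one_right
  apply Subtype.ext
  show mD ω * mE ω = 1
  rw [← ct_D h, DD h]

theorem P_inv : (gP h)⁻¹ = gQ h := by
  apply inv_eq_of_mul_eq_one_right
  apply Subtype.ext
  show mP * mQ = (1 : M3 F)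
  rw [← ct_P h, PP h]

theorem W_P' : gW h * gP h = (gD h)⁻¹ * gW h := by
  rw [D_inv]
  exact Subtype.ext (WP h)

theorem J_D : gJ h * gD h = gS h ^ 2 * (gD h * gP h * gJ h) := by
  apply Subtype.ext
  show mJ ω * mD ω = ((gS h) ^ 2 : G3 F).1 * (mD ω * mP * mJ ω)
  have e : ((gS h) ^ 2 : G3 F).1 = (ω ^ 2) • (1 : M3 F) := by
    rw [pow_two]
    show (ω • (1 : M3 F)) * (ω • (1 : M3 F)) = _
    rw [Matrix.smul_mul, one_mul, smul_smul, pow_two]
  rw [e, smul_mul, one_mul, JD h, om_sq h]

theorem J_P : gJ h * gP h = gS h * (gD h * (gP h)⁻¹ * gJ h) := by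
  rw [P_inv]
  apply Subtype.ext
  show mJ ω * mP = (ω • (1 : M3 F)) * (mD ω * mQ * mJ ω)
  rw [smul_mul, one_mul, JP h]

theorem W_W : gW h * gW h = gZ h := Subtype.ext (W2 h)

theorem J_J : gJ h * gJ h = gZ h := Subtype.ext (J2 h)

theorem Z_Z : gZ h * gZ h = 1 := Subtype.ext (Z2 h)

theorem W_J : gW h * gJ h = gZ h * (gJ h * gW h) := Subtype.ext (WJ h)

attribute [-instance] instNoNatZeroDivisorsOfIsAddTorsionFree instIsCharPOfIsLeftCancelAddOfCharP in
theorem D_3 : gD h ^ 3 = 1 := by
  have h2 := h.two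
  have h1 := h.eq
  apply Subtype.ext
  rw [pow_succ, pow_two]
  show mD ω * mD ω * mD ω = 1
  ext i j
  (revert i j; simp only [mD, Matrix.mul_apply, Fin.sum_univ_three, _root_.Fin.forall_fin_succ, _root_.Matrix.cons_mul, _root_.Nat.succ_eq_add_one, Nat.reduceAdd, _root_.Matrix.vecMul_cons, _root_.Matrix.head_cons, _root_.one_smul, _root_.Matrix.tail_cons, _root_.zero_smul, _root_.Matrix.empty_vecMul, _root_.add_zero, _root_.Matrix.smul_cons, _root_.smul_eq_mul, _root_.MulZeroClass.mul_zero, _root_.Matrix.smul_empty, _root_.zero_add, _root_.Matrix.empty_mul, _root_.Equiv.symm_apply_apply, _root_.Matrix.of_apply, _root_.Matrix.cons_val', _root_.Matrix.cons_val_fin_one, Fin.isValue, _root_.Matrix.cons_val_zero, _root_.Matrix.cons_val_one, _root_.Matrix.cons_val, _root_.mul_one, _root_.Matrix.cons_val_succ, _root_.IsEmpty.forall_iff, _root_.and_true, _root_.Matrix.one_apply_eq, _root_.MulZeroClass.zero_mul, _root_.Fin.succ_zero_eq_one, _root_.ne_eq, _root_.zero_ne_one, _root_.not_false_eq_true,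 _root_.Matrix.one_apply_ne, _root_.Fin.succ_one_eq_two, Fin.reduceEq, _root_.and_self, _root_.Fin.succ_ne_zero, _root_.true_and]) <;> grobner

theorem P_3 : gP h ^ 3 = 1 := by
  apply Subtype.ext
  rw [pow_succ, pow_two]
  show mP * mP * mP = (1 : M3 F)
  ext i j
  (revert i j; simp only [mP, Matrix.mul_apply, Fin.sum_univ_three, _root_.Fin.forall_fin_succ, _root_.Matrix.cons_mul, _root_.Nat.succ_eq_add_one, Nat.reduceAdd, _root_.Matrix.vecMul_cons, _root_.Matrix.head_cons, _root_.zero_smul, _root_.Matrix.tail_cons, _root_.one_smul, _root_.Matrix.empty_vecMul, _root_.add_zero, _root_.zero_add, _root_.Matrix.empty_mul, _root_.Equiv.symm_apply_apply, _root_.Matrix.of_apply, _root_.Matrix.cons_val', _root_.Matrix.cons_val_fin_one, Fin.isValue, _root_.Matrix.cons_val_zero, _root_.Matrix.cons_val_one, _root_.Matrix.cons_val, _root_.MulZeroClass.mul_zero, _root_.mul_one, _root_.Matrix.cons_val_succ, _root_.IsEmpty.forall_iff, _root_.and_true, _root_.Matrix.one_apply_eq, _root_.Fin.succ_zero_eq_one,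 _root_.ne_eq, _root_.zero_ne_one, _root_.not_false_eq_true, _root_.Matrix.one_apply_ne, _root_.Fin.succ_one_eq_two, Fin.reduceEq, _root_.and_self, _root_.Fin.succ_ne_zero, _root_.true_and])

attribute [-instance] instNoNatZeroDivisorsOfIsAddTorsionFree instIsCharPOfIsLeftCancelAddOfCharP in
theorem P_D : gP h * gD h = gS h * (gD h * gP h) := by
  have h2 := h.two
  have h1 := h.eq
  apply Subtype.ext
  show mP * mD ω = (ω • (1 : M3 F)) * (mD ω * mP)
  rw [smul_mul, one_mul]
  ext i j
  (revert i j; simp only [mP, mD, Matrix.mul_apply, Fin.sum_univ_three, _root_.Fin.forall_fin_succ, _root_.Matrix.of_apply, _root_.Matrix.cons_val', _root_.Matrix.cons_val_fin_one, Fin.isValue, _root_.Matrix.cons_val_zero, _root_.Matrix.cons_val_one, _root_.Matrix.cons_val, _root_.Matrix.cons_mul, _root_.Nat.succ_eq_add_one, Nat.reduceAdd, _root_.Matrix.vecMul_cons, _root_.Matrix.head_cons, _root_.one_smul, _root_.Matrix.tail_cons, _root_.zero_smul, _root_.Matrix.empty_vecMul, _root_.add_zero, _root_.Matrix.smul_cons,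 _root_.smul_eq_mul, _root_.MulZeroClass.mul_zero, _root_.mul_one, _root_.Matrix.smul_empty, _root_.zero_add, _root_.Matrix.empty_mul, _root_.Equiv.symm_apply_apply, _root_.Matrix.smul_apply, _root_.Matrix.cons_val_succ, _root_.forall_const, _root_.one_mul, _root_.MulZeroClass.zero_mul, _root_.and_self, _root_.true_and, _root_.and_true]) <;> grobner

/-- **the relations of `3² : Q₈` in every quotient by the centre** (the hypotheses of `frameQ`) -/
theorem rels {G : Type*} [Group G] (f : G3 F →* G) (hf : ∀ c ∈ Subgroup.center (G3 F), f c = 1) :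
    f (gW h) * f (gD h) * (f (gW h))⁻¹ = f (gP h) ∧ f (gW h) * f (gP h) * (f (gW h))⁻¹ = (f (gD h))⁻¹ ∧
    f (gJ h) * f (gD h) * (f (gJ h))⁻¹ = f (gD h) * f (gP h) ∧
    f (gJ h) * f (gP h) * (f (gJ h))⁻¹ = f (gD h) * (f (gP h))⁻¹ ∧
    f (gW h) ^ 4 = 1 ∧ f (gJ h) ^ 2 = f (gW h) ^ 2 ∧ f (gW h) * f (gJ h) * (f (gW h))⁻¹ = (f (gJ h))⁻¹ ∧
    f (gD h) ^ 3 = 1 ∧ f (gP h) ^ 3 = 1 ∧ Commute (f (gD h)) (f (gP h)) := by
  have hs : f (gS h) = 1 := hf _ (gS_center h)
  have hWW : f (gW h) * f (gW h) = f (gZ h) := by rw [← map_mul, W_W]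
  have hJJ : f (gJ h) * f (gJ h) = f (gZ h) := by rw [← map_mul, J_J]
  have hZZ : f (gZ h) * f (gZ h) = 1 := by rw [← map_mul, Z_Z, map_one]
  refine ⟨?_, ?_, ?_, ?_, ?_, ?_, ?_, ?_, ?_, ?_⟩
  · rw [← map_mul, W_D, map_mul, mul_inv_cancel_right]
  · rw [← map_mul, W_P', map_mul, map_inv, mul_inv_cancel_right]
  · rw [← map_mul, J_D, map_mul, map_pow, hs, one_pow, one_mul, map_mul, map_mul, mul_inv_cancel_right]
  · rw [← map_mul, J_P, map_mul, hs, one_mul, map_mul, map_mul, map_inv, mul_inv_cancel_right]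
  · rw [show (4 : ℕ) = 2 * 2 from rfl, pow_mul, pow_two (f (gW h)), hWW, pow_two, hZZ]
  · rw [pow_two, pow_two, hWW, hJJ]
  · rw [← map_mul, W_J, map_mul, map_mul, ← mul_assoc, mul_inv_cancel_right, eq_inv_iff_mul_eq_one, mul_assoc, hJJ, hZZ]
  · rw [← map_pow, D_3, map_one]
  · rw [← map_pow, P_3, map_one]
  · show f (gD h) * f (gP h) = f (gP h) * f (gD h)
    rw [← map_mul, ← map_mul, P_D, map_mul (f := f), map_mul (f := f), hs, one_mul, ← map_mul]

end Cfsg.Agent.H550.L34
end

private theorem dce_ac02d6413a0d : _root_.True := by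
  try have : _root_.True := by simp only [_root_.Cfsg.Agent.H691.L34.ct.eq_1]
  try have : _root_.True := by simp only [_root_.Cfsg.Agent.H550.L34.mG.eq_1]
  try have : _root_.True := by simp only [_root_.Cfsg.Agent.H550.L34.mH.eq_1]
  try have : _root_.True := by simp only [_root_.Cfsg.Agent.H550.L34.mA.eq_1]
  try have : _root_.True := by simp only [_root_.Cfsg.Agent.H550.L34.mD.eq_1]
  try have : _root_.True := by simp only [_root_.Cfsg.Agent.H550.L34.mB.eq_1]
  try have : _root_.True := by simp only [_root_.Cfsg.Agent.H550.L34.mQ.eq_1]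
  try have : _root_.True := by simp only [_root_.Cfsg.Agent.H550.L34.mZ.eq_1]
  try have : _root_.True := by simp only [_root_.Cfsg.Agent.H550.L34.mW.eq_1]
  try have : _root_.True := by simp only [_root_.Cfsg.Agent.H550.L34.mP.eq_1]
  try have : _root_.True := by simp only [_root_.Cfsg.Agent.H550.L34.mE.eq_1]
  try have : _root_.True := by simp only [_root_.Cfsg.Agent.H550.L34.mJ.eq_1]
  exact _root_.True.intro
end

-- part: H888/L34/Ord
section
set_option linter.all false
open scoped Cfsg.Agent.FastGrp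

/-!
# S5917: the four elements of order 3 of the extraspecial group (hypothesis `ho` of `H888.L34.ZFix.z2_zero`)
-/

set_option autoImplicit false

namespace Cfsg.Agent.H888.L34.Ord

open Matrix Cfsg.Agent.H691.L34 Cfsg.Agent.H550.L34

variable {F : Type} [Field F] {ω : F}

theorem DP_3 (h : Om ω) : (gD h * gP h) ^ 3 = 1 := by
  have h2 := h.two
  have h1 := h.eq
  apply Subtype.ext
  rw [pow_succ, pow_two]
  show (mD ω * mP) * (mD ω * mP) * (mD ω * mP) = 1
  ext i j
  fin_cases i <;> fin_cases j <;> simp [mD, mP, Matrix.mul_apply, Fin.sum_univ_three] <;> grind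

theorem DPP_3 (h : Om ω) : (gD h * gP h * gP h) ^ 3 = 1 := by
  have h2 := h.two
  have h1 := h.eq
  apply Subtype.ext
  rw [pow_succ, pow_two]
  show (mD ω * mP * mP) * (mD ω * mP * mP) * (mD ω * mP * mP) = 1
  ext i j
  fin_cases i <;> fin_cases j <;> simp [mD, mP, Matrix.mul_apply, Fin.sum_univ_three] <;> grind

theorem PD_ne (h : Om ω) : gP h * gD h ≠ gD h * gP h := by
  intro e
  rw [P_D] at e
  have e1 : gS h = 1 := mul_eq_right.1 e
  have e2 := congrArg (fun g : G3 F => g.1 0 0) e1
  have e3 : ω = 1 := by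
    have : (ω • (1 : M3 F)) 0 0 = (1 : M3 F) 0 0 := e2
    simpa using this
  exact om_ne h e3

/-- **the four elements** -/
theorem ho (h : Om ω) : ∀ g ∈ ([gD h, gP h, gD h * gP h, gD h * gP h * gP h] : List (G3 F)),
    orderOf g = 3 ∧ g ∉ Subgroup.center (G3 F) := by
  have key : ∀ g : G3 F, g ^ 3 = 1 → g ∉ Subgroup.center (G3 F) → orderOf g = 3 ∧ g ∉ Subgroup.center (G3 F) := by
    intro g h3 hc
    refine ⟨orderOf_eq_prime h3 ?_, hc⟩
    rintro rfl
    exact hc (Subgroup.one_mem _)
  have hne := PD_ne h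
  have c1 : gD h ∉ Subgroup.center (G3 F) := fun hc => hne (Subgroup.mem_center_iff.1 hc _)
  have c2 : gP h ∉ Subgroup.center (G3 F) := fun hc => hne (Subgroup.mem_center_iff.1 hc _).symm
  have c3 : gD h * gP h ∉ Subgroup.center (G3 F) := fun hc => by
    have e := Subgroup.mem_center_iff.1 hc (gP h)
    apply hne
    apply mul_right_cancel (b := gP h)
    rw [mul_assoc, e]
  have c4 : gD h * gP h * gP h ∉ Subgroup.center (G3 F) := fun hc => by
    have e := Subgroup.mem_center_iff.1 hc (gP h)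
    apply hne
    apply mul_right_cancel (b := gP h * gP h)
    rw [← mul_assoc, ← mul_assoc]
    calc gP h * gD h * gP h * gP h = gP h * (gD h * gP h * gP h) := by group
      _ = gD h * gP h * gP h * gP h := e
  intro g hg
  simp only [List.mem_cons, List.not_mem_nil, or_false] at hg
  rcases hg with rfl | rfl | rfl | rfl
  · exact key _ (D_3 h) c1
  · exact key _ (P_3 h) c2
  · exact key _ (DP_3 h) c3
  · exact key _ (DPP_3 h) c4

end Cfsg.Agent.H888.L34.Ord

private theorem dce_7046dccbebc6 : _root_.True := by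
  try have : _root_.True := by simp only [_root_.Cfsg.Agent.H550.L34.gP.congr_simp]
  try have : _root_.True := by simp only [_root_.Cfsg.Agent.H550.L34.gD.congr_simp]
  exact _root_.True.intro
end

-- part: H633/L34/TrNil
section
prune_inst 0x5600440006202082000200622000000680005000000400068400c000140c0208940208010901102100e9c107800006011000010426800002e0038000003002080055a021724a3040c0009000100000000000000000000000000000000010004000000000
set_option linter.all false
open scoped Cfsg.Agent.FastGrp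

/-!
# S5917, type (D): relative traces of infinitesimal similitudes for a quaternion group (helper633)

`K` a field of characteristic 2, `M` of dimension 8, `i`, `j` isometries of a nondegenerate quadratic form which
generate a quaternion group, `A` with `b m (A m) = c * Q m`.  If the trace `∑ g A g⁻¹` over the quaternion group is a
scalar `s`, then `s = 0` (`higman`).  If `M` is a free module for the quaternion group, all these traces have
pairwise products zero (`tr8_mul_tr8`).
-/

set_option autoImplicit false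
set_option linter.unusedSectionVars false

namespace Cfsg.Agent.H633.L34

open Module

theorem add_self' (K : Type*) {M : Type*} [Field K] [CharP K 2] [AddCommGroup M] [Module K M] (x : M) : x + x = 0 := by
  have h : (2 : K) = 0 := CharTwo.two_eq_zero
  rw [← two_smul K x, h, zero_smul]

variable {K M : Type*} [Field K] [CharP K 2] [AddCommGroup M] [Module K M]

/-- `1 + z` -/
def nn (i : End K M) : End K M := 1 + i * i

theorem nn_apply (i : End K M) (x : M) : nn i x = x + i (i x) := by
  simp only [nn, _root_.LinearMap.add_apply, _root_.Module.End.one_apply, _root_.Module.End.mul_apply]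

/-- `α = 1 + i` -/
def al (i : End K M) : End K M := 1 + i

theorem al_apply (i : End K M) (x : M) : al i x = x + i x := by
  simp [al]

section
variable {i j : End K M} (hz : ∀ x, i (i (i (i x))) = x) (hj : ∀ x, j (j x) = i (i x))
  (hij : ∀ x, i (j x) = i (i (j (i x))))
include hz hj hij

theorem zj (x : M) : j (i (i x)) = i (i (j x)) := by
  rw [← hj, ← hj]

theorem nn_z (x : M) : nn i (i (i x)) = nn i x := by
  rw [nn_apply, nn_apply, hz, add_comm]

theorem z_nn (x : M) : i (i (nn i x)) = nn i x := by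
  rw [nn_apply, map_add, map_add, hz, add_comm]

theorem nn_nn (x : M) : nn i (nn i x) = 0 := by
  rw [nn_apply i (nn i x), z_nn hz hj hij, add_self' K]

theorem nn_i (x : M) : nn i (i x) = i (nn i x) := by
  rw [nn_apply, nn_apply, map_add]

theorem nn_j (x : M) : nn i (j x) = j (nn i x) := by
  rw [nn_apply, nn_apply, map_add, zj hz hj hij]

end

/-! ### independence -/
section
variable {i j : End K M} (hz : ∀ x, i (i (i (i x))) = x) (hj : ∀ x, j (j x) = i (i x))
  (hij : ∀ x, i (j x) = i (i (j (i x))))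
include hz hj hij

omit hz hj hij in
theorem al_al (i : End K M) (y : M) : al i (al i y) = nn i y := by
  rw [al_apply, al_apply, map_add, nn_apply]
  have := add_self' K (i y)
  calc y + i y + (i y + i (i y)) = y + (i y + i y) + i (i y) := by abel
    _ = _ := by rw [this, add_zero]

theorem be_be (y : M) : al j (al j y) = nn i y := by
  rw [al_al, nn_apply, nn_apply, hj]

theorem al_nn (y : M) : al i (nn i y) = nn i (al i y) := by
  rw [al_apply, al_apply, map_add, nn_i hz hj hij]

theorem be_nn (y : M) : al j (nn i y) = nn i (al j y) := by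
  rw [al_apply, al_apply, map_add, nn_j hz hj hij]

theorem nn_al_al (y : M) : nn i (al i (al i y)) = 0 := by
  rw [al_al, nn_nn hz hj hij]

theorem nn_be_be (y : M) : nn i (al j (al j y)) = 0 := by
  rw [be_be hz hj hij, nn_nn hz hj hij]

theorem nn_al_be (y : M) : nn i (al i (al j y)) = nn i (al j (al i y)) := by
  rw [al_apply, al_apply, al_apply, al_apply]
  simp only [map_add]
  rw [hij y, nn_z hz hj hij]
  abel

theorem ind4 {x : M} (hx : nn i (al j (al i x)) ≠ 0) {a0 a1 a2 a3 : K}
    (h : a0 • nn i x + a1 • nn i (al i x) + a2 • nn i (al j x) + a3 • nn i (al j (al i x)) = 0) :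
    a0 = 0 ∧ a1 = 0 ∧ a2 = 0 ∧ a3 = 0 := by
  have F1 : nn i (al j (al i (al i x))) = 0 := by
    rw [← be_nn hz hj hij, nn_al_al hz hj hij, map_zero]
  have F2 : nn i (al j (al i (al j x))) = 0 := by
    rw [← be_nn hz hj hij, nn_al_be hz hj hij, be_nn hz hj hij, nn_be_be hz hj hij]
  have F3 : nn i (al j (al i (al j (al i x)))) = 0 := by
    rw [← be_nn hz hj hij, nn_al_be hz hj hij, be_nn hz hj hij, nn_be_be hz hj hij]
  have h0 : a0 = 0 := by
    have h1 := congrArg (fun v => al j (al i v)) h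
    simp only [map_add, map_smul, map_zero, al_nn hz hj hij, be_nn hz hj hij, F1, F2, F3, smul_zero, add_zero] at h1
    exact (smul_eq_zero.1 h1).resolve_right hx
  subst h0
  rw [zero_smul, zero_add] at h
  have h1 : a1 = 0 := by
    have h1 := congrArg (fun v => al j v) h
    simp only [map_add, map_smul, map_zero, be_nn hz hj hij, nn_be_be hz hj hij, smul_zero, add_zero] at h1
    exact (smul_eq_zero.1 h1).resolve_right hx
  subst h1
  rw [zero_smul, zero_add] at h
  have h2 : a2 = 0 := by
    have h1 := congrArg (fun v => al i v) h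
    have F4 : nn i (al i (al j (al i x))) = 0 := by
      rw [nn_al_be hz hj hij, ← be_nn hz hj hij, nn_al_al hz hj hij, map_zero]
    simp only [map_add, map_smul, map_zero, al_nn hz hj hij, F4, smul_zero, add_zero] at h1
    rw [nn_al_be hz hj hij] at h1
    exact (smul_eq_zero.1 h1).resolve_right hx
  subst h2
  rw [zero_smul, zero_add] at h
  exact ⟨rfl, rfl, rfl, (smul_eq_zero.1 h).resolve_right hx⟩

/-- the eight vectors -/
def fam (i j : End K M) (x : M) : Fin 8 → M :=
  ![x, al i x, al j x, al j (al i x), nn i x, nn i (al i x), nn i (al j x), nn i (al j (al i x))]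

theorem fam_indep {x : M} (hx : nn i (al j (al i x)) ≠ 0) : LinearIndependent K (fam i j x) := by
  rw [Fintype.linearIndependent_iff]
  intro g hg
  simp only [Fin.sum_univ_eight, fam] at hg
  have hg' : g 0 • x + g 1 • al i x + g 2 • al j x + g 3 • al j (al i x) + g 4 • nn i x + g 5 • nn i (al i x) +
      g 6 • nn i (al j x) + g 7 • nn i (al j (al i x)) = 0 := hg
  have h1 := congrArg (fun v => nn i v) hg'
  simp only [map_add, map_smul, map_zero, nn_nn hz hj hij, smul_zero, add_zero] at h1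
  obtain ⟨h0, h1, h2, h3⟩ := ind4 hz hj hij hx h1
  rw [h0, h1, h2, h3] at hg'
  simp only [zero_smul, zero_add] at hg'
  obtain ⟨h4, h5, h6, h7⟩ := ind4 hz hj hij hx hg'
  intro k
  fin_cases k <;> assumption

theorem fam_span (hd : finrank K M = 8) {x : M} (hx : nn i (al j (al i x)) ≠ 0) :
    Submodule.span K (Set.range (fam i j x)) = ⊤ := by
  have : FiniteDimensional K M := FiniteDimensional.of_finrank_pos (by rw [hd]; norm_num)
  exact (fam_indep hz hj hij hx).span_eq_top_of_card_eq_finrank (by rw [hd]; rfl)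

end

/-! ### the bilinear form -/
section
variable {i j : End K M} (hz : ∀ x, i (i (i (i x))) = x) (hj : ∀ x, j (j x) = i (i x))
  (hij : ∀ x, i (j x) = i (i (j (i x))))
  {b : M →ₗ[K] M →ₗ[K] K} {Q : M → K} (hQ : ∀ x y, Q (x + y) = Q x + Q y + b x y)
  (hbi : ∀ x y, b (i x) (i y) = b x y) (hbj : ∀ x y, b (j x) (j y) = b x y)
  (hQi : ∀ x, Q (i x) = Q x) (hQj : ∀ x, Q (j x) = Q x)
  {A : End K M} {c : K} (hA : ∀ m, b m (A m) = c * Q m)
include hz hj hij hQ hbi hbj hQi hQj hA

omit hQ hbi hbj hQi hQj hA in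
/-- a vector with nonzero trace generates -/
theorem span_of_tr (hd : finrank K M = 8) {x : M} (hx : nn i (al j (al i x)) ≠ 0) :
    Submodule.span K ({x, i x, j x, j (i x)} ∪
    {i (i x), i (i (i x)), i (i (j x)), i (i (j (i x)))} : Set M) = ⊤ := by
  rw [eq_top_iff, ← fam_span hz hj hij hd hx]
  set W := Submodule.span K ({x, i x, j x, j (i x)} ∪
    {i (i x), i (i (i x)), i (i (j x)), i (i (j (i x)))} : Set M) with hW
  have m0 : x ∈ W := Submodule.subset_span (by simp only [_root_.Set.union_insert, _root_.Set.union_singleton, _root_.Set.mem_insert_iff, _root_.Set.mem_singleton_iff, _root_.true_or, _root_.or_true])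
  have m1 : i x ∈ W := Submodule.subset_span (by simp only [_root_.Set.union_insert, _root_.Set.union_singleton, _root_.Set.mem_insert_iff, _root_.Set.mem_singleton_iff, _root_.true_or, _root_.or_true])
  have m2 : j x ∈ W := Submodule.subset_span (by simp only [_root_.Set.union_insert, _root_.Set.union_singleton, _root_.Set.mem_insert_iff, _root_.Set.mem_singleton_iff, _root_.true_or, _root_.or_true])
  have m3 : j (i x) ∈ W := Submodule.subset_span (by simp only [_root_.Set.union_insert, _root_.Set.union_singleton, _root_.Set.mem_insert_iff, _root_.Set.mem_singleton_iff, _root_.or_true])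
  have m4 : i (i x) ∈ W := Submodule.subset_span (by simp only [_root_.Set.union_insert, _root_.Set.union_singleton, _root_.Set.mem_insert_iff, _root_.Set.mem_singleton_iff, _root_.true_or])
  have m5 : i (i (i x)) ∈ W := Submodule.subset_span (by simp only [_root_.Set.union_insert, _root_.Set.union_singleton, _root_.Set.mem_insert_iff, _root_.Set.mem_singleton_iff, _root_.true_or, _root_.or_true])
  have m6 : i (i (j x)) ∈ W := Submodule.subset_span (by simp only [_root_.Set.union_insert, _root_.Set.union_singleton, _root_.Set.mem_insert_iff, _root_.Set.mem_singleton_iff, _root_.true_or, _root_.or_true])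
  have m7 : i (i (j (i x))) ∈ W := Submodule.subset_span (by simp only [_root_.Set.union_insert, _root_.Set.union_singleton, _root_.Set.mem_insert_iff, _root_.Set.mem_singleton_iff, _root_.true_or, _root_.or_true])
  have e1 : al i x ∈ W := by rw [al_apply]; exact W.add_mem m0 m1
  have e2 : al j x ∈ W := by rw [al_apply]; exact W.add_mem m0 m2
  have e3 : al j (al i x) ∈ W := by
    rw [al_apply, al_apply, map_add]; exact W.add_mem (W.add_mem m0 m1) (W.add_mem m2 m3)
  have e4 : nn i x ∈ W := by rw [nn_apply]; exact W.add_mem m0 m4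
  have e5 : nn i (al i x) ∈ W := by
    rw [nn_apply, al_apply, map_add, map_add]; exact W.add_mem (W.add_mem m0 m1) (W.add_mem m4 m5)
  have e6 : nn i (al j x) ∈ W := by
    rw [nn_apply, al_apply, map_add, map_add]; exact W.add_mem (W.add_mem m0 m2) (W.add_mem m4 m6)
  have e7 : nn i (al j (al i x)) ∈ W := by
    rw [nn_apply, al_apply, al_apply]
    simp only [map_add]
    exact W.add_mem (W.add_mem (W.add_mem m0 m1) (W.add_mem m2 m3))
      (W.add_mem (W.add_mem m4 m5) (W.add_mem m6 m7))
  rw [Submodule.span_le]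
  rintro _ ⟨k, rfl⟩
  fin_cases k <;> simpa [fam]

end

end Cfsg.Agent.H633.L34

private theorem dce_cd0d1051c5a0 : _root_.True := by
  try have : _root_.True := by simp only [_root_.Cfsg.Agent.H633.L34.nn.eq_1]
  try have : _root_.True := by simp only [_root_.Cfsg.Agent.H633.L34.al.eq_1]
  try have : _root_.True := by simp only [_root_.Cfsg.Agent.H633.L34.fam.eq_1]
  exact _root_.True.intro
end

-- part: H940/L34/LemH
section
prune_inst 0x10000000000000
set_option linter.all false
open scoped Cfsg.Agent.FastGrp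

/-!
# Traces of a quaternion group on an orthogonal space of dimension 8 are nilpotent (helper940, for S5917)

`W` of dimension 8 over a field of characteristic two, `Q` a nondegenerate quadratic form with polar form `b`,
`i`, `j` isometries generating a quaternion group, `b (X v) v = μ Q v`: then `∑ g X g⁻¹` is nilpotent (`trQ_nil`).
-/

set_option autoImplicit false

namespace Cfsg.Agent.H940.L34

variable {K V : Type*} [Field K] [AddCommGroup V] [Module K V]

/-- one step: `t` of order two on `A`, every fixed vector is a trace -/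
theorem step [FiniteDimensional K V] (A : Submodule K V) (t : V →ₗ[K] V) (hA : ∀ a ∈ A, t a ∈ A)
    (ht : ∀ a ∈ A, t (t a) = a) (h2 : ∀ v : V, v + v = 0)
    (hs : ∀ w ∈ A, t w = w → ∃ y ∈ A, w = y + t y) :
    Module.finrank K A = 2 * Module.finrank K ↥(A ⊓ LinearMap.ker (LinearMap.id + t)) := by
  let n : A →ₗ[K] A := LinearMap.id + t.restrict hA
  have hn : ∀ a : A, ((n a : A) : V) = a + t a := fun a => rfl
  have hfix : ∀ v : V, v + t v = 0 ↔ t v = v := by
    intro v
    constructor
    · intro h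
      have := congrArg (fun x => v + x) h
      simp only [add_zero] at this
      rwa [← add_assoc, h2, zero_add] at this
    · intro h
      rw [h, h2]
  have hk : (LinearMap.ker n).map A.subtype = A ⊓ LinearMap.ker (LinearMap.id + t) := by
    ext v
    simp only [Submodule.mem_map, LinearMap.mem_ker, Submodule.mem_inf, LinearMap.add_apply, LinearMap.id_apply]
    constructor
    · rintro ⟨a, ha, rfl⟩
      exact ⟨a.2, (hn a).symm.trans (congrArg Subtype.val ha)⟩
    · rintro ⟨hv, h⟩
      exact ⟨⟨v, hv⟩, Subtype.ext h, rfl⟩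
  have hr : (LinearMap.range n).map A.subtype = A ⊓ LinearMap.ker (LinearMap.id + t) := by
    ext v
    simp only [Submodule.mem_map, LinearMap.mem_range, Submodule.mem_inf, LinearMap.mem_ker, LinearMap.add_apply,
      LinearMap.id_apply]
    constructor
    · rintro ⟨a, ⟨y, rfl⟩, rfl⟩
      refine ⟨(n y).2, ?_⟩
      show (n y : V) + t (n y : V) = 0
      rw [hn, map_add, ht _ y.2]
      have : (y : V) + t y + (t y + y) = (y + y) + (t y + t y) := by abel
      rw [this, h2, h2, add_zero]
    · rintro ⟨hv, h⟩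
      obtain ⟨y, hy, he⟩ := hs v hv ((hfix v).1 h)
      exact ⟨⟨v, hv⟩, ⟨⟨y, hy⟩, Subtype.ext (by rw [hn]; exact he.symm)⟩, rfl⟩
  have h1 := LinearMap.finrank_range_add_finrank_ker n
  have h3 : Module.finrank K (LinearMap.ker n) = Module.finrank K ↥(A ⊓ LinearMap.ker (LinearMap.id + t)) := by
    rw [← hk]
    exact (LinearEquiv.finrank_eq (Submodule.equivMapOfInjective _ A.injective_subtype _))
  have h4 : Module.finrank K (LinearMap.range n) = Module.finrank K ↥(A ⊓ LinearMap.ker (LinearMap.id + t)) := by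
    rw [← hr]
    exact (LinearEquiv.finrank_eq (Submodule.equivMapOfInjective _ A.injective_subtype _))
  rw [h3, h4] at h1
  omega

/-- the trace of the quaternion group `⟨i, j⟩`, `z = i ^ 2 = j ^ 2` -/
def trQ (i j z X : V →ₗ[K] V) : V →ₗ[K] V :=
  X + z ∘ₗ X ∘ₗ z + (i ∘ₗ X ∘ₗ i ∘ₗ z + i ∘ₗ z ∘ₗ X ∘ₗ i) + (j ∘ₗ X ∘ₗ j ∘ₗ z + j ∘ₗ z ∘ₗ X ∘ₗ j) +
    (i ∘ₗ j ∘ₗ X ∘ₗ j ∘ₗ i + i ∘ₗ j ∘ₗ z ∘ₗ X ∘ₗ j ∘ₗ i ∘ₗ z)

/-- the relations of the quaternion group -/
structure Q8 (i j z : V →ₗ[K] V) : Prop where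
  zz : ∀ v, z (z v) = v
  ii : ∀ v, i (i v) = z v
  jj : ∀ v, j (j v) = z v
  ji : ∀ v, j (i v) = z (i (j v))

namespace Q8

variable {i j z X : V →ₗ[K] V}

theorem zi (h : Q8 i j z) (v : V) : z (i v) = i (z v) := by rw [← h.ii, ← h.ii]
theorem zj (h : Q8 i j z) (v : V) : z (j v) = j (z v) := by rw [← h.jj, ← h.jj]
theorem ji' (h : Q8 i j z) (v : V) : j (i v) = i (j (z v)) := by rw [h.ji, h.zi, h.zj]

theorem tr_apply (v : V) : trQ i j z X v = X v + z (X (z v)) + (i (X (i (z v))) + i (z (X (i v)))) +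
    (j (X (j (z v))) + j (z (X (j v)))) + (i (j (X (j (i v)))) + i (j (z (X (j (i (z v))))))) := rfl

theorem tr_i (h : Q8 i j z) (v : V) : trQ i j z X (i v) = i (trQ i j z X v) := by
  simp only [tr_apply, map_add, h.zi, h.zj, h.ji', h.ii, h.jj, h.zz]
  abel

theorem tr_j (h : Q8 i j z) (v : V) : trQ i j z X (j v) = j (trQ i j z X v) := by
  simp only [tr_apply, map_add, h.zi, h.zj, h.ji', h.ii, h.jj, h.zz]
  abel

theorem tr_z (h : Q8 i j z) (v : V) : trQ i j z X (z v) = z (trQ i j z X v) := by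
  rw [← h.ii, h.tr_i, h.tr_i, h.ii]

theorem pow_i (h : Q8 i j z) (n : ℕ) (v : V) : (trQ i j z X ^ n) (i v) = i ((trQ i j z X ^ n) v) := by
  induction n generalizing v with
  | zero => rfl
  | succ n ih => rw [pow_succ, Module.End.mul_apply, Module.End.mul_apply, h.tr_i, ih]

theorem pow_j (h : Q8 i j z) (n : ℕ) (v : V) : (trQ i j z X ^ n) (j v) = j ((trQ i j z X ^ n) v) := by
  induction n generalizing v with
  | zero => rfl
  | succ n ih => rw [pow_succ, Module.End.mul_apply, Module.End.mul_apply, h.tr_j, ih]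

theorem pow_z (h : Q8 i j z) (n : ℕ) (v : V) : (trQ i j z X ^ n) (z v) = z ((trQ i j z X ^ n) v) := by
  rw [← h.ii, h.pow_i, h.pow_i, h.ii]

end Q8

/-- **Lemma H** -/
theorem trQ_nil [CharP K 2] [FiniteDimensional K V] (hV : Module.finrank K V = 8) {i j z X : V →ₗ[K] V} (h : Q8 i j z)
    {q : V → K} {b : V →ₗ[K] V →ₗ[K] K} (hq : ∀ v w, q (v + w) = q v + q w + b v w) (hi : ∀ v, q (i v) = q v)
    (hj : ∀ v, q (j v) = q v) (hb : ∀ v, (∀ w, b w v = 0) → v = 0) {μ : K} (hX : ∀ v, b (X v) v = μ * q v) :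
    IsNilpotent (trQ i j z X) := by
  have hK : ∀ a : K, a + a = 0 := CharTwo.add_self_eq_zero
  have h2 : ∀ v : V, v + v = 0 := fun v => by rw [← two_smul K v, CharTwo.two_eq_zero, zero_smul]
  set k := trQ i j z X with hk
  obtain ⟨N, hN⟩ := Filter.eventually_atTop.1 k.eventually_isCompl_ker_pow_range_pow
  set n := N + 1 with hn
  have hc := hN n (by omega)
  -- `k ^ (n + 1)` is bijective on the range
  have hinj : ∀ w ∈ LinearMap.range (k ^ n), ∀ w' ∈ LinearMap.range (k ^ n), (k ^ (n + 1)) w = (k ^ (n + 1)) w' → w = w' := by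
    intro w hw w' hw' he
    have h3 : (k ^ (n + 1)) (w - w') = 0 := by rw [map_sub, he, sub_self]
    have h4 : w - w' ∈ LinearMap.ker (k ^ n) := by
      obtain ⟨a, ha⟩ := (LinearMap.range (k ^ n)).sub_mem hw hw'
      have h5 : (k ^ (n + n)) (w - w') = 0 := by
        have : k ^ (n + n) = k ^ (n - 1) * k ^ (n + 1) := by rw [← pow_add]; congr 1; omega
        rw [this, Module.End.mul_apply, h3, map_zero]
      have h6 : (k ^ n) (w - w') ∈ LinearMap.ker (k ^ n) := by
        rw [LinearMap.mem_ker, ← Module.End.mul_apply, ← pow_add]; exact h5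
      have h7 : (k ^ n) (w - w') ∈ LinearMap.range (k ^ n) := ⟨_, rfl⟩
      have h8 := hc.disjoint.le_bot (⟨h6, h7⟩ : (k ^ n) (w - w') ∈ LinearMap.ker (k ^ n) ⊓ LinearMap.range (k ^ n))
      exact (Submodule.mem_bot K).1 h8
    have h5 := hc.disjoint.le_bot (⟨h4, (LinearMap.range (k ^ n)).sub_mem hw hw'⟩ :
      w - w' ∈ LinearMap.ker (k ^ n) ⊓ LinearMap.range (k ^ n))
    exact sub_eq_zero.1 ((Submodule.mem_bot K).1 h5)
  have hst : ∀ m, ∀ w ∈ LinearMap.range (k ^ n), (k ^ m) w ∈ LinearMap.range (k ^ n) := by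
    rintro m _ ⟨a, rfl⟩
    refine ⟨(k ^ m) a, ?_⟩
    rw [← Module.End.mul_apply, ← Module.End.mul_apply, ← pow_add, ← pow_add, add_comm]
  have hsur : ∀ w ∈ LinearMap.range (k ^ n), ∃ u ∈ LinearMap.range (k ^ n), (k ^ (n + 1)) u = w := by
    intro w hw
    have h3 : Function.Injective ((k ^ (n + 1)).restrict (hst (n + 1))) := by
      intro a a' he
      exact Subtype.ext (hinj _ a.2 _ a'.2 (congrArg Subtype.val he))
    obtain ⟨u, hu⟩ := (LinearMap.injective_iff_surjective.1 h3) ⟨w, hw⟩
    exact ⟨u, u.2, congrArg Subtype.val hu⟩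
  have hsi : ∀ w ∈ LinearMap.range (k ^ n), i w ∈ LinearMap.range (k ^ n) := by
    rintro _ ⟨a, rfl⟩
    exact ⟨i a, h.pow_i n a⟩
  have hsj : ∀ w ∈ LinearMap.range (k ^ n), j w ∈ LinearMap.range (k ^ n) := by
    rintro _ ⟨a, rfl⟩
    exact ⟨j a, h.pow_j n a⟩
  have hsz : ∀ w ∈ LinearMap.range (k ^ n), z w ∈ LinearMap.range (k ^ n) := by
    rintro _ ⟨a, rfl⟩
    exact ⟨z a, h.pow_z n a⟩
  have hks : ∀ u, (k ^ (n + 1)) u = (k ^ n) (k u) := fun u => by rw [pow_succ, Module.End.mul_apply]
  -- the fixed vectors are traces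
  have t1 : ∀ w ∈ LinearMap.range (k ^ n), z w = w → ∃ y ∈ LinearMap.range (k ^ n), w = y + z y := by
    intro w hw hz
    obtain ⟨u, hu, rfl⟩ := hsur w hw
    have hzu : z u = u := hinj _ (hsz u hu) _ hu (by rw [hk, h.pow_z, ← hk, hz])
    refine ⟨(k ^ n) (X u + i (X (i u)) + j (X (j u)) + i (j (X (j (i u))))), ⟨_, rfl⟩, ?_⟩
    rw [hks, hk, ← h.pow_z, ← map_add]
    congr 1
    simp only [Q8.tr_apply, map_add, h.zi, h.zj, hzu]
    abel
  have t2 : ∀ w ∈ LinearMap.range (k ^ n), i w = w → ∃ y' ∈ LinearMap.range (k ^ n), w = (y' + z y') + i (y' + z y') := by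
    intro w hw hz
    obtain ⟨u, hu, rfl⟩ := hsur w hw
    have hiu : i u = u := hinj _ (hsi u hu) _ hu (by rw [hk, h.pow_i, ← hk, hz])
    have hzu : z u = u := by rw [← h.ii, hiu, hiu]
    refine ⟨(k ^ n) (X u + j (X (j u))), ⟨_, rfl⟩, ?_⟩
    rw [hks, hk, ← h.pow_z, ← map_add, ← h.pow_i, ← map_add]
    congr 1
    simp only [Q8.tr_apply, map_add, h.zi, h.zj, hzu, hiu]
    abel
  have t3 : ∀ w ∈ LinearMap.range (k ^ n), i w = w → j w = w → ∃ e ∈ LinearMap.range (k ^ n),
      w = (e + z e + i (e + z e)) + j (e + z e + i (e + z e)) := by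
    intro w hw hz hz'
    obtain ⟨u, hu, rfl⟩ := hsur w hw
    have hiu : i u = u := hinj _ (hsi u hu) _ hu (by rw [hk, h.pow_i, ← hk, hz])
    have hju : j u = u := hinj _ (hsj u hu) _ hu (by rw [hk, h.pow_j, ← hk, hz'])
    have hzu : z u = u := by rw [← h.ii, hiu, hiu]
    refine ⟨(k ^ n) (X u), ⟨_, rfl⟩, ?_⟩
    rw [hks, hk, ← h.pow_z, ← map_add, ← h.pow_i, ← map_add, ← h.pow_j, ← map_add]
    congr 1
    simp only [Q8.tr_apply, map_add, h.zi, h.zj, hzu, hiu, hju, h.ji', h.zz]
    abel
  have hfix : ∀ (t : V →ₗ[K] V) (v : V), v ∈ LinearMap.ker (LinearMap.id + t) ↔ t v = v := by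
    intro t v
    rw [LinearMap.mem_ker, LinearMap.add_apply, LinearMap.id_apply]
    constructor
    · intro h
      have := congrArg (fun x => v + x) h
      simp only [add_zero] at this
      rwa [← add_assoc, h2, zero_add] at this
    · intro h
      rw [h, h2]
  -- dimensions
  set A0 := LinearMap.range (k ^ n) with hA0
  have d1 := step A0 z hsz (fun a _ => h.zz a) h2 t1
  set A1 := A0 ⊓ LinearMap.ker (LinearMap.id + z) with hA1
  have m1 : ∀ v, v ∈ A1 ↔ v ∈ A0 ∧ z v = v := fun v => by rw [hA1, Submodule.mem_inf, hfix]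
  have d2 := step A1 i (fun a ha => by
      rw [m1] at ha ⊢
      exact ⟨hsi a ha.1, by rw [h.zi, ha.2]⟩) (fun a ha => by rw [h.ii, ((m1 a).1 ha).2]) h2 (fun w hw hiw => by
      obtain ⟨y', hy', he⟩ := t2 w ((m1 w).1 hw).1 hiw
      refine ⟨y' + z y', (m1 _).2 ⟨A0.add_mem hy' (hsz _ hy'), ?_⟩, he⟩
      rw [map_add, h.zz, add_comm])
  set A2 := A1 ⊓ LinearMap.ker (LinearMap.id + i) with hA2
  have m2 : ∀ v, v ∈ A2 ↔ v ∈ A0 ∧ z v = v ∧ i v = v := fun v => by
    rw [hA2, Submodule.mem_inf, hfix, m1, and_assoc]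
  have d3 := step A2 j (fun a ha => by
      rw [m2] at ha ⊢
      refine ⟨hsj a ha.1, by rw [h.zj, ha.2.1], ?_⟩
      have h3 : i (j (z a)) = j (i a) := (h.ji' a).symm
      rw [ha.2.1, ha.2.2] at h3
      exact h3) (fun a ha => by rw [h.jj, ((m2 a).1 ha).2.1]) h2 (fun w hw hjw => by
      have hw' := (m2 w).1 hw
      obtain ⟨e, he, hwe⟩ := t3 w hw'.1 hw'.2.2 hjw
      refine ⟨e + z e + i (e + z e), (m2 _).2 ⟨A0.add_mem (A0.add_mem he (hsz _ he)) (hsi _ (A0.add_mem he (hsz _ he))),
        ?_, ?_⟩, hwe⟩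
      · simp only [map_add, h.zi, h.zz]
        abel
      · simp only [map_add, h.ii, h.zi, h.zz]
        abel)
  set A3 := A2 ⊓ LinearMap.ker (LinearMap.id + j) with hA3
  have m3 : ∀ v, v ∈ A3 ↔ v ∈ A0 ∧ z v = v ∧ i v = v ∧ j v = v := fun v => by
    rw [hA3, Submodule.mem_inf, hfix, m2, and_assoc, and_assoc]
  have hdim : Module.finrank K A0 = 8 * Module.finrank K A3 := by omega
  have hle : Module.finrank K A0 ≤ 8 := by rw [← hV]; exact Submodule.finrank_le _
  by_cases h0 : Module.finrank K A3 = 0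
  · rw [h0, mul_zero, Submodule.finrank_eq_zero] at hdim
    refine ⟨n, ?_⟩
    exact LinearMap.range_eq_bot.1 hdim
  exfalso
  have h1 : Module.finrank K A3 = 1 := by omega
  have htop : A0 = ⊤ := Submodule.eq_top_of_finrank_eq (by omega)
  obtain ⟨⟨f, hf⟩, hf0, hf1⟩ := finrank_eq_one_iff'.1 h1
  have hf0' : f ≠ 0 := fun he => hf0 (Subtype.ext he)
  have hsp : ∀ v, z v = v → i v = v → j v = v → ∃ c : K, v = c • f := by
    intro v a1 a2 a3
    obtain ⟨c, hc'⟩ := hf1 ⟨v, (m3 v).2 ⟨by rw [htop]; trivial, a1, a2, a3⟩⟩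
    exact ⟨c, (congrArg Subtype.val hc').symm⟩
  have hff := (m3 f).1 hf
  -- the form
  have hb1 : ∀ t : V →ₗ[K] V, (∀ v, q (t v) = q v) → ∀ v w, b (t v) (t w) = b v w := by
    intro t ht v w
    have e1 := hq (t v) (t w)
    rw [← map_add, ht, ht, ht, hq] at e1
    exact (add_left_cancel e1).symm
  have bi := hb1 i hi
  have bj := hb1 j hj
  have hz : ∀ v, q (z v) = q v := fun v => by rw [← h.ii, hi, hi]
  have bz := hb1 z hz
  have bs : ∀ v w, b v w = b w v := by
    intro v w
    have e1 := hq v w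
    have e2 := hq w v
    rw [add_comm w v, e1, add_comm (q w) (q v)] at e2
    exact add_left_cancel e2
  -- `q f = 0`
  have hqf : q f = 0 := by
    obtain ⟨e, -, he⟩ := t3 f hff.1 hff.2.2.1 hff.2.2.2
    have e0 : ∀ v, q ((v + j v) + z (v + j v)) = 0 := by
      intro v
      rw [hq, hz, hK, zero_add]
      simp only [map_add, LinearMap.add_apply]
      have a1 : b (j v) (z (j v)) = b v (z v) := by rw [h.zj, bj]
      have a2 : b (j v) (z v) = b v (j v) := by
        rw [← bj, h.jj, ← h.zj, bz]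
      have a3 : b v (z (j v)) = b v (j v) := by
        rw [← bj v (z (j v)), ← h.zj, h.jj, h.zz, bs]
      rw [a1, a2, a3]
      have : b v (z v) + b v (j v) + (b v (j v) + b v (z v)) = (b v (z v) + b v (z v)) + (b v (j v) + b v (j v)) := by ring
      rw [this, hK, hK, add_zero]
    rw [he]
    have e1 := e0 (e + i e)
    refine Eq.trans (congrArg q ?_) e1
    simp only [map_add, h.zi, h.zj, h.ji', h.zz]
    abel
  have hkf : ∀ v, b (k v) f = 0 := by
    intro v
    have gi : ∀ w, b (i w) f = b w f := fun w => by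
      conv_lhs => rw [← hff.2.2.1]
      exact bi _ _
    have gj : ∀ w, b (j w) f = b w f := fun w => by
      conv_lhs => rw [← hff.2.2.2]
      exact bj _ _
    have gz : ∀ w, b (z w) f = b w f := fun w => by
      conv_lhs => rw [← hff.2.1]
      exact bz _ _
    set s := (v + z v + i (v + z v)) + j (v + z v + i (v + z v)) with hs
    have hsf : ∃ c : K, s = c • f := by
      apply hsp
      · rw [hs]; simp only [map_add, h.zi, h.zj, h.ji', h.zz, h.ii, h.jj]; abel
      · rw [hs]; simp only [map_add, h.zi, h.zj, h.ji', h.zz, h.ii, h.jj]; abel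
      · rw [hs]; simp only [map_add, h.zi, h.zj, h.ji', h.zz, h.ii, h.jj]; abel
    obtain ⟨c, hc'⟩ := hsf
    have e1 : b (k v) f = b (X s) f := by
      rw [hk, hs]
      simp only [Q8.tr_apply, map_add, LinearMap.add_apply, gi, gj, gz, h.zi, h.zj, h.ji']
      ring
    rw [e1, hc', map_smul, map_smul, LinearMap.smul_apply, hX, hqf, mul_zero, smul_zero]
  apply hf0'
  apply hb
  intro w
  have : w ∈ A0 := by rw [htop]; trivial
  obtain ⟨a, rfl⟩ := this
  rw [show (k ^ n) a = k ((k ^ N) a) by rw [hn, pow_succ', Module.End.mul_apply]]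
  exact hkf _


end Cfsg.Agent.H940.L34
end

-- part: H633/L34/Psi
section
prune_inst 0x5600440006200002018000632000000680005000000000038400c0001449020894020405490090210020c506800006011000010426800000e000800000300000001100211000200080000002100000000000000000000000000000000051000000000000
set_option linter.all false
open scoped Cfsg.Agent.FastGrp

/-!
# S5917, type D: the Schur bridge (helper633)

`L0` acts on 8 copies `w : Fin 8` of an 8-dimensional space `M` by `rho x + lam w x`; `D ≤ L0` (where `lam` vanishes) acts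
irreducibly (`schur`); two automorphisms `i j` of `L0` with the relations of the quaternion group permute the copies.
Then (O1) `lam w (i (i x)) = lam w x` and (O2) `rho (Tr x)` is nilpotent.
-/

set_option autoImplicit false

namespace Cfsg.Agent.H633.L34.Psi

open Module Cfsg.Agent.H940.L34

variable {K : Type*} [Field K] {L M : Type*} [AddCommGroup L] [Module K L] [AddCommGroup M] [Module K M]

/-- the data of the blocks -/
structure Blk (L0 D : Submodule K L) (rho : L →ₗ[K] M →ₗ[K] M) (b : M →ₗ[K] M →ₗ[K] K) (Q : M → K) (c : L → K)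
    (nw : Fin 8 → Fin 8) (lam : Fin 8 → L → K) : Prop where
  DL : D ≤ L0
  schur : ∀ T : M →ₗ[K] M, (∀ d ∈ D, ∀ v, T (rho d v) = rho d (T v)) → ∃ a : K, ∀ v, T v = a • v
  nd : ∀ v, (∀ w, b w v = 0) → v = 0
  inv : ∀ d ∈ D, ∀ v w, b (rho d v) w = b v (rho d w)
  pol : ∀ v w, Q (v + w) = Q v + Q w + b v w
  hc : ∀ x ∈ L0, ∀ v, b (rho x v) v = c x * Q v
  x0 : ∃ x ∈ L0, c x ≠ 0
  lamD : ∀ w, ∀ d ∈ D, lam w d = 0
  lam0 : ∀ x ∈ L0, lam 0 x = 0
  lamz : ∀ w, ∀ x ∈ L0, lam (nw w) x = lam w x + lam (nw 0) x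
  nwnw : ∀ w, nw (nw w) = w

/-- `g` permutes the blocks by `sg`, with the maps `G` -/
structure Act (L0 D : Submodule K L) (rho : L →ₗ[K] M →ₗ[K] M) (lam : Fin 8 → L → K) (g : L → L) (sg : Fin 8 → Fin 8)
    (G : Fin 8 → M →ₗ[K] M) : Prop where
  m0 : ∀ x ∈ L0, g x ∈ L0
  mD : ∀ d ∈ D, g d ∈ D
  inj : ∀ w, Function.Injective (G w)
  eq : ∀ w, ∀ x ∈ L0, ∀ v, rho (g x) (G w v) + lam (sg w) (g x) • G w v = G w (rho x v + lam w x • v)

/-- `psi` normalises the action up to the scalars `s` -/
def E (L0 : Submodule K L) (rho : L →ₗ[K] M →ₗ[K] M) (g : L → L) (psi : M →ₗ[K] M) (s : L → K) : Prop :=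
  ∀ x ∈ L0, ∀ v, rho (g x) (psi v) = psi (rho x v) + s x • psi v

/-- the sum over the quaternion group -/
def TrL (i j : L → L) (x : L) : L :=
  x + i (i x) + (i x + i (i (i x))) + (j x + i (i (j x))) + (i (j x) + i (i (i (j x))))

section
variable [CharP K 2] {L0 D : Submodule K L} {rho : L →ₗ[K] M →ₗ[K] M} {b : M →ₗ[K] M →ₗ[K] K} {Q : M → K} {c : L → K}
  {nw : Fin 8 → Fin 8} {lam : Fin 8 → L → K}

omit [Module K M] [AddCommGroup M] in
theorem kk (a : K) : a + a = 0 := CharTwo.add_self_eq_zero a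

theorem mm (K : Type*) [Field K] [CharP K 2] {M : Type*} [AddCommGroup M] [Module K M] (v : M) : v + v = 0 := by
  rw [← two_smul K v, CharTwo.two_eq_zero, zero_smul]

theorem Blk.bvv (B : Blk L0 D rho b Q c nw lam) (v : M) : b v v = 0 := by
  have h0 : Q 0 = 0 := by
    have h := B.pol 0 0
    rw [add_zero, map_zero, add_zero] at h
    have h1 := kk (Q 0)
    rw [← h] at h1
    exact h1
  have h := B.pol v v
  rw [mm K v, h0, kk, zero_add] at h
  exact h.symm

theorem Blk.sym (B : Blk L0 D rho b Q c nw lam) (v w : M) : b v w = b w v := by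
  have h := B.bvv (v + w)
  simp only [map_add, LinearMap.add_apply, B.bvv, zero_add, add_zero] at h
  rw [add_comm] at h
  have h2 := kk (b w v)
  exact (add_right_cancel (h.trans h2.symm))

theorem E.comp {g h : L → L} {psi chi : M →ₗ[K] M} {s t : L → K} (hg : E L0 rho g psi s) (hh : E L0 rho h chi t)
    (hm : ∀ x ∈ L0, h x ∈ L0) : E L0 rho (fun x => g (h x)) (psi ∘ₗ chi) (fun x => t x + s (h x)) := by
  intro x hx v
  simp only [LinearMap.comp_apply]
  rw [hg _ (hm x hx), hh x hx, map_add, map_smul, add_smul, add_assoc]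

theorem Act.E0 {g : L → L} {sg : Fin 8 → Fin 8} {G : Fin 8 → M →ₗ[K] M} (A : Act L0 D rho lam g sg G) (w : Fin 8) :
    E L0 rho g (G w) (fun x => lam w x + lam (sg w) (g x)) := by
  intro x hx v
  have h := A.eq w x hx v
  rw [map_add, map_smul] at h
  rw [add_smul, ← add_assoc, ← h, add_assoc, mm K, add_zero]

/-- intertwining on `D` -/
theorem Act.int {g : L → L} {sg : Fin 8 → Fin 8} {G : Fin 8 → M →ₗ[K] M} (A : Act L0 D rho lam g sg G)
    (B : Blk L0 D rho b Q c nw lam) (w : Fin 8) {d : L} (hd : d ∈ D) (v : M) : rho (g d) (G w v) = G w (rho d v) := by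
  rw [A.E0 w d (B.DL hd) v]
  show _ + (lam w d + lam (sg w) (g d)) • _ = _
  rw [B.lamD w d hd, B.lamD _ _ (A.mD d hd), add_zero, zero_smul, add_zero]

variable [FiniteDimensional K M]

/-- proportionality of intertwiners -/
theorem Blk.prop (B : Blk L0 D rho b Q c nw lam) {g : L → L} {G G' : M →ₗ[K] M}
    (hG : ∀ d ∈ D, ∀ v, rho (g d) (G v) = G (rho d v)) (hG' : ∀ d ∈ D, ∀ v, rho (g d) (G' v) = G' (rho d v))
    (hi : Function.Injective G) : ∃ a : K, ∀ v, G' v = a • G v := by
  let e := LinearEquiv.ofInjectiveEndo G hi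
  have he : ∀ v, e v = G v := fun v => rfl
  have he' : ∀ v, G (e.symm v) = v := fun v => by rw [← he, LinearEquiv.apply_symm_apply]
  obtain ⟨a, ha⟩ := B.schur (e.symm.toLinearMap ∘ₗ G') (fun d hd v => by
    simp only [LinearMap.comp_apply, LinearEquiv.coe_coe]
    apply hi
    rw [he', ← hG' d hd, ← hG d hd, he'])
  refine ⟨a, fun v => ?_⟩
  have h := ha v
  simp only [LinearMap.comp_apply, LinearEquiv.coe_coe] at h
  rw [← he' (G' v), h, map_smul]

/-- similitude -/
theorem Blk.sim [Nontrivial M] (B : Blk L0 D rho b Q c nw lam) {g : L → L} {G : M →ₗ[K] M}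
    (hg : ∀ d ∈ D, g d ∈ D) (hG : ∀ d ∈ D, ∀ v, rho (g d) (G v) = G (rho d v))
    (hi : Function.Injective G) : ∃ a : K, a ≠ 0 ∧ ∀ v w, b (G v) (G w) = a * b v w := by
  have hbi : Function.Injective b := by
    rw [← LinearMap.ker_eq_bot, LinearMap.ker_eq_bot']
    intro v hv
    apply B.nd
    intro w
    rw [B.sym, hv]
    rfl
  let f : M ≃ₗ[K] (M →ₗ[K] K) := LinearEquiv.ofInjectiveOfFinrankEq b hbi (_root_.Subspace.dual_finrank_eq (K := K) (V := M)).symm
  have hf : ∀ v, f v = b v := fun v => rfl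
  let T : M →ₗ[K] M := f.symm.toLinearMap ∘ₗ (LinearMap.lcomp K K G ∘ₗ b ∘ₗ G)
  have hT : ∀ v w, b (T v) w = b (G v) (G w) := by
    intro v w
    have : f (T v) = LinearMap.lcomp K K G (b (G v)) := by
      simp only [T, LinearMap.comp_apply, LinearEquiv.coe_coe, LinearEquiv.apply_symm_apply]
    rw [hf] at this
    rw [this]
    rfl
  obtain ⟨a, ha⟩ := B.schur T (fun d hd v => by
    apply hbi
    ext w
    rw [hT, ← hG d hd, B.inv _ (hg d hd), hG d hd, ← hT, ← B.inv d hd])
  have hT2 : ∀ v w, b (G v) (G w) = a * b v w := by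
    intro v w
    rw [← hT, ha, map_smul, LinearMap.smul_apply, smul_eq_mul]
  refine ⟨a, ?_, hT2⟩
  rintro rfl
  obtain ⟨v, hv⟩ := exists_ne (0 : M)
  apply hv
  apply hi
  rw [map_zero]
  apply B.nd
  intro w
  obtain ⟨w', rfl⟩ := (LinearMap.injective_iff_surjective.1 hi) w
  rw [hT2, zero_mul]

/-- normalisation -/
theorem Blk.exists_psi [Nontrivial M] (hsq : ∀ a : K, ∃ r, r * r = a) (B : Blk L0 D rho b Q c nw lam) {g : L → L}
    {sg : Fin 8 → Fin 8} {G : Fin 8 → M →ₗ[K] M} (A : Act L0 D rho lam g sg G) :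
    ∃ psi : M →ₗ[K] M, (∀ v w, b (psi v) (psi w) = b v w) ∧ (∀ d ∈ D, ∀ v, rho (g d) (psi v) = psi (rho d v)) ∧
      ∀ w, E L0 rho g psi (fun x => lam w x + lam (sg w) (g x)) := by
  obtain ⟨a, ha, h⟩ := B.sim A.mD (fun d hd v => A.int B 0 hd v) (A.inj 0)
  obtain ⟨r, hr⟩ := hsq a
  have hr0 : r ≠ 0 := by
    rintro rfl
    exact ha (by rw [← hr, zero_mul])
  have hi : ∀ d ∈ D, ∀ v, rho (g d) ((r⁻¹ • G 0) v) = (r⁻¹ • G 0) (rho d v) := by
    intro d hd v
    rw [LinearMap.smul_apply, LinearMap.smul_apply, map_smul, A.int B 0 hd]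
  have hpi : Function.Injective (r⁻¹ • G 0) := by
    intro v w hvw
    rw [LinearMap.smul_apply, LinearMap.smul_apply] at hvw
    exact A.inj 0 (smul_right_injective M (inv_ne_zero hr0) hvw)
  refine ⟨r⁻¹ • G 0, fun v w => ?_, hi, fun w x hx v => ?_⟩
  · simp only [LinearMap.smul_apply, map_smul, smul_eq_mul]
    rw [h, ← hr]
    field_simp
  · obtain ⟨e, he⟩ := B.prop (fun d hd v => A.int B w hd v) hi (A.inj w)
    rw [he, he, map_smul, A.E0 w x hx v, smul_add, smul_comm]

/-- uniqueness -/
theorem Blk.uniq [Nontrivial M] (B : Blk L0 D rho b Q c nw lam) {g : L → L} {G G' : M →ₗ[K] M}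
    (hG : ∀ d ∈ D, ∀ v, rho (g d) (G v) = G (rho d v)) (hG' : ∀ d ∈ D, ∀ v, rho (g d) (G' v) = G' (rho d v))
    (hb : ∀ v w, b (G v) (G w) = b v w) (hb' : ∀ v w, b (G' v) (G' w) = b v w) (v : M) : G' v = G v := by
  have hi : Function.Injective G := by
    rw [← LinearMap.ker_eq_bot, LinearMap.ker_eq_bot']
    intro v hv
    apply B.nd
    intro w
    rw [← hb, hv, map_zero]
  obtain ⟨a, ha⟩ := B.prop hG hG' hi
  obtain ⟨u, hu⟩ := exists_ne (0 : M)
  obtain ⟨w, hw⟩ : ∃ w, b w u ≠ 0 := by
    by_contra hcon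
    push Not at hcon
    exact hu (B.nd u hcon)
  have h1 := hb' w u
  simp only [ha, map_smul, LinearMap.smul_apply, smul_eq_mul, hb] at h1
  rw [← mul_assoc] at h1
  have h2 : a * a = 1 := mul_right_cancel₀ hw (by rw [h1, one_mul])
  have h3 : (a + 1) * (a + 1) = 0 := by
    have := kk (1 : K)
    have h4 := kk a
    linear_combination h2 + h4 + this
  have h5 : a + 1 = 0 := mul_self_eq_zero.1 h3
  have h6 : a = 1 := add_right_cancel (h5.trans (kk (1 : K)).symm)
  rw [ha, h6, one_smul]

/-- an isometry of `b` normalising the action of `L0` is an isometry of `Q` -/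
theorem Blk.isoQ [Nontrivial M] (B : Blk L0 D rho b Q c nw lam) {g : L → L} {psi : M →ₗ[K] M} {s : L → K}
    (hm : ∀ x ∈ L0, g x ∈ L0) (hb : ∀ v w, b (psi v) (psi w) = b v w) (hE : E L0 rho g psi s) (v : M) :
    Q (psi v) = Q v := by
  obtain ⟨x, hx, hc0⟩ := B.x0
  have key : ∀ v, c (g x) * Q (psi v) = c x * Q v := by
    intro v
    rw [← B.hc _ (hm x hx), hE x hx, map_add, LinearMap.add_apply, map_smul, LinearMap.smul_apply, B.bvv, smul_zero,
      add_zero, hb, B.hc x hx]
  obtain ⟨u, hu⟩ := exists_ne (0 : M)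
  obtain ⟨w, hw⟩ : ∃ w, b w u ≠ 0 := by
    by_contra hcon
    push Not at hcon
    exact hu (B.nd u hcon)
  have h1 := key (w + u)
  rw [map_add, B.pol, B.pol, mul_add, mul_add, mul_add, mul_add, key, key, hb] at h1
  have h2 : c (g x) * b w u = c x * b w u := by linear_combination h1
  have h3 : c (g x) = c x := mul_right_cancel₀ hw h2
  have h4 := key v
  rw [h3] at h4
  exact mul_left_cancel₀ hc0 h4

theorem E.s_uniq {g : L → L} {psi : M →ₗ[K] M} {s t : L → K} (hs : E L0 rho g psi s) (ht : E L0 rho g psi t)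
    {v : M} (hv : psi v ≠ 0) {x : L} (hx : x ∈ L0) : s x = t x := by
  have h := (hs x hx v).symm.trans (ht x hx v)
  exact smul_left_injective K hv (add_left_cancel h)

/-- the family of the block equations after normalisation -/
def Fam (L0 : Submodule K L) (rho : L →ₗ[K] M →ₗ[K] M) (lam : Fin 8 → L → K) (g : L → L) (sg : Fin 8 → Fin 8)
    (psi : M →ₗ[K] M) : Prop :=
  ∀ w, E L0 rho g psi (fun x => lam w x + lam (sg w) (g x))

omit [FiniteDimensional K M] in
theorem Fam.comp {g h : L → L} {sg sh : Fin 8 → Fin 8} {psi chi : M →ₗ[K] M} (hg : Fam L0 rho lam g sg psi)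
    (hh : Fam L0 rho lam h sh chi) (hm : ∀ x ∈ L0, h x ∈ L0) :
    Fam L0 rho lam (fun x => g (h x)) (fun w => sg (sh w)) (psi ∘ₗ chi) := by
  intro w x hx v
  rw [((hg (sh w)).comp (hh w) hm) x hx v]
  congr 2
  show lam w x + lam (sh w) (h x) + (lam (sh w) (h x) + lam (sg (sh w)) (g (h x))) = _
  rw [← add_assoc, add_assoc (lam w x), kk, add_zero]

omit [FiniteDimensional K M] in
theorem Fam.id : Fam L0 rho lam (fun x => x) (fun w => w) (LinearMap.id : M →ₗ[K] M) := by
  intro w x hx v
  show rho x v = rho x v + (lam w x + lam w x) • v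
  rw [kk, zero_smul, add_zero]

omit [FiniteDimensional K M] in
theorem iso_comp {psi chi : M →ₗ[K] M} (h1 : ∀ v w, b (psi v) (psi w) = b v w) (h2 : ∀ v w, b (chi v) (chi w) = b v w) :
    ∀ v w, b ((psi ∘ₗ chi) v) ((psi ∘ₗ chi) w) = b v w := fun v w => by
  simp only [LinearMap.comp_apply, h1, h2]

omit [FiniteDimensional K M] in
theorem int_comp {g h : L → L} {psi chi : M →ₗ[K] M} (h1 : ∀ d ∈ D, ∀ v, rho (g d) (psi v) = psi (rho d v))
    (h2 : ∀ d ∈ D, ∀ v, rho (h d) (chi v) = chi (rho d v)) (hm : ∀ d ∈ D, h d ∈ D) :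
    ∀ d ∈ D, ∀ v, rho (g (h d)) ((psi ∘ₗ chi) v) = (psi ∘ₗ chi) (rho d v) := fun d hd v => by
  simp only [LinearMap.comp_apply]
  rw [h1 _ (hm d hd), h2 d hd]

/-- **the bridge** -/
theorem main' (hV : finrank K M = 8) (hsq : ∀ a : K, ∃ r, r * r = a) (B : Blk L0 D rho b Q c nw lam)
    {i j : L → L} {si sj : Fin 8 → Fin 8} {Gi Gj : Fin 8 → M →ₗ[K] M} (hi : Act L0 D rho lam i si Gi)
    (hj : Act L0 D rho lam j sj Gj) (h4 : ∀ x ∈ L0, i (i (i (i x))) = x) (hjj : ∀ x ∈ L0, j (j x) = i (i x))
    (hji : ∀ x ∈ L0, j (i x) = i (i (i (j x)))) (hsi : ∀ w, si (si w) = nw w) (hsj : ∀ w, sj (sj w) = nw w) :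
    ∃ pi pj : M →ₗ[K] M, Q8 pi pj (pi ∘ₗ pi) ∧ (∀ v, Q (pi v) = Q v) ∧ (∀ v, Q (pj v) = Q v) ∧
      Fam L0 rho lam i si pi ∧ Fam L0 rho lam j sj pj ∧ (∀ x ∈ L0, ∀ w, lam w (i (i x)) = lam w x) ∧
      (∀ x ∈ L0, rho (TrL i j x) = trQ pi pj (pi ∘ₗ pi) (rho x)) ∧ ∀ x ∈ L0, IsNilpotent (rho (TrL i j x)) := by
  have hnt : Nontrivial M := nontrivial_of_finrank_pos (R := K) (by rw [hV]; norm_num)
  obtain ⟨pi, bi, ii, Ei⟩ := B.exists_psi hsq hi
  obtain ⟨pj, bj, ij, Ej⟩ := B.exists_psi hsq hj
  change Fam L0 rho lam i si pi at Ei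
  change Fam L0 rho lam j sj pj at Ej
  have m1 : ∀ x ∈ L0, i x ∈ L0 := hi.m0
  have m2 : ∀ x ∈ L0, i (i x) ∈ L0 := fun x hx => m1 _ (m1 x hx)
  have mj : ∀ x ∈ L0, j x ∈ L0 := hj.m0
  have d1 : ∀ x ∈ D, i x ∈ D := hi.mD
  have d2 : ∀ x ∈ D, i (i x) ∈ D := fun x hx => d1 _ (d1 x hx)
  have dj : ∀ x ∈ D, j x ∈ D := hj.mD
  -- the square
  have Ez : Fam L0 rho lam (fun x => i (i x)) nw (pi ∘ₗ pi) := by
    have h := Ei.comp Ei m1
    intro w
    have h' := h w
    simp only [hsi] at h'
    exact h'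
  have bz := iso_comp bi bi
  have iz := int_comp ii ii d1
  have iid : ∀ d ∈ D, ∀ v, rho d ((LinearMap.id : M →ₗ[K] M) v) = (LinearMap.id : M →ₗ[K] M) (rho d v) := fun d _ v => rfl
  have hq8 : Q8 pi pj (pi ∘ₗ pi) := by
    refine ⟨fun v => ?_, fun v => rfl, fun v => ?_, fun v => ?_⟩
    · have hz4 := int_comp iz iz d2
      exact B.uniq (g := fun x => x) (G := LinearMap.id) (G' := (pi ∘ₗ pi) ∘ₗ (pi ∘ₗ pi)) iid
        (fun d hd v => by
          have h := hz4 d hd v
          simp only [h4 d (B.DL hd)] at h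
          exact h) (fun v w => rfl) (iso_comp bz bz) v
    · exact B.uniq (g := fun x => i (i x)) (G := pi ∘ₗ pi) (G' := pj ∘ₗ pj) iz
        (fun d hd v => by
          have h := int_comp ij ij dj d hd v
          simp only [hjj d (B.DL hd)] at h
          exact h) bz (iso_comp bj bj) v
    · exact B.uniq (g := fun x => j (i x)) (G := (pi ∘ₗ pi) ∘ₗ (pi ∘ₗ pj)) (G' := pj ∘ₗ pi)
        (fun d hd v => by
          have h := int_comp iz (int_comp ii ij dj) (fun x hx => d1 _ (dj x hx)) d hd v
          simp only [← hji d (B.DL hd)] at h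
          exact h)
        (int_comp ij ii d1) (iso_comp bz (iso_comp bi bj)) (iso_comp bj bi) v
  have hz0 : ∃ v, (pi ∘ₗ pi) v ≠ 0 := by
    obtain ⟨u, hu⟩ := exists_ne (0 : M)
    refine ⟨(pi ∘ₗ pi) u, ?_⟩
    rw [hq8.zz]
    exact hu
  have hi0 : ∃ v, pi v ≠ 0 := by
    obtain ⟨u, hu⟩ := exists_ne (0 : M)
    refine ⟨pi ((pi ∘ₗ pi) u), fun h => hu ?_⟩
    rw [← hq8.zz u]
    exact h
  have hj0 : ∃ v, pj v ≠ 0 := by
    obtain ⟨u, hu⟩ := exists_ne (0 : M)
    refine ⟨pj ((pi ∘ₗ pi) u), fun h => hu ?_⟩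
    rw [← hq8.zz u, ← hq8.jj]
    exact h
  obtain ⟨uz, huz⟩ := hz0
  obtain ⟨ui, hui⟩ := hi0
  obtain ⟨uj, huj⟩ := hj0
  -- `lam (nw 0)`
  have hL : ∀ x ∈ L0, lam (nw 0) (i (i x)) = lam (nw 0) x := by
    intro x hx
    have h := (Ez (nw 0)).s_uniq (Ez 0) huz hx
    simp only [B.nwnw, B.lam0 x hx, B.lam0 _ (m2 x hx), add_zero, zero_add] at h
    exact h.symm
  have O1 : ∀ x ∈ L0, ∀ w, lam w (i (i x)) = lam w x := by
    intro x hx w
    have h := (Ez (nw w)).s_uniq (Ez 0) huz hx
    simp only [B.nwnw, B.lam0 x hx, zero_add, hL x hx] at h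
    have h2 := B.lamz w x hx
    rw [h2] at h
    have h3 := kk (lam (nw 0) x)
    linear_combination h - h3 - kk (lam w x) + h3
  have Li : ∀ x ∈ L0, lam (nw 0) (i x) = lam (nw 0) x := by
    intro x hx
    have h := (Ei (nw 0)).s_uniq (Ei 0) hui hx
    have e : si (nw 0) = nw (si 0) := by rw [← hsi, ← hsi]
    simp only [e, B.lam0 x hx, zero_add, B.lamz (si 0) _ (m1 x hx)] at h
    linear_combination h - kk (lam (nw 0) x)
  have Lj : ∀ x ∈ L0, lam (nw 0) (j x) = lam (nw 0) x := by
    intro x hx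
    have h := (Ej (nw 0)).s_uniq (Ej 0) huj hx
    have e : sj (nw 0) = nw (sj 0) := by rw [← hsj, ← hsj]
    simp only [e, B.lam0 x hx, zero_add, B.lamz (sj 0) _ (mj x hx)] at h
    linear_combination h - kk (lam (nw 0) x)
  have Qi : ∀ v, Q (pi v) = Q v := B.isoQ m1 bi (Ei 0)
  have Qj : ∀ v, Q (pj v) = Q v := B.isoQ mj bj (Ej 0)
  suffices h : ∀ x ∈ L0, rho (TrL i j x) = trQ pi pj (pi ∘ₗ pi) (rho x) from
    ⟨pi, pj, hq8, Qi, Qj, Ei, Ej, O1, h, fun x hx => by
      rw [h x hx]
      exact trQ_nil hV hq8 B.pol Qi Qj B.nd (B.hc x hx)⟩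
  intro x hx
  -- the pairs
  have pair : ∀ {g : L → L} {sg : Fin 8 → Fin 8} {psi psi' : M →ₗ[K] M}, Fam L0 rho lam g sg psi → (∀ x ∈ L0, g x ∈ L0) →
      (∀ v, psi (psi' v) = v) → lam (nw 0) (g x) = lam (nw 0) x → ∀ v, rho (g x) v + rho (i (i (g x))) v =
        psi (rho x (psi' v)) + (pi ∘ₗ pi) (psi (rho x (psi' ((pi ∘ₗ pi) v)))) + lam (nw 0) x • v := by
    intro g sg psi psi' hg hm hp hl v
    have e1 := hg 0 x hx (psi' v)
    have e2 := (Ez.comp hg hm) 0 x hx (psi' ((pi ∘ₗ pi) v))
    rw [hp] at e1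
    have e3 : ((pi ∘ₗ pi) ∘ₗ psi) (psi' ((pi ∘ₗ pi) v)) = v := by
      rw [LinearMap.comp_apply, hp, hq8.zz]
    rw [e3] at e2
    rw [e1, e2]
    have e4 : lam (nw (sg 0)) (i (i (g x))) = lam (sg 0) (g x) + lam (nw 0) x := by
      rw [O1 _ (hm x hx), B.lamz _ _ (hm x hx), hl]
    simp only [e4, B.lam0 x hx, zero_add]
    rw [add_smul, LinearMap.comp_apply (pi ∘ₗ pi) psi]
    have := mm K (lam (sg 0) (g x) • v)
    calc _ = (psi (rho x (psi' v)) + (pi ∘ₗ pi) (psi (rho x (psi' ((pi ∘ₗ pi) v)))) + lam (nw 0) x • v) +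
          (lam (sg 0) (g x) • v + lam (sg 0) (g x) • v) := by abel
      _ = _ := by rw [this, add_zero]
  have P1 := pair Fam.id (fun x hx => hx) (psi' := LinearMap.id) (fun v => rfl) rfl
  have P2 := pair Ei m1 (psi' := pi ∘ₗ (pi ∘ₗ pi)) (fun v => hq8.zz v) (Li x hx)
  have P3 := pair Ej mj (psi' := pj ∘ₗ (pi ∘ₗ pi)) (fun v => by
    show pj (pj ((pi ∘ₗ pi) v)) = v
    rw [hq8.jj, hq8.zz]) (Lj x hx)
  have P4 := pair (Ei.comp Ej mj) (fun x hx => m1 _ (mj x hx)) (psi' := pj ∘ₗ pi) (fun v => by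
    show pi (pj (pj (pi v))) = v
    rw [hq8.jj]
    exact hq8.zz v) (by rw [Li _ (mj x hx), Lj x hx])
  have key : rho (TrL i j x) = trQ pi pj (pi ∘ₗ pi) (rho x) := by
    ext v
    have e0 : rho (TrL i j x) v = (rho x v + rho (i (i x)) v) + (rho (i x) v + rho (i (i (i x))) v) +
        (rho (j x) v + rho (i (i (j x))) v) + (rho (i (j x)) v + rho (i (i (i (j x)))) v) := by
      unfold TrL
      simp only [map_add, LinearMap.add_apply]
    rw [e0, P1 v, P2 v, P3 v, P4 v]
    have hz : ∀ u, pi (pi (pi (pi u))) = u := hq8.zz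
    have hzj : ∀ u, pi (pi (pj u)) = pj (pi (pi u)) := hq8.zj
    have hji' : ∀ u, pj (pi u) = pi (pi (pi (pj u))) := hq8.ji
    unfold trQ
    simp only [LinearMap.add_apply, LinearMap.comp_apply, LinearMap.id_apply, hz, hzj]
    have h4l := mm K (lam (nw 0) x • v + lam (nw 0) x • v)
    generalize lam (nw 0) x • v = l at h4l ⊢
    rw [← sub_eq_zero, ← h4l]
    abel
  exact key

end

end Cfsg.Agent.H633.L34.Psi
end

-- part: H929/L34/NotFree
section
prune_inst 0x4600040006200002018000032000000680005000000000030400c0001441220a94020c15090090210120c4048000060110000100200000000000000000200000005180215000200080000000100000000000000000000000000000000041004000000000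
set_option linter.all false
open scoped Cfsg.Agent.FastGrp

/-!
Quaternion groups acting on quadratic spaces in characteristic two.
-/

set_option autoImplicit false

namespace Cfsg.Agent.H929.L34

open Module QuadraticMap

section sq

variable {K : Type*} [Field K] {L : Type*} [AddCommGroup L] [Module K L]

/-- a square zero map on an invariant submodule has rank at most half the dimension. -/
theorem two_mul_le [FiniteDimensional K L] (c : Module.End K L) (V : Submodule K L)
    (hV : ∀ x ∈ V, c x ∈ V) (h0 : ∀ x ∈ V, c (c x) = 0) :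
    2 * finrank K ↥(V.map c) ≤ finrank K ↥V := by
  set g : V →ₗ[K] L := c.comp V.subtype with hg
  have h1 : finrank K ↥(LinearMap.range g) + finrank K ↥(LinearMap.ker g) = finrank K V :=
    g.finrank_range_add_finrank_ker
  have h2 : LinearMap.range g = V.map c := by
    rw [hg, LinearMap.range_comp, Submodule.range_subtype]
  have h3 : finrank K ↥(V.map c) ≤ finrank K ↥(LinearMap.ker g) := by
    have hle : V.map c ≤ (LinearMap.ker g).map V.subtype := by
      rintro _ ⟨x, hx, rfl⟩
      exact ⟨⟨c x, hV x hx⟩, by simpa [hg] using h0 x hx, rfl⟩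
    refine (Submodule.finrank_mono hle).trans ?_
    exact Submodule.finrank_map_le _ _
  rw [h2] at h1
  omega

/-- the norm of the Klein four group has rank at most a quarter of the dimension. -/
theorem four_mul_le [FiniteDimensional K L] (a b : Module.End K L) (V : Submodule K L)
    (ha : ∀ x ∈ V, a x ∈ V) (hb : ∀ x ∈ V, b x ∈ V)
    (haa : ∀ x ∈ V, a (a x) = 0) (hbb : ∀ x ∈ V, b (b x) = 0)
    (hab : ∀ x ∈ V, a (b x) = b (a x)) :
    4 * finrank K ↥((V.map b).map a) ≤ finrank K ↥V := by
  have h1 := two_mul_le b V hb hbb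
  have h2 : 2 * finrank K ↥((V.map b).map a) ≤ finrank K ↥(V.map b) := by
    refine two_mul_le a (V.map b) ?_ ?_
    · rintro _ ⟨x, hx, rfl⟩
      exact ⟨a x, ha x hx, (hab x hx).symm⟩
    · rintro _ ⟨x, hx, rfl⟩
      rw [hab x hx, hab _ (ha x hx), haa x hx, map_zero]
  omega

end sq

/-- `i`, `j` generate an action of the quaternion group of order eight with central
involution `z`. -/
structure Quat {K : Type*} [Field K] {L : Type*} [AddCommGroup L] [Module K L]
    (i j z : Module.End K L) : Prop where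
  ii : ∀ x, i (i x) = z x
  jj : ∀ x, j (j x) = z x
  ij : ∀ x, i (j x) = z (j (i x))
  zz : ∀ x, z (z x) = x

/-- the norm of the quaternion group -/
def nm {K : Type*} [Field K] {L : Type*} [AddCommGroup L] [Module K L]
    (i j z : Module.End K L) : Module.End K L := (1 + i) * (1 + j) * (1 + z)

section rank

variable {K : Type*} [Field K] [CharP K 2] {L : Type*} [AddCommGroup L] [Module K L]
  {i j z : Module.End K L}

include K in
theorem two_self (x : L) : x + x = 0 := by
  have : (2 : K) = 0 := CharTwo.two_eq_zero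
  rw [← two_smul K, this, zero_smul]

omit [CharP K 2] in
theorem Quat.iz (h : Quat i j z) (x : L) : i (z x) = z (i x) := by rw [← h.ii, ← h.ii]
omit [CharP K 2] in
theorem Quat.jz (h : Quat i j z) (x : L) : j (z x) = z (j x) := by rw [← h.jj, ← h.jj]

/-- **the norm has rank at most a quarter of `W`.** -/
theorem Quat.rank_nm_le [FiniteDimensional K L] (h : Quat i j z) (W Z : Submodule K L)
    (hi : ∀ x ∈ W, i x ∈ W) (hj : ∀ x ∈ W, j x ∈ W) (hz : ∀ x ∈ W, z x = x)
    (hZj : ∀ x ∈ Z, j x = x)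
    (hr : LinearMap.range (1 + z) ≤ W ⊔ Z) :
    4 * finrank K ↥(LinearMap.range (nm i j z)) ≤ finrank K ↥W := by
  have hle : LinearMap.range (nm i j z) ≤ (W.map (1 + j)).map (1 + i) := by
    rintro _ ⟨x, rfl⟩
    obtain ⟨w, hw, t, ht, hwt⟩ := Submodule.mem_sup.1 (hr ⟨x, rfl⟩)
    refine ⟨(1 + j) w, ⟨w, hw, rfl⟩, ?_⟩
    have e : (1 + j) ((1 + z) x) = (1 + j) w := by
      rw [← hwt, map_add]
      have : (1 + j) t = 0 := by
        simp only [LinearMap.add_apply, Module.End.one_apply, hZj t ht]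
        exact two_self (K := K) t
      rw [this, add_zero]
    simp only [nm, Module.End.mul_apply]
    rw [e]
  refine (Nat.mul_le_mul_left 4 (Submodule.finrank_mono hle)).trans ?_
  refine four_mul_le (1 + i) (1 + j) W ?_ ?_ ?_ ?_ ?_
  · intro x hx
    exact W.add_mem hx (hi x hx)
  · intro x hx
    exact W.add_mem hx (hj x hx)
  · intro x hx
    simp only [LinearMap.add_apply, Module.End.one_apply, map_add, h.ii, hz x hx]
    rw [show x + i x + (i x + x) = (x + x) + (i x + i x) by abel, two_self (K := K) x,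
      two_self (K := K) (i x), add_zero]
  · intro x hx
    simp only [LinearMap.add_apply, Module.End.one_apply, map_add, h.jj, hz x hx]
    rw [show x + j x + (j x + x) = (x + x) + (j x + j x) by abel, two_self (K := K) x,
      two_self (K := K) (j x), add_zero]
  · intro x hx
    simp only [LinearMap.add_apply, Module.End.one_apply, map_add]
    rw [h.ij x, hz _ (hj _ (hi x hx))]
    abel

end rank

section quad

variable {K : Type*} [Field K] [CharP K 2] {U : Type*} [AddCommGroup U] [Module K U]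
  {i j z : Module.End K U} (q : QuadraticForm K U)

omit [CharP K 2] in
theorem polar_inv (g : Module.End K U) (hg : ∀ u, q (g u) = q u) (u v : U) :
    polar q (g u) (g v) = polar q u v := by
  simp only [polar, ← map_add, hg]

theorem polar_self0 (u : U) : polar q u u = 0 := by
  rw [QuadraticMap.polar_self]
  have : (2 : K) = 0 := CharTwo.two_eq_zero
  rw [two_smul]
  exact CharTwo.add_self_eq_zero _

/-- if `w = a + g a`, `g` an isometry, then `B(w,a) = q(w)`. -/
theorem polar_add_self (g : Module.End K U) (hg : ∀ u, q (g u) = q u) (a : U) :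
    polar q (a + g a) a = q (a + g a) := by
  rw [QuadraticMap.polar_add_left, polar_self0, zero_add, QuadraticMap.polar_comm]
  simp only [polar, hg]
  rw [sub_sub, CharTwo.add_self_eq_zero, sub_zero]

/-- **the identity.** -/
theorem Quat.q_add (h : Quat i j z) (hi : ∀ u, q (i u) = q u) (hj : ∀ u, q (j u) = q u) (u : U) :
    q (u + z u) = polar q (u + z u) ((1 + i) ((1 + j) u)) := by
  have hk : ∀ u, q ((i * j) u) = q u := fun u => by
    rw [Module.End.mul_apply, hi, hj]
  have ea : (u + i u) + i (u + i u) = u + z u := by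
    rw [map_add, h.ii, show u + i u + (i u + z u) = u + z u + (i u + i u) by abel,
      two_self (K := K), add_zero]
  have eb : (u + j u) + j (u + j u) = u + z u := by
    rw [map_add, h.jj, show u + j u + (j u + z u) = u + z u + (j u + j u) by abel,
      two_self (K := K), add_zero]
  have hkk : (i * j) ((i * j) u) = z u := by
    simp only [Module.End.mul_apply]
    have e1 : j (i (j u)) = i (z (z u)) := by
      have : i (j (j u)) = z (j (i (j u))) := h.ij (j u)
      rw [h.jj] at this
      have e2 := congrArg z this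
      rw [h.zz] at e2
      rw [← e2, ← h.iz]
    rw [e1, h.zz, h.ii]
  have ec : (u + (i * j) u) + (i * j) (u + (i * j) u) = u + z u := by
    rw [map_add, hkk, show u + (i * j) u + ((i * j) u + z u) = u + z u + ((i * j) u + (i * j) u) by
      abel, two_self (K := K), add_zero]
  have pa := polar_add_self q i hi (u + i u)
  have pb := polar_add_self q j hj (u + j u)
  have pc := polar_add_self q (i * j) hk (u + (i * j) u)
  rw [ea] at pa
  rw [eb] at pb
  rw [ec] at pc
  have hc : u + (i * j) u = (u + i u) + i (u + j u) := by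
    rw [map_add, Module.End.mul_apply,
      show u + i u + (i u + i (j u)) = u + i (j u) + (i u + i u) by abel,
      two_self (K := K), add_zero]
  rw [hc, QuadraticMap.polar_add_right, pa] at pc
  have p0 : polar q (u + z u) (i (u + j u)) = 0 := by
    have := pc
    rwa [add_eq_left] at this
  have : (1 + i) ((1 + j) u) = (u + j u) + i (u + j u) := by
    simp only [LinearMap.add_apply, Module.End.one_apply]
  rw [this, QuadraticMap.polar_add_right, p0, add_zero, pb]

omit [CharP K 2] in
/-- `1 + z` is self adjoint. -/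
theorem adj (hz : ∀ u, q (z u) = q u) (hzz : ∀ u, z (z u) = u) (u v : U) :
    polar q ((1 + z) u) v = polar q u ((1 + z) v) := by
  simp only [LinearMap.add_apply, Module.End.one_apply, QuadraticMap.polar_add_left,
    QuadraticMap.polar_add_right]
  congr 1
  rw [← polar_inv q z hz, hzz]

omit [CharP K 2] in
theorem Quat.hz (h : Quat i j z) (hi : ∀ u, q (i u) = q u) (u : U) : q (z u) = q u := by
  rw [← h.ii, hi, hi]

/-- **small rank: the norm vanishes, and `q` vanishes on the range of `1 + z`.** -/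
theorem Quat.q_range [FiniteDimensional K U] (h : Quat i j z) (hi : ∀ u, q (i u) = q u)
    (hj : ∀ u, q (j u) = q u) (hr : finrank K ↥(LinearMap.range (1 + z)) < 4) (u : U) :
    q ((1 + z) u) = 0 := by
  have h1 := h.rank_nm_le (LinearMap.range (1 + z)) ⊥ ?_ ?_ ?_ ?_ le_sup_left
  · have h2 : finrank K ↥(LinearMap.range (nm i j z)) = 0 := by omega
    have h3 : nm i j z = 0 := by
      rw [Submodule.finrank_eq_zero] at h2
      exact LinearMap.range_eq_bot.1 h2
    have e : (1 + z) u = u + z u := by simp only [LinearMap.add_apply, Module.End.one_apply]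
    rw [e, h.q_add q hi hj, ← e, adj q (h.hz q hi) h.zz]
    have e2 : (1 + z) ((1 + i) ((1 + j) u)) = nm i j z u := by
      simp only [nm, Module.End.mul_apply, LinearMap.add_apply, Module.End.one_apply, map_add,
        h.iz, h.jz]
      abel
    rw [e2, h3, LinearMap.zero_apply, QuadraticMap.polar_zero_right]
  · rintro _ ⟨x, rfl⟩
    exact ⟨i x, by simp only [LinearMap.add_apply, Module.End.one_apply, map_add, h.iz]⟩
  · rintro _ ⟨x, rfl⟩
    exact ⟨j x, by simp only [LinearMap.add_apply, Module.End.one_apply, map_add, h.jz]⟩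
  · rintro _ ⟨x, rfl⟩
    simp only [LinearMap.add_apply, Module.End.one_apply, map_add, h.zz]
    exact add_comm _ _
  · intro x hx
    rw [(Submodule.mem_bot K).1 hx, map_zero]

end quad

section wedge

variable {K : Type*} [Field K] [CharP K 2] {U : Type*} [AddCommGroup U] [Module K U]
  {i j z : Module.End K U} (q : QuadraticForm K U)

/-- `a ∧ b : u ↦ B(u,a) b + B(u,b) a`. -/
def wd (a : U) : U →ₗ[K] Module.End K U where
  toFun b :=
    { toFun := fun u => polar q u a • b + polar q u b • a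
      map_add' := fun x y => by
        simp only [QuadraticMap.polar_add_left, add_smul]; abel
      map_smul' := fun c x => by
        simp only [QuadraticMap.polar_smul_left, smul_eq_mul, mul_smul, RingHom.id_apply,
          smul_add] }
  map_add' b c := by
    ext u
    simp only [LinearMap.add_apply, LinearMap.coe_mk, AddHom.coe_mk, smul_add,
      QuadraticMap.polar_add_right, add_smul]
    abel
  map_smul' c b := by
    ext u
    simp only [LinearMap.coe_mk, AddHom.coe_mk, LinearMap.smul_apply, RingHom.id_apply,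
      QuadraticMap.polar_smul_right, smul_eq_mul, mul_smul, smul_add]
    rw [smul_comm]

omit [CharP K 2] in
theorem wd_apply (a b u : U) : wd q a b u = polar q u a • b + polar q u b • a := rfl

theorem wd_self (a : U) : wd q a a = 0 := by
  ext u
  rw [wd_apply, two_self (K := K), LinearMap.zero_apply]

theorem wd_comm (a b : U) : wd q a b = wd q b a := by
  ext u
  rw [wd_apply, wd_apply, add_comm]

/-- the similitude Lie algebra -/
def Sim : Submodule K (Module.End K U) where
  carrier := {X | ∃ μ : K, ∀ u, polar q (X u) u = μ * q u}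
  add_mem' := by
    rintro X Y ⟨a, ha⟩ ⟨b, hb⟩
    exact ⟨a + b, fun u => by
      rw [LinearMap.add_apply, QuadraticMap.polar_add_left, ha, hb, add_mul]⟩
  zero_mem' := ⟨0, fun u => by
    rw [LinearMap.zero_apply, QuadraticMap.polar_zero_left, zero_mul]⟩
  smul_mem' := by
    rintro c X ⟨a, ha⟩
    exact ⟨c * a, fun u => by
      rw [LinearMap.smul_apply, QuadraticMap.polar_smul_left, ha, smul_eq_mul, mul_assoc]⟩

omit [CharP K 2] in
theorem q_add' (u v : U) : q (u + v) = q u + q v + polar q u v := by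
  simp only [polar]; ring

theorem sim_polar {X : Module.End K U} {μ : K} (h : ∀ u, polar q (X u) u = μ * q u) (u v : U) :
    polar q (X u) v = polar q u (X v) + μ * polar q u v := by
  have e := h (u + v)
  rw [map_add, QuadraticMap.polar_add_left, QuadraticMap.polar_add_right,
    QuadraticMap.polar_add_right, h u, h v, q_add', mul_add, mul_add] at e
  rw [QuadraticMap.polar_comm q u (X v)]
  have h2 : ∀ x : K, x + x = 0 := CharTwo.add_self_eq_zero
  linear_combination e - h2 (polar q (X v) u)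

variable {q}

/-- **ten dimensions.** -/
theorem exists_ten [FiniteDimensional K U] (h8 : finrank K U = 8)
    (hnd : ∀ x, (∀ y, polar q x y = 0) → x = 0)
    (hz : ∀ u, q (z u) = q u) (hzz : ∀ u, z (z u) = u) (h0 : ∀ u, q ((1 + z) u) = 0)
    (h2 : finrank K ↥(LinearMap.range (1 + z)) = 2) :
    ∃ R : Submodule K (Module.End K U), finrank K ↥R ≤ 10 ∧ ∀ X ∈ Sim q, X + z * X * z ∈ R := by
  have hch : ∀ x : K, x + x = 0 := CharTwo.add_self_eq_zero
  have hself : ∀ u, polar q u u = 0 := polar_self0 q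
  set n : Module.End K U := 1 + z with hn
  have hadj : ∀ u v, polar q (n u) v = polar q u (n v) := adj q hz hzz
  have halt : ∀ u, polar q (n u) u = 0 := fun u => by
    have := polar_add_self q z hz u
    have e : n u = u + z u := by simp only [hn, LinearMap.add_apply, Module.End.one_apply]
    rw [e, this, ← e, h0]
  -- a basis of the range
  let b := Module.finBasisOfFinrankEq K ↥(LinearMap.range n) h2
  obtain ⟨u1, hu1⟩ := (b 0).2
  obtain ⟨u2, hu2⟩ := (b 1).2
  set p1 := n u1 with hp1
  set p2 := n u2 with hp2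
  have hrange : ∀ u, ∃ a c : K, n u = a • p1 + c • p2 := fun u => by
    have h := b.sum_repr ⟨n u, ⟨u, rfl⟩⟩
    rw [Fin.sum_univ_two] at h
    have h' := congrArg Subtype.val h
    simp only [Submodule.coe_add, Submodule.coe_smul] at h'
    rw [← hu1, ← hu2] at h'
    exact ⟨_, _, h'.symm⟩
  have hind : ∀ a c : K, a • p1 + c • p2 = 0 → a = 0 ∧ c = 0 := fun a c h => by
    have hl := Fintype.linearIndependent_iff.1 b.linearIndependent ![a, c] (by
      rw [Fin.sum_univ_two]
      refine Subtype.ext ?_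
      simp only [Submodule.coe_add, Submodule.coe_smul, Submodule.coe_zero,
        Matrix.cons_val_zero, Matrix.cons_val_one]
      rw [← hu1, ← hu2]; exact h)
    exact ⟨hl 0, hl 1⟩
  have h11 : polar q p1 u1 = 0 := halt u1
  have h22 : polar q p2 u2 = 0 := halt u2
  set c := polar q p1 u2 with hc
  have h12 : polar q u1 p2 = c := by rw [hc, hp1, hp2, hadj]
  have h21 : polar q p2 u1 = c := by rw [QuadraticMap.polar_comm, h12]
  have h12' : polar q u2 p1 = c := by rw [QuadraticMap.polar_comm]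
  have hc0 : c ≠ 0 := by
    intro hc0
    have : p1 = 0 := hnd _ fun y => by
      obtain ⟨a, d, hy⟩ := hrange y
      rw [hp1, hadj, hy, QuadraticMap.polar_add_right, QuadraticMap.polar_smul_right,
        QuadraticMap.polar_smul_right, QuadraticMap.polar_comm q u1 p1, h11, h12, hc0]
      simp
    have := (hind 1 0 (by rw [this]; simp)).1
    exact one_ne_zero this
  have hformula : ∀ u, n u = (c⁻¹ * polar q u p2) • p1 + (c⁻¹ * polar q u p1) • p2 := fun u => by
    obtain ⟨a, d, hy⟩ := hrange u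
    have e1 : polar q (n u) u2 = polar q u p2 := by rw [hadj]
    have e2 : polar q (n u) u1 = polar q u p1 := by rw [hadj]
    rw [hy, QuadraticMap.polar_add_left, QuadraticMap.polar_smul_left,
      QuadraticMap.polar_smul_left, h22, ← hc, smul_eq_mul, smul_eq_mul, mul_zero, add_zero] at e1
    rw [hy, QuadraticMap.polar_add_left, QuadraticMap.polar_smul_left,
      QuadraticMap.polar_smul_left, h11, h21, smul_eq_mul, smul_eq_mul, mul_zero, zero_add] at e2
    rw [hy, ← e1, ← e2]
    congr 2 <;> field_simp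
  have hpp : polar q p1 p2 = 0 := by
    have := h0 (u1 + u2)
    rw [map_add, q_add' q, ← hp1, ← hp2] at this
    rw [hp1, hp2, h0, h0, zero_add, zero_add] at this
    exact this
  have hq1 : q p1 = 0 := h0 u1
  have hq2 : q p2 = 0 := h0 u2
  -- the orthogonal complement
  let f : U →ₗ[K] (K × K) × (K × K) :=
    ((q.polarBilin.flip p1).prod (q.polarBilin.flip p2)).prod
      ((q.polarBilin.flip u1).prod (q.polarBilin.flip u2))
  let V4 : Submodule K U := LinearMap.ker f
  have hcc : c⁻¹ * c = 1 := inv_mul_cancel₀ hc0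
  have hfx : ∀ x, f x = ((polar q x p1, polar q x p2), (polar q x u1, polar q x u2)) :=
    fun x => rfl
  have hV4 : ∀ x, x ∈ V4 ↔ (polar q x p1 = 0 ∧ polar q x p2 = 0) ∧
      (polar q x u1 = 0 ∧ polar q x u2 = 0) := fun x => by
    simp only [V4, LinearMap.mem_ker, hfx, Prod.mk_eq_zero]
  have hsurj : Function.Surjective f := by
    rintro ⟨⟨a, b'⟩, ⟨d, e⟩⟩
    refine ⟨(c⁻¹ * b') • u1 + (c⁻¹ * a) • u2 +
      (c⁻¹ * (e + c⁻¹ * b' * polar q u1 u2)) • p1 +
      (c⁻¹ * (d + c⁻¹ * a * polar q u1 u2)) • p2, ?_⟩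
    have e1 : polar q u1 p1 = 0 := by rw [QuadraticMap.polar_comm, h11]
    have e2 : polar q u2 p2 = 0 := by rw [QuadraticMap.polar_comm, h22]
    have e3 : polar q p2 p1 = 0 := by rw [QuadraticMap.polar_comm, hpp]
    have e4 : polar q u2 u1 = polar q u1 u2 := QuadraticMap.polar_comm _ _ _
    rw [hfx]
    set t := polar q u1 u2 with ht
    simp only [QuadraticMap.polar_add_left,
      QuadraticMap.polar_smul_left, smul_eq_mul, hself, h11, h22, h12, h21, h12', hpp, e1, e2, e3,
      e4, ← hc, ← ht, Prod.mk.injEq]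
    refine ⟨⟨?_, ?_⟩, ⟨?_, ?_⟩⟩
    · linear_combination a * hcc
    · linear_combination b' * hcc
    · linear_combination (d + c⁻¹ * a * t) * hcc + hch (c⁻¹ * a * t)
    · linear_combination (e + c⁻¹ * b' * t) * hcc + hch (c⁻¹ * b' * t)
  have hfin4 : finrank K V4 ≤ 4 := by
    have h := f.finrank_range_add_finrank_ker
    rw [LinearMap.range_eq_top.2 hsurj, finrank_top, h8] at h
    simp only [Module.finrank_prod, Module.finrank_self] at h
    have : finrank K V4 = finrank K (LinearMap.ker f) := rfl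
    omega
  have hdec : ∀ x, ∃ v ∈ V4, ∃ a d : K, x = (c⁻¹ * polar q x p2) • u1 +
      (c⁻¹ * polar q x p1) • u2 + a • p1 + d • p2 + v := fun x => by
    set x' := x + (c⁻¹ * polar q x p2) • u1 + (c⁻¹ * polar q x p1) • u2 with hx'
    have e1 : polar q u1 p1 = 0 := by rw [QuadraticMap.polar_comm, h11]
    have e2 : polar q u2 p2 = 0 := by rw [QuadraticMap.polar_comm, h22]
    have e3 : polar q p2 p1 = 0 := by rw [QuadraticMap.polar_comm, hpp]
    have f1 : polar q x' p1 = 0 := by
      rw [hx']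
      simp only [QuadraticMap.polar_add_left, QuadraticMap.polar_smul_left, smul_eq_mul, e1, h12']
      linear_combination (polar q x p1) * hcc + hch (polar q x p1)
    have f2 : polar q x' p2 = 0 := by
      rw [hx']
      simp only [QuadraticMap.polar_add_left, QuadraticMap.polar_smul_left, smul_eq_mul, e2, h12]
      linear_combination (polar q x p2) * hcc + hch (polar q x p2)
    refine ⟨x' + (c⁻¹ * polar q x' u2) • p1 + (c⁻¹ * polar q x' u1) • p2, ?_,
      c⁻¹ * polar q x' u2, c⁻¹ * polar q x' u1, ?_⟩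
    · rw [hV4]
      refine ⟨⟨?_, ?_⟩, ⟨?_, ?_⟩⟩
      · simp only [QuadraticMap.polar_add_left, QuadraticMap.polar_smul_left, smul_eq_mul, f1,
          hself, e3]
        ring
      · simp only [QuadraticMap.polar_add_left, QuadraticMap.polar_smul_left, smul_eq_mul, f2,
          hself, hpp]
        ring
      · simp only [QuadraticMap.polar_add_left, QuadraticMap.polar_smul_left, smul_eq_mul,
          h11, h21]
        linear_combination (polar q x' u1) * hcc + hch (polar q x' u1)
      · simp only [QuadraticMap.polar_add_left, QuadraticMap.polar_smul_left, smul_eq_mul,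
          h22, ← hc]
        linear_combination (polar q x' u2) * hcc + hch (polar q x' u2)
    · set A := (c⁻¹ * polar q x p2) • u1
      set B := (c⁻¹ * polar q x p1) • u2
      set C := (c⁻¹ * polar q x' u2) • p1
      set D := (c⁻¹ * polar q x' u1) • p2
      rw [hx', show A + B + C + D + (x + A + B + C + D) = x + (A + A) + (B + B) + (C + C) + (D + D)
        by abel, two_self (K := K) A, two_self (K := K) B, two_self (K := K) C,
        two_self (K := K) D]
      simp only [add_zero]
  refine ⟨Submodule.span K {wd q p1 p2} ⊔ Submodule.span K {wd q p1 u2 + wd q p2 u1} ⊔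
    (V4.map (wd q p1) ⊔ V4.map (wd q p2)), ?_, ?_⟩
  · have g1 : finrank K ↥(Submodule.span K {wd q p1 p2}) ≤ 1 :=
      (finrank_span_le_card _).trans (by simp)
    have g2 : finrank K ↥(Submodule.span K {wd q p1 u2 + wd q p2 u1}) ≤ 1 :=
      (finrank_span_le_card _).trans (by simp)
    have g3 : finrank K ↥(V4.map (wd q p1)) ≤ 4 := (Submodule.finrank_map_le _ _).trans hfin4
    have g4 : finrank K ↥(V4.map (wd q p2)) ≤ 4 := (Submodule.finrank_map_le _ _).trans hfin4
    have k1 := Submodule.finrank_add_le_finrank_add_finrank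
      (Submodule.span K {wd q p1 p2}) (Submodule.span K {wd q p1 u2 + wd q p2 u1})
    have k2 := Submodule.finrank_add_le_finrank_add_finrank (V4.map (wd q p1)) (V4.map (wd q p2))
    have k3 := Submodule.finrank_add_le_finrank_add_finrank
      (Submodule.span K {wd q p1 p2} ⊔ Submodule.span K {wd q p1 u2 + wd q p2 u1})
      (V4.map (wd q p1) ⊔ V4.map (wd q p2))
    omega
  · rintro X ⟨μ, hX⟩
    have hXp := sim_polar q hX
    have hX1 : polar q (X p1) p1 = 0 := by rw [hX, hq1, mul_zero]
    have hX2 : polar q (X p2) p2 = 0 := by rw [hX, hq2, mul_zero]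
    set s := polar q (X p1) p2 with hs
    have hs' : polar q (X p2) p1 = s := by
      rw [hXp, QuadraticMap.polar_comm q p2 p1, hpp, mul_zero, add_zero, QuadraticMap.polar_comm]
    have key : X + z * X * z = c⁻¹ • (wd q p1 (X p2) + wd q p2 (X p1)) +
        (c⁻¹ * μ + c⁻¹ * c⁻¹ * s) • wd q p1 p2 := by
      ext u
      have ez : ∀ x, z x = x + n x := fun x => by
        simp only [hn, LinearMap.add_apply, Module.End.one_apply]
        rw [← add_assoc, two_self (K := K), zero_add]
      have e0 : (X + z * X * z) u = X (n u) + n (X u) + n (X (n u)) := by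
        simp only [LinearMap.add_apply, Module.End.mul_apply]
        rw [ez u, map_add, ez, map_add]
        rw [show X u + (X u + X (n u) + (n (X u) + n (X (n u)))) =
          (X u + X u) + (X (n u) + n (X u) + n (X (n u))) by abel, two_self (K := K), zero_add]
      rw [e0, hformula (X u), hformula (X (n u)), hformula u, map_add, map_smul, map_smul]
      simp only [QuadraticMap.polar_add_left, QuadraticMap.polar_smul_left, hX1, hX2, ← hs, hs',
        hXp u p2, hXp u p1, smul_eq_mul, LinearMap.add_apply, LinearMap.smul_apply, wd_apply]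
      module
    rw [key]
    obtain ⟨v2, hv2, a2, d2, e2⟩ := hdec (X p2)
    obtain ⟨v1, hv1, a1, d1, e1⟩ := hdec (X p1)
    rw [hX2, hs', mul_zero, zero_smul, zero_add] at e2
    rw [hX1, ← hs, mul_zero, zero_smul, add_zero] at e1
    have key2 : wd q p1 (X p2) + wd q p2 (X p1) = (d2 + a1) • wd q p1 p2 +
        (c⁻¹ * s) • (wd q p1 u2 + wd q p2 u1) + (wd q p1 v2 + wd q p2 v1) := by
      rw [e2, e1]
      simp only [map_add, map_smul, wd_self, wd_comm q p2 p1]
      module
    rw [key2]
    refine Submodule.add_mem _ (Submodule.smul_mem _ _ (Submodule.add_mem _ (Submodule.add_mem _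
      ?_ ?_) ?_)) ?_
    · exact Submodule.mem_sup_left (Submodule.mem_sup_left (Submodule.smul_mem _ _
        (Submodule.mem_span_singleton_self _)))
    · exact Submodule.mem_sup_left (Submodule.mem_sup_right (Submodule.smul_mem _ _
        (Submodule.mem_span_singleton_self _)))
    · exact Submodule.mem_sup_right (Submodule.add_mem_sup ⟨v2, hv2, rfl⟩ ⟨v1, hv1, rfl⟩)
    · exact Submodule.mem_sup_left (Submodule.mem_sup_left (Submodule.smul_mem _ _
        (Submodule.mem_span_singleton_self _)))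

/-- the rank of an alternating operator is not one. -/
theorem rank_ne_one [FiniteDimensional K U] (hnd : ∀ x, (∀ y, polar q x y = 0) → x = 0) (n : Module.End K U)
    (hadj : ∀ u v, polar q (n u) v = polar q u (n v)) (halt : ∀ u, polar q (n u) u = 0) :
    finrank K ↥(LinearMap.range n) ≠ 1 := by
  intro h1
  let b := Module.finBasisOfFinrankEq K ↥(LinearMap.range n) h1
  obtain ⟨u1, hu1⟩ := (b 0).2
  have hrange : ∀ u, ∃ a : K, n u = a • n u1 := fun u => by
    have h := b.sum_repr ⟨n u, ⟨u, rfl⟩⟩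
    rw [Fin.sum_univ_one] at h
    have h' := congrArg Subtype.val h
    simp only [Submodule.coe_smul] at h'
    rw [← hu1] at h'
    exact ⟨_, h'.symm⟩
  have h0 : n u1 = 0 := hnd _ fun y => by
    obtain ⟨a, hy⟩ := hrange y
    rw [hadj, hy, QuadraticMap.polar_smul_right, QuadraticMap.polar_comm, halt, smul_zero]
  have := b.ne_zero 0
  exact this (Subtype.ext (by rw [← hu1, h0]; rfl))

/-- the rank of an alternating operator is not three. -/
theorem rank_ne_three [FiniteDimensional K U] (hnd : ∀ x, (∀ y, polar q x y = 0) → x = 0) (n : Module.End K U)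
    (hadj : ∀ u v, polar q (n u) v = polar q u (n v)) (halt : ∀ u, polar q (n u) u = 0) :
    finrank K ↥(LinearMap.range n) ≠ 3 := by
  intro h1
  have hch : ∀ x : K, x + x = 0 := CharTwo.add_self_eq_zero
  let b := Module.finBasisOfFinrankEq K ↥(LinearMap.range n) h1
  obtain ⟨u0, hu0⟩ := (b 0).2
  obtain ⟨u1, hu1⟩ := (b 1).2
  obtain ⟨u2, hu2⟩ := (b 2).2
  have hrange : ∀ u, ∃ a c d : K, n u = a • n u0 + c • n u1 + d • n u2 := fun u => by
    have h := b.sum_repr ⟨n u, ⟨u, rfl⟩⟩
    rw [Fin.sum_univ_three] at h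
    have h' := congrArg Subtype.val h
    simp only [Submodule.coe_add, Submodule.coe_smul] at h'
    rw [← hu0, ← hu1, ← hu2] at h'
    exact ⟨_, _, _, h'.symm⟩
  have hind : ∀ a c d : K, a • n u0 + c • n u1 + d • n u2 = 0 → a = 0 ∧ c = 0 ∧ d = 0 :=
    fun a c d h => by
    have hl := Fintype.linearIndependent_iff.1 b.linearIndependent ![a, c, d] (by
      rw [Fin.sum_univ_three]
      refine Subtype.ext ?_
      simp only [Submodule.coe_add, Submodule.coe_smul, Submodule.coe_zero,
        Matrix.cons_val_zero, Matrix.cons_val_one, Matrix.cons_val]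
      rw [← hu0, ← hu1, ← hu2]; exact h)
    exact ⟨hl 0, hl 1, hl 2⟩
  have hsym : ∀ x y, polar q x (n y) = polar q y (n x) := fun x y => by
    rw [← hadj, QuadraticMap.polar_comm]
  have halt' : ∀ u, polar q u (n u) = 0 := fun u => by rw [← hadj, halt]
  set x := polar q u1 (n u2) • u0 + polar q u0 (n u2) • u1 + polar q u0 (n u1) • u2 with hx
  have hx0 : n x = 0 := hnd _ fun y => by
    obtain ⟨a, c, d, hy⟩ := hrange y
    rw [hadj, hy, hx]
    simp only [QuadraticMap.polar_add_right, QuadraticMap.polar_add_left,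
      QuadraticMap.polar_smul_left, QuadraticMap.polar_smul_right, smul_eq_mul, halt',
      hsym u1 u0, hsym u2 u0, hsym u2 u1]
    linear_combination a * hch (polar q u0 (n u1) * polar q u0 (n u2)) +
      c * hch (polar q u1 (n u2) * polar q u0 (n u1)) +
      d * hch (polar q u0 (n u2) * polar q u1 (n u2))
  rw [hx, map_add, map_add, map_smul, map_smul, map_smul] at hx0
  obtain ⟨h12, h02, h01⟩ := hind _ _ _ hx0
  have h0 : n u0 = 0 := hnd _ fun y => by
    obtain ⟨a, c, d, hy⟩ := hrange y
    rw [hadj, hy, QuadraticMap.polar_add_right, QuadraticMap.polar_add_right,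
      QuadraticMap.polar_smul_right, QuadraticMap.polar_smul_right,
      QuadraticMap.polar_smul_right, halt', h01, h02]
    simp
  have := b.ne_zero 0
  exact this (Subtype.ext (by rw [← hu0, h0]; rfl))

/-- the map `X ↦ X + z X z` as a linear map. -/
def dd (z : Module.End K U) : Module.End K (Module.End K U) where
  toFun X := X + z * X * z
  map_add' X Y := by rw [mul_add, add_mul]; abel
  map_smul' c X := by
    rw [RingHom.id_apply, smul_add, mul_smul_comm, smul_mul_assoc]

omit [CharP K 2] in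
theorem dd_apply (z X : Module.End K U) : dd z X = X + z * X * z := rfl

/-- **small rank gives few dimensions.** -/
theorem Quat.finrank_dd_le [FiniteDimensional K U] (h8 : finrank K U = 8)
    (hnd : ∀ x, (∀ y, polar q x y = 0) → x = 0) (h : Quat i j z)
    (hi : ∀ u, q (i u) = q u) (hj : ∀ u, q (j u) = q u)
    (h4 : finrank K ↥(LinearMap.range (1 + z)) ≠ 4) :
    finrank K ↥((Sim q).map (dd z)) ≤ 10 := by
  have hle : 2 * finrank K ↥((⊤ : Submodule K U).map (1 + z)) ≤ finrank K ↥(⊤ : Submodule K U) :=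
    two_mul_le (1 + z) ⊤ (fun x _ => Submodule.mem_top) fun x _ => by
      simp only [LinearMap.add_apply, Module.End.one_apply, map_add, h.zz]
      rw [show x + z x + (z x + x) = (x + x) + (z x + z x) by abel, two_self (K := K) x,
        two_self (K := K) (z x), add_zero]
  rw [Submodule.map_top, finrank_top, h8] at hle
  have hlt : finrank K ↥(LinearMap.range (1 + z)) < 4 := by omega
  have h0 := h.q_range q hi hj hlt
  have hz := h.hz q hi
  have hadj := adj q hz h.zz
  have halt : ∀ u, polar q ((1 + z) u) u = 0 := fun u => by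
    have := polar_add_self q z hz u
    have e : (1 + z) u = u + z u := by simp only [LinearMap.add_apply, Module.End.one_apply]
    rw [e, this, ← e, h0]
  have n1 := rank_ne_one hnd (1 + z) hadj halt
  have n3 := rank_ne_three hnd (1 + z) hadj halt
  obtain h2 | h2 : finrank K ↥(LinearMap.range (1 + z)) = 2 ∨
      finrank K ↥(LinearMap.range (1 + z)) = 0 := by omega
  · obtain ⟨R, hR, hX⟩ := exists_ten h8 hnd hz h.zz h0 h2
    refine (Submodule.finrank_mono ?_).trans hR
    rintro _ ⟨X, hXS, rfl⟩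
    exact hX X hXS
  · rw [Submodule.finrank_eq_zero] at h2
    have hz1 : ∀ u, z u = u := fun u => by
      have := LinearMap.congr_fun (LinearMap.range_eq_bot.1 h2) u
      simp only [LinearMap.add_apply, Module.End.one_apply, LinearMap.zero_apply] at this
      calc z u = z u + (u + z u) := by rw [this, add_zero]
        _ = u + (z u + z u) := by abel
        _ = u := by rw [two_self (K := K), add_zero]
    have : (Sim q).map (dd z) = ⊥ := by
      rw [eq_bot_iff]
      rintro _ ⟨X, _, rfl⟩
      rw [Submodule.mem_bot, dd_apply]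
      ext u
      simp only [LinearMap.add_apply, Module.End.mul_apply, hz1, LinearMap.zero_apply]
      exact two_self (K := K) _
    rw [this, finrank_bot]
    omega

/-- conjugation -/
def cj (g g' : Module.End K U) : Module.End K (Module.End K U) where
  toFun X := g * X * g'
  map_add' X Y := by rw [mul_add, add_mul]
  map_smul' c X := by
    rw [RingHom.id_apply, mul_smul_comm, smul_mul_assoc]

omit [CharP K 2] in
theorem cj_apply (g g' X : Module.End K U) : cj g g' X = g * X * g' := rfl

omit [CharP K 2] in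
theorem Quat.conj (h : Quat i j z) : Quat (cj i (i * z)) (cj j (j * z)) (cj z z) where
  ii X := by
    ext u
    simp only [cj_apply, Module.End.mul_apply, h.ii, h.iz, h.zz]
  jj X := by
    ext u
    simp only [cj_apply, Module.End.mul_apply, h.jj, h.jz, h.zz]
  ij X := by
    ext u
    simp only [cj_apply, Module.End.mul_apply, h.iz, h.zz, h.ij]
  zz X := by
    ext u
    simp only [cj_apply, Module.End.mul_apply, h.zz]

/-- the trace `X ↦ ∑_{g ∈ Q8} g X g⁻¹`. -/
def tr (i j z : Module.End K U) : Module.End K (Module.End K U) :=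
  nm (cj i (i * z)) (cj j (j * z)) (cj z z)

omit [CharP K 2] in
/-- the trace, explicitly. -/
theorem Quat.tr_apply (h : Quat i j z) (X : Module.End K U) :
    tr i j z X = X + z * X * z + (i * X * (i * z) + i * z * X * i) +
      (j * X * (j * z) + j * z * X * j) + (i * j * X * (j * i) + i * j * z * X * (j * i * z)) := by
  ext u
  simp only [tr, nm, Module.End.mul_apply, LinearMap.add_apply, Module.End.one_apply, cj_apply,
    h.iz, h.jz, h.zz, map_add]
  abel

/-- **(F1)** -/
theorem Quat.rank_four_of_tr [FiniteDimensional K U] (h8 : finrank K U = 8)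
    (hnd : ∀ x, (∀ y, polar q x y = 0) → x = 0) (h : Quat i j z)
    (hi : ∀ u, q (i u) = q u) (hj : ∀ u, q (j u) = q u)
    (W : Submodule K (Module.End K U)) (hW : W ≤ Sim q)
    (h3 : 3 ≤ finrank K ↥(W.map (tr i j z))) :
    finrank K ↥(LinearMap.range (1 + z)) = 4 := by
  by_contra h4
  have h10 := h.finrank_dd_le h8 hnd hi hj h4
  have hz := h.hz q hi
  set V := (Sim q).map (dd z) with hV
  have hS : ∀ g g' : Module.End K U, (∀ u, g (g' u) = u) → (∀ u, q (g' u) = q u) →
      (∀ u, q (g u) = q u) → ∀ X ∈ Sim q, g * X * g' ∈ Sim q := by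
    rintro g g' hgg hg' hg X ⟨μ, hX⟩
    refine ⟨μ, fun u => ?_⟩
    have e : polar q ((g * X * g') u) u = polar q (X (g' u)) (g' u) := by
      have e1 := polar_inv q g hg (X (g' u)) (g' u)
      rw [hgg] at e1
      exact e1
    rw [e, hX, hg']
  have hcj : ∀ g : Module.End K U, (∀ u, g (g u) = z u) → (∀ u, q (g u) = q u) →
      ∀ Y ∈ V, cj g (g * z) Y ∈ V := by
    rintro g hg hgq _ ⟨X, hX, rfl⟩
    have hgz : ∀ u, g (z u) = z (g u) := fun u => by rw [← hg, ← hg]
    refine ⟨g * X * (g * z), hS g (g * z) (fun u => ?_) (fun u => ?_) hgq X hX, ?_⟩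
    · rw [Module.End.mul_apply, hg, h.zz]
    · rw [Module.End.mul_apply, hgq, hz]
    · ext u
      simp only [dd_apply, cj_apply, LinearMap.add_apply, Module.End.mul_apply, map_add, hgz, h.zz]
  have hle : W.map (tr i j z) ≤ (V.map (1 + cj j (j * z))).map (1 + cj i (i * z)) := by
    rintro _ ⟨X, hX, rfl⟩
    exact ⟨_, ⟨dd z X, ⟨X, hW hX, rfl⟩, rfl⟩, rfl⟩
  have hzV : ∀ Y ∈ V, cj z z Y = Y := by
    rintro _ ⟨X, _, rfl⟩
    ext u
    simp only [dd_apply, cj_apply, LinearMap.add_apply, Module.End.mul_apply, map_add, h.zz]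
    exact add_comm _ _
  have hq := h.conj
  have := four_mul_le (1 + cj i (i * z)) (1 + cj j (j * z)) V ?_ ?_ ?_ ?_ ?_
  · have := Submodule.finrank_mono hle
    omega
  · intro Y hY
    exact V.add_mem hY (hcj i h.ii hi Y hY)
  · intro Y hY
    exact V.add_mem hY (hcj j h.jj hj Y hY)
  · intro x hx
    simp only [LinearMap.add_apply, Module.End.one_apply, map_add, hq.ii, hzV x hx]
    rw [show x + cj i (i * z) x + (cj i (i * z) x + x) =
      (x + x) + (cj i (i * z) x + cj i (i * z) x) by abel, two_self (K := K) x,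
      two_self (K := K) (cj i (i * z) x), add_zero]
  · intro x hx
    simp only [LinearMap.add_apply, Module.End.one_apply, map_add, hq.jj, hzV x hx]
    rw [show x + cj j (j * z) x + (cj j (j * z) x + x) =
      (x + x) + (cj j (j * z) x + cj j (j * z) x) by abel, two_self (K := K) x,
      two_self (K := K) (cj j (j * z) x), add_zero]
  · intro x hx
    simp only [LinearMap.add_apply, Module.End.one_apply, map_add]
    rw [hq.ij x, hzV _ (hcj j h.jj hj _ (hcj i h.ii hi x hx))]
    abel

end wedge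

end Cfsg.Agent.H929.L34

private theorem dce_c55c5fa6010b : _root_.True := by
  try have : _root_.True := by simp only [_root_.Cfsg.Agent.H929.L34.tr.eq_1]
  try have : _root_.True := by simp only [_root_.Cfsg.Agent.H929.L34.nm.eq_1]
  exact _root_.True.intro
end

-- part: H198/L34/CFour
section
prune_inst 0x420000000620208200020042200000068000000000000002840040001408020894020c00080000010021c000800002001000010020000000a000000000300000000100011000300080008000100000000000000000000000000000000010000000000000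
set_option linter.all false
open scoped Cfsg.Agent.FastGrp

-- part: H400/L34/QFree
section
/-!
# S5917, type (D): a module for the quaternion group on which `z` acts freely is free

`i j : M → M` linear, `i² = j² = z`, `z² = 1`, `i j = z j i`, characteristic 2, `ker (1+z) ≤ im (1+z)`,
`M ≠ 0`: then the norm `∑ g` is not zero.
-/

namespace Cfsg.Agent.H400.L34.QFree

variable {K M : Type*} [Field K] [AddCommGroup M] [Module K M]

theorem add_self [CharP K 2] (v : M) : v + v = 0 := by
  have h2 : (2 : K) = 0 := by simpa using CharP.cast_eq_zero K 2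
  rw [← two_smul K, h2, zero_smul]

theorem eq_of_add [CharP K 2] {v w : M} (h : v + w = 0) : v = w := by
  have := add_self (K := K) w
  calc v = v + (w + w) := by rw [this, add_zero]
    _ = w := by rw [← add_assoc, h, zero_add]

/-- relations for `X = 1 + i`, `Y = 1 + j`, written additively -/
structure XY (X Y : M →ₗ[K] M) : Prop where
  sq : ∀ v, Y (Y v) = X (X v)
  four : ∀ v, X (X (X (X v))) = 0
  comm : ∀ v, X (Y v) + Y (X v) =
    X (X v) + X (X (X v)) + X (X (Y v)) + X (X (Y (X v)))
  free : ∀ v, X (X v) = 0 → ∃ w, v = X (X w)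

variable {X Y : M →ₗ[K] M}

theorem XY.yz (h : XY X Y) (v : M) : Y (X (X v)) = X (X (Y v)) := by
  rw [← h.sq v, h.sq (Y v)]

/-- `ker X ≤ im X²` -/
theorem XY.kerX (h : XY X Y) {v : M} (hv : X v = 0) : ∃ w, v = X (X w) :=
  h.free v (by rw [hv, map_zero])

/-- `ker X³ ≤ im X` -/
theorem XY.ker3 (h : XY X Y) {v : M} (hv : X (X (X v)) = 0) : ∃ w, v = X w := by
  obtain ⟨w, hw⟩ := h.free (X v) hv
  obtain ⟨u, hu⟩ := h.kerX (v := v - X w) (by rw [map_sub, hw, sub_self])
  exact ⟨w + X u, by rw [map_add, ← hu]; abel⟩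

/-- If `Z X Y = 0` then `im Y ≤ im X`. -/
theorem XY.imY (h : XY X Y) (ht : ∀ v, X (X (X (Y v))) = 0) (v : M) : ∃ w, Y v = X w :=
  h.ker3 (ht v)

/-- `Z Y X = Z X Y` -/
theorem XY.tr_comm (h : XY X Y) [CharP K 2] (v : M) : X (X (Y (X v))) = X (X (X (Y v))) := by
  have h1 := congrArg (fun u => X (X u)) (h.comm v)
  simp only [map_add, h.four, add_zero] at h1
  exact (eq_of_add (K := K) h1).symm

/-- the quadratic relation on `M / im X` -/
theorem XY.quad (h : XY X Y) [CharP K 2] (ht : ∀ v, X (X (X (Y v))) = 0) {v v' v'' : M}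
    (h1 : Y v = X v') (h2 : Y v' = X v'') : ∃ w, v + v' + v'' = X w := by
  -- Z v = Y X v' = X Y v' + Z (1 + X + Y + Y X) v' = Z v'' + Z v' + Z X v' + Z Y v'
  have e1 : X (X v) = Y (X v') := by rw [← h.sq, h1]
  have e2 := h.comm v'
  rw [h.tr_comm, ht, add_zero, h2, ← e1] at e2
  -- X (X v'') + X (X v) = X (X v') + X (X (X v')) + X (X (X v''))
  have e3 : X (X (v + v' + v'' + (X v' + X v''))) = 0 := by
    have e4 : X (X v'') + X (X v) + (X (X v') + X (X (X v')) + X (X (X v''))) = 0 := by
      rw [e2]; exact add_self (K := K) _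
    rw [map_add, map_add, map_add, map_add, map_add, map_add, map_add, map_add, ← e4]
    abel
  obtain ⟨w, hw⟩ := h.free _ e3
  refine ⟨X w + v' + v'', ?_⟩
  rw [map_add, map_add, ← hw]
  have e5 := add_self (K := K) (X v')
  have e6 := add_self (K := K) (X v'')
  calc v + v' + v'' = v + v' + v'' + (X v' + X v') + (X v'' + X v'') := by rw [e5, e6]; simp
    _ = v + v' + v'' + (X v' + X v'') + X v' + X v'' := by abel

/-- the heart: no `v ∉ im X` with `Y v ∈ ω X v + im X²` -/
theorem XY.heart (h : XY X Y) [CharP K 2] (ht : ∀ v, X (X (X (Y v))) = 0) {ω : K}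
    (hω : ω ^ 2 + ω + 1 = 0) {v a : M} (hv : Y v = ω • X v + X (X a)) : ∃ w, v = X w := by
  have t2 : (2 : K) = 0 := by simpa using CharP.cast_eq_zero K 2
  obtain ⟨a', ha'⟩ := h.imY ht a
  obtain ⟨a'', ha''⟩ := h.imY ht a'
  -- v ≡ a' + ω a
  obtain ⟨c, hc⟩ : ∃ c, v + a' + ω • a = X c := by
    -- Z v = Y Y v
    have e1 : X (X v) = Y (ω • X v + X (X a)) := by rw [← h.sq, hv]
    have e2 := h.comm v
    rw [h.tr_comm, ht, add_zero, hv] at e2
    simp only [map_add, map_smul] at e1 e2
    rw [h.yz, ha'] at e1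
    -- e1 : X X v = ω • Y X v + X X X a'
    -- e2 : ω • X X v + X X X a + Y X v = X X v + X X X v + (ω • X X X v + X X X X a)
    rw [h.four, add_zero] at e2
    have e3 : Y (X v) = X (X v) + X (X (X v)) + ω • X (X (X v)) + ω • X (X v) + X (X (X a)) := by
      have := congrArg (fun u => u + (ω • X (X v) + X (X (X a)))) e2
      have d : ω • X (X v) + X (X (X a)) + Y (X v) + (ω • X (X v) + X (X (X a))) = Y (X v) := by
        have := add_self (K := K) (ω • X (X v) + X (X (X a)))
        calc _ = Y (X v) + ((ω • X (X v) + X (X (X a))) + (ω • X (X v) + X (X (X a)))) := by abel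
          _ = _ := by rw [this, add_zero]
      rw [d] at this
      rw [this]; abel
    rw [e3] at e1
    -- now everything in terms of X
    have e4 : X (X (X (v + a' + ω • a))) = 0 := by
      simp only [map_add, map_smul]
      have e5 : X (X v) + (ω • (X (X v) + X (X (X v)) + ω • X (X (X v)) + ω • X (X v) +
        X (X (X a))) + X (X (X a'))) = 0 := by
        rw [← e1]; exact add_self (K := K) _
      have e6 : (1 + ω + ω ^ 2) • X (X v) = 0 := by
        have : 1 + ω + ω ^ 2 = 0 := by linear_combination hω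
        rw [this, zero_smul]
      have e7 : (ω + ω ^ 2) • X (X (X v)) = X (X (X v)) := by
        have : ω + ω ^ 2 = 1 := by linear_combination hω - t2
        rw [this, one_smul]
      calc X (X (X v)) + X (X (X a')) + ω • X (X (X a))
          = (1 + ω + ω ^ 2) • X (X v) + ((ω + ω ^ 2) • X (X (X v)) + X (X (X a')) +
              ω • X (X (X a))) := by rw [e6, e7, zero_add]
        _ = X (X v) + (ω • (X (X v) + X (X (X v)) + ω • X (X (X v)) + ω • X (X v) +
              X (X (X a))) + X (X (X a'))) := by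
            simp only [smul_add, add_smul, smul_smul, one_smul, pow_two]; abel
        _ = 0 := e5
    obtain ⟨w, hw⟩ := h.ker3 e4
    exact ⟨w, hw⟩
  obtain ⟨b, hb⟩ := h.quad ht ha' ha''
  -- Y v in two ways
  have f1 : v = X c + a' + ω • a := by
    have e5 := add_self (K := K) (a' + ω • a)
    calc v = v + ((a' + ω • a) + (a' + ω • a)) := by rw [e5, add_zero]
      _ = (v + a' + ω • a) + a' + ω • a := by abel
      _ = _ := by rw [hc]
  have f2 : Y v = Y (X c) + X a'' + ω • X a' := by
    rw [f1]; simp only [map_add, map_smul, ha', ha'']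
  obtain ⟨c', hc'⟩ := h.imY ht c
  have f3 : Y (X c) = X (X c') + X (X c) + X (X (X c)) + X (X (X c')) := by
    have e2 := h.comm c
    rw [h.tr_comm, ht, add_zero, hc'] at e2
    have := congrArg (fun u => X (X c') + u) e2
    rw [← add_assoc, add_self (K := K) (X (X c')), zero_add] at this
    rw [this]; abel
  have f4 : X v = X (X c) + X a' + ω • X a := by
    rw [f1]; simp only [map_add, map_smul]
  rw [hv, f4, f3] at f2
  -- ω (X X c + X a' + ω X a) + X X a = (..) + X a'' + ω X a'
  obtain ⟨d, hd⟩ : ∃ d, a'' + ω ^ 2 • a = X d := by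
    have g1 : X (ω • X c + ω ^ 2 • a + X a + X c' + X c + X (X c) + X (X c') + a'') = 0 := by
      simp only [map_add, map_smul]
      have g2 : (ω • (X (X c) + X a' + ω • X a) + X (X a)) +
          (X (X c') + X (X c) + X (X (X c)) + X (X (X c')) + X a'' + ω • X a') = 0 := by
        rw [f2]; exact add_self (K := K) _
      have g3 := add_self (K := K) (ω • X a')
      calc _ = (ω • X a' + ω • X a') + (ω • X (X c) + ω ^ 2 • X a + X (X a) + X (X c') + X (X c) +
            X (X (X c)) + X (X (X c')) + X a'') := by rw [g3, zero_add]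
        _ = (ω • (X (X c) + X a' + ω • X a) + X (X a)) +
          (X (X c') + X (X c) + X (X (X c)) + X (X (X c')) + X a'' + ω • X a') := by
            simp only [smul_add, smul_smul, pow_two]; abel
        _ = 0 := g2
    obtain ⟨u, hu⟩ := h.kerX g1
    refine ⟨ω • c + a + c' + c + X c + X c' + X u, ?_⟩
    simp only [map_add, map_smul]
    rw [← hu]
    have k1 := add_self (K := K) (ω • X c + X a + X c' + X c + X (X c) + X (X c'))
    calc a'' + ω ^ 2 • a = (ω • X c + X a + X c' + X c + X (X c) + X (X c')) +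
          (ω • X c + X a + X c' + X c + X (X c) + X (X c')) + (a'' + ω ^ 2 • a) := by
            rw [k1, zero_add]
      _ = _ := by abel
  refine ⟨c + b + d, ?_⟩
  simp only [map_add]
  rw [← hc, ← hb, ← hd]
  have k1 := add_self (K := K) a'
  have k2 := add_self (K := K) a''
  have k3 : ω • a + a + ω ^ 2 • a = 0 := by
    have : ω • a + a + ω ^ 2 • a = (ω ^ 2 + ω + 1) • a := by
      simp only [add_smul, one_smul]; abel
    rw [this, hω, zero_smul]
  calc v = v + (a' + a') + (a'' + a'') + (ω • a + a + ω ^ 2 • a) := by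
        rw [k1, k2, k3]; simp
    _ = _ := by abel

/-- **`Z X Y ≠ 0`** -/
theorem XY.exists_ne (h : XY X Y) [CharP K 2] [IsAlgClosed K] [Nontrivial M] :
    ∃ v, X (X (X (Y v))) ≠ 0 := by
  by_contra hc
  push Not at hc
  have t2 : (2 : K) = 0 := by simpa using CharP.cast_eq_zero K 2
  obtain ⟨ω, hω⟩ : ∃ ω : K, ω ^ 2 + ω + 1 = 0 := by
    obtain ⟨s, hs⟩ := IsAlgClosed.exists_root
      (Polynomial.X ^ 2 + Polynomial.X + Polynomial.C 1 : Polynomial K) (by
        have : (Polynomial.X ^ 2 + Polynomial.X + Polynomial.C 1 : Polynomial K).degree = 2 := by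
          compute_degree!
        rw [this]; norm_num)
    refine ⟨s, ?_⟩
    simpa only [Polynomial.IsRoot.def, Polynomial.eval_add, Polynomial.eval_pow,
      Polynomial.eval_X, Polynomial.eval_C] using hs
  have hω2 : (ω ^ 2) ^ 2 + ω ^ 2 + 1 = 0 := by
    linear_combination (ω ^ 2 - ω + 1) * hω
  -- `im X ≠ M`
  obtain ⟨v0, hv0⟩ : ∃ v0 : M, ∀ w, v0 ≠ X w := by
    by_contra hn
    push Not at hn
    obtain ⟨m, hm⟩ := _root_.exists_ne (0 : M)
    obtain ⟨a, ha⟩ := hn m
    obtain ⟨b, hb⟩ := hn a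
    obtain ⟨c, hc'⟩ := hn b
    obtain ⟨d, hd⟩ := hn c
    apply hm
    rw [ha, hb, hc', hd, h.four]
  obtain ⟨v1, hv1⟩ := h.imY hc v0
  obtain ⟨v2, hv2⟩ := h.imY hc v1
  obtain ⟨w0, hw0⟩ := h.quad hc hv1 hv2
  have hv2' : v2 = v0 + v1 + X w0 := by
    rw [← hw0]
    have k0 := add_self (K := K) v0
    have k1 := add_self (K := K) v1
    calc v2 = (v0 + v0) + (v1 + v1) + v2 := by rw [k0, k1]; simp
      _ = _ := by abel
  have key : ∀ η : K, η ^ 2 + η + 1 = 0 → ∃ w, v1 + η ^ 2 • v0 = X w := by
    intro η hη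
    refine h.heart hc hη (a := w0) ?_
    simp only [map_add, map_smul, hv1, hv2, hv2', smul_add, smul_smul]
    have e1 : η * η ^ 2 = 1 := by linear_combination (η - 1) * hη
    have e2 : (1 + η ^ 2) = η := by linear_combination hη - η * t2
    rw [e1, one_smul]
    have e3 : X v1 + η ^ 2 • X v1 = η • X v1 := by
      rw [← e2, add_smul, one_smul, e2]
    calc X v0 + X v1 + X (X w0) + η ^ 2 • X v1
        = (X v1 + η ^ 2 • X v1) + X v0 + X (X w0) := by abel
      _ = _ := by rw [e3]
  obtain ⟨a, ha⟩ := key ω hω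
  obtain ⟨b, hb⟩ := key (ω ^ 2) hω2
  refine hv0 (a + b) ?_
  rw [map_add, ← ha, ← hb]
  have e3 : (ω ^ 2) ^ 2 + ω ^ 2 = 1 := by linear_combination hω2 - t2
  have k1 := add_self (K := K) v1
  calc v0 = (v1 + v1) + ((ω ^ 2) ^ 2 + ω ^ 2) • v0 := by rw [k1, e3, one_smul, zero_add]
    _ = _ := by rw [add_smul]; abel

/-- a quaternion group of linear maps -/
structure QL (i j : M →ₗ[K] M) : Prop where
  sq : ∀ v, j (j v) = i (i v)
  four : ∀ v, i (i (i (i v))) = v
  comm : ∀ v, i (j v) = i (i (j (i v)))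

variable {i j : M →ₗ[K] M}

theorem QL.jz (h : QL i j) (v : M) : j (i (i v)) = i (i (j v)) := by
  rw [← h.sq v, h.sq (j v)]

theorem QL.ji (h : QL i j) (v : M) : j (i v) = i (i (i (j v))) := by
  rw [h.comm v, h.four]

theorem QL.toXY (h : QL i j) [CharP K 2] (hf : ∀ v, i (i v) = v → ∃ w, v = w + i (i w)) :
    XY (LinearMap.id + i) (LinearMap.id + j) := by
  have hX : ∀ v, (LinearMap.id + i : M →ₗ[K] M) v = v + i v := fun v => rfl
  have hY : ∀ v, (LinearMap.id + j : M →ₗ[K] M) v = v + j v := fun v => rfl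
  have hXX : ∀ v : M, v + i v + i (v + i v) = v + i (i v) := fun v => by
    rw [map_add]
    have := add_self (K := K) (i v)
    calc _ = v + (i v + i v) + i (i v) := by abel
      _ = _ := by rw [this, add_zero]
  refine ⟨fun v => ?_, fun v => ?_, fun v => ?_, fun v hv => ?_⟩
  · simp only [hX, hY]
    rw [hXX, map_add, h.sq]
    have := add_self (K := K) (j v)
    calc _ = v + (j v + j v) + i (i v) := by abel
      _ = _ := by rw [this, add_zero]
  · simp only [hX]
    rw [hXX, hXX]
    simp only [map_add, h.four]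
    have := add_self (K := K) (v + i (i v))
    calc _ = (v + i (i v)) + (v + i (i v)) := by abel
      _ = _ := this
  · simp only [hX, hY, map_add, h.four, h.ji]
    have a1 := add_self (K := K) v
    have a2 := add_self (K := K) (i v)
    have a3 := add_self (K := K) (j v)
    have a4 := add_self (K := K) (i (i v))
    have a5 := add_self (K := K) (i (i (i v)))
    have a6 := add_self (K := K) (i (i (j v)))
    have a7 := add_self (K := K) (i (j v))
    linear_combination (norm := module) -a1 - a3 - (4 : K) • a2 - (2 : K) • a7 - (4 : K) • a4 -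
      a5 - a6
  · simp only [hX] at hv
    rw [hXX] at hv
    obtain ⟨w, hw⟩ := hf v (eq_of_add (K := K) (by rw [add_comm]; exact hv))
    exact ⟨w, by simp only [hX]; rw [hXX, hw]⟩

/-- fixed vector in a stable subspace -/
theorem QL.exists_fix (h : QL i j) [CharP K 2] {W : Submodule K M} (hi : ∀ v ∈ W, i v ∈ W)
    (hj : ∀ v ∈ W, j v ∈ W) (hW : W ≠ ⊥) : ∃ v ∈ W, v ≠ 0 ∧ i v = v ∧ j v = v := by
  have sym : ∀ {a b : M}, a + b = 0 → b = a := fun {a b} hab =>
    (eq_of_add (K := K) hab).symm
  obtain ⟨v0, hv0, h0⟩ := W.exists_mem_ne_zero_of_ne_bot hW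
  obtain ⟨v1, hv1, h1, z1⟩ : ∃ v1 ∈ W, v1 ≠ 0 ∧ i (i v1) = v1 := by
    by_cases hc : v0 + i (i v0) = 0
    · exact ⟨v0, hv0, h0, sym hc⟩
    · refine ⟨_, W.add_mem hv0 (hi _ (hi _ hv0)), hc, ?_⟩
      rw [map_add, map_add, h.four, add_comm]
  obtain ⟨v2, hv2, h2, z2, i2⟩ : ∃ v2 ∈ W, v2 ≠ 0 ∧ i (i v2) = v2 ∧ i v2 = v2 := by
    by_cases hc : v1 + i v1 = 0
    · exact ⟨v1, hv1, h1, z1, sym hc⟩
    · refine ⟨_, W.add_mem hv1 (hi _ hv1), hc, ?_, ?_⟩
      · rw [map_add, map_add, z1]
      · rw [map_add, z1, add_comm]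
  by_cases hc : v2 + j v2 = 0
  · exact ⟨v2, hv2, h2, i2, sym hc⟩
  · refine ⟨_, W.add_mem hv2 (hj _ hv2), hc, ?_, ?_⟩
    · rw [map_add, h.comm, i2, ← h.sq (j v2), h.sq v2, z2]
    · rw [map_add, h.sq, z2, add_comm]

/-- the norm -/
def nrm (i j : M →ₗ[K] M) (v : M) : M :=
  v + i v + i (i v) + i (i (i v)) + (j v + i (j v) + i (i (j v)) + i (i (i (j v))))

/-- **Freeness criterion**: `z` free implies that the norm is not zero. -/
theorem QL.exists_nrm (h : QL i j) [CharP K 2] [IsAlgClosed K] [Nontrivial M]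
    (hf : ∀ v, i (i v) = v → ∃ w, v = w + i (i w)) : ∃ v, nrm i j v ≠ 0 := by
  obtain ⟨v, hv⟩ := (h.toXY hf).exists_ne
  refine ⟨v, ?_⟩
  intro h0
  apply hv
  have hX : ∀ v, (LinearMap.id + i : M →ₗ[K] M) v = v + i v := fun v => rfl
  have hY : ∀ v, (LinearMap.id + j : M →ₗ[K] M) v = v + j v := fun v => rfl
  simp only [hX, hY, map_add]
  unfold nrm at h0
  have a1 := add_self (K := K) (i v)
  have a2 := add_self (K := K) (i (j v))
  have a3 := add_self (K := K) (i (i v))
  have a4 := add_self (K := K) (i (i (j v)))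
  linear_combination (norm := module) h0 + a1 + a2 + a3 + a4

end Cfsg.Agent.H400.L34.QFree
end

-- part: H400/L34/QNorm
section
/-!
# S5917, type (D): normal form of a quaternion group of isometries in characteristic 2

`i j : V → V` linear isometries with `i² = j² = z`, `z² = 1`, `i j = z j i`.
If `b v (z v) ≠ 0` for one `v` then there is `f` with `q f = 0`, `b f (z f) = 1`, and
`b f (g f) = 0` for `g = i, j, i j`.
-/

namespace Cfsg.Agent.H400.L34.QNorm

variable {K V : Type*} [Field K] [AddCommGroup V] [Module K V]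

/-- isometric quaternion data -/
structure QD (q : V → K) (b : V →ₗ[K] V →ₗ[K] K) (i j : V →ₗ[K] V) : Prop where
  add : ∀ v w, q (v + w) = q v + q w + b v w
  smul : ∀ (c : K) v, q (c • v) = c ^ 2 * q v
  qi : ∀ v, q (i v) = q v
  qj : ∀ v, q (j v) = q v
  sq : ∀ v, j (j v) = i (i v)
  four : ∀ v, i (i (i (i v))) = v
  comm : ∀ v, i (j v) = i (i (j (i v)))

variable {q : V → K} {b : V →ₗ[K] V →ₗ[K] K} {i j : V →ₗ[K] V}

theorem two_zero [CharP K 2] : (2 : K) = 0 := by
  have := CharP.cast_eq_zero K 2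
  simpa using this

theorem QD.b_self (h : QD q b i j) [CharP K 2] (v : V) : b v v = 0 := by
  have h1 := h.add v v
  have h2 : v + v = (2 : K) • v := by rw [two_smul]
  rw [h2, h.smul, two_zero] at h1
  have h3 : q v + q v = 0 := by rw [← two_mul, two_zero, zero_mul]
  rw [h3] at h1
  simpa using h1.symm

theorem QD.symm (h : QD q b i j) (v w : V) : b v w = b w v := by
  have h1 := h.add v w
  have h2 := h.add w v
  rw [add_comm w v, h1] at h2
  have h3 : q v + q w + b v w = q v + q w + b w v := by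
    rw [h2]; ring
  exact add_left_cancel h3

theorem QD.bi (h : QD q b i j) (v w : V) : b (i v) (i w) = b v w := by
  have h1 := h.add v w
  have h2 := h.add (i v) (i w)
  rw [← map_add, h.qi, h.qi, h.qi, h1] at h2
  exact (add_left_cancel h2).symm

theorem QD.bj (h : QD q b i j) (v w : V) : b (j v) (j w) = b v w := by
  have h1 := h.add v w
  have h2 := h.add (j v) (j w)
  rw [← map_add, h.qj, h.qj, h.qj, h1] at h2
  exact (add_left_cancel h2).symm

/-- `z` commutes with `j` -/
theorem QD.jz (h : QD q b i j) (v : V) : j (i (i v)) = i (i (j v)) := by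
  rw [← h.sq v, h.sq (j v)]

theorem QD.ji (h : QD q b i j) (v : V) : j (i v) = i (i (i (j v))) := by
  rw [h.comm v, h.four]

/-- exchange of the two generators -/
theorem QD.swap (h : QD q b i j) : QD q b j i where
  add := h.add
  smul := h.smul
  qi := h.qj
  qj := h.qi
  sq := fun v => (h.sq v).symm
  four := fun v => by rw [h.sq, h.sq, h.four]
  comm := fun v => by
    rw [h.sq, h.ji v]

theorem QD.k (h : QD q b i j) : QD q b (i ∘ₗ j) i where
  add := h.add
  smul := h.smul
  qi := fun v => by simp only [LinearMap.comp_apply, h.qi, h.qj]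
  qj := h.qi
  sq := fun v => by
    simp only [LinearMap.comp_apply]
    -- i (i v) = i (j (i (j v)))
    rw [h.ji (j v), h.sq v, h.four]
  four := fun v => by
    simp only [LinearMap.comp_apply]
    rw [h.ji (j v), h.sq v, h.four, h.ji (j (i (i v))), h.sq, h.four, h.four]
  comm := fun v => by
    simp only [LinearMap.comp_apply]
    -- i (j (i v)) = i (j (i (j (i (i (j v))))))
    rw [h.ji v, h.four, h.ji (j (i (i (j v)))), h.sq, h.four]
    rw [h.four]

/-- `b v (z v) = b (z v) v`, `b v (g⁻¹ v) = b v (g v)` -/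
theorem QD.inv_i (h : QD q b i j) (v : V) : b v (i (i (i v))) = b v (i v) := by
  rw [← h.bi v (i (i (i v))), h.four, h.symm]

theorem QD.bz (h : QD q b i j) (v w : V) : b (i (i v)) (i (i w)) = b v w := by
  rw [h.bi, h.bi]

theorem QD.zk (h : QD q b i j) (v : V) : b v (i (i (i (j v)))) = b v (i (j v)) := by
  have h1 := h.k.inv_i v
  simp only [LinearMap.comp_apply] at h1
  rw [h.ji (j v), h.sq v, h.four] at h1
  -- b v (i (j (i (i v)))) = b v (i (j v))
  rw [h.jz v] at h1
  exact h1

/-- one step: kill `c_i` -/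
theorem QD.step (h : QD q b i j) [CharP K 2] {v : V} (hz : b v (i (i v)) = 1) {s : K}
    (hs : s ^ 2 + s = b v (i v)) :
    b ((1 + s) • v + s • i v) (i (i ((1 + s) • v + s • i v))) = 1 ∧
    b ((1 + s) • v + s • i v) (i ((1 + s) • v + s • i v)) = 0 ∧
    b ((1 + s) • v + s • i v) (j ((1 + s) • v + s • i v)) = b v (j v) ∧
    b ((1 + s) • v + s • i v) (i (j ((1 + s) • v + s • i v))) = b v (i (j v)) := by
  have t2 : (2 : K) = 0 := two_zero
  have e1 : b (i v) (i v) = 0 := h.b_self _
  have e2 : b (i v) (i (i v)) = b v (i v) := h.bi _ _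
  have e3 : b (i v) (i (i (i v))) = 1 := by rw [h.bi, hz]
  have e4 : b v (i (i (i v))) = b v (i v) := h.inv_i v
  have e5 : b v (j (i v)) = b v (i (j v)) := by rw [h.ji, h.zk]
  have e6 : b (i v) (j v) = b v (i (j v)) := by
    rw [← h.bi (i v) (j v), ← h.bi (i (i v)) (i (j v)), ← h.bi (i (i (i v))) (i (i (j v))),
      h.four, h.zk]
  have e7 : b (i v) (j (i v)) = b v (j v) := by
    rw [h.ji, h.bi, ← h.jz v, ← h.sq v, ]
    have := h.swap.inv_i v
    exact this
  have e8 : b v (i (j (i v))) = b v (j v) := by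
    rw [h.ji, h.four]
  have e9 : b (i v) (i (j v)) = b v (j v) := h.bi _ _
  have e10 : b (i v) (i (j (i v))) = b v (i (j v)) := by
    rw [h.bi, e5]
  have e11 : b (i v) v = b v (i v) := h.symm _ _
  refine ⟨?_, ?_, ?_, ?_⟩
  · simp only [map_add, map_smul, LinearMap.add_apply, LinearMap.smul_apply, smul_eq_mul, hz, e2,
      e3, e4]
    linear_combination (s + s ^ 2 + (1 + s) * s * b v (i v)) * t2
  · simp only [map_add, map_smul, LinearMap.add_apply, LinearMap.smul_apply, smul_eq_mul, hz, e1,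
      e2, e11]
    linear_combination (s * b v (i v) + s ^ 2 * b v (i v) + b v (i v)) * t2 + hs
  · simp only [map_add, map_smul, LinearMap.add_apply, LinearMap.smul_apply, smul_eq_mul, e5, e6,
      e7]
    linear_combination (s + s ^ 2) * (b v (j v) + b v (i (j v))) * t2
  · simp only [map_add, map_smul, LinearMap.add_apply, LinearMap.smul_apply, smul_eq_mul, e8, e9,
      e10]
    linear_combination (s + s ^ 2) * (b v (i (j v)) + b v (j v)) * t2

theorem exists_as [IsAlgClosed K] (c : K) : ∃ s : K, s ^ 2 + s = c := by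
  obtain ⟨s, hs⟩ := IsAlgClosed.exists_root
    (Polynomial.X ^ 2 + Polynomial.X - Polynomial.C c : Polynomial K) (by
      have : (Polynomial.X ^ 2 + Polynomial.X - Polynomial.C c : Polynomial K).degree = 2 := by
        compute_degree!
      rw [this]; norm_num)
  refine ⟨s, ?_⟩
  simp only [Polynomial.IsRoot.def, Polynomial.eval_sub, Polynomial.eval_add, Polynomial.eval_pow,
    Polynomial.eval_X, Polynomial.eval_C] at hs
  linear_combination hs

/-- **Normal form of a quaternion group of isometries.** -/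
theorem QD.exists_f (h : QD q b i j) [CharP K 2] [IsAlgClosed K] {v : V}
    (hv : b v (i (i v)) ≠ 0) :
    ∃ f : V, q f = 0 ∧ b f (i (i f)) = 1 ∧ b f (i f) = 0 ∧ b f (j f) = 0 ∧ b f (i (j f)) = 0 := by
  have t2 : (2 : K) = 0 := two_zero
  -- scale
  obtain ⟨d, hd⟩ := IsAlgClosed.exists_pow_nat_eq (b v (i (i v)))⁻¹ (n := 2) (by norm_num)
  obtain ⟨v, hv1⟩ : ∃ v : V, b v (i (i v)) = 1 := ⟨d • v, by
    simp only [map_smul, LinearMap.smul_apply, smul_eq_mul]
    rw [← mul_assoc, ← pow_two, hd, inv_mul_cancel₀ hv]⟩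
  -- kill c_i
  obtain ⟨s, hs⟩ := exists_as (b v (i v))
  obtain ⟨a1, a2, a3, a4⟩ := h.step hv1 hs
  set v1 := (1 + s) • v + s • i v with hv1d
  -- kill c_j
  have a1' : b v1 (j (j v1)) = 1 := by rw [h.sq]; exact a1
  obtain ⟨s2, hs2⟩ := exists_as (b v1 (j v1))
  obtain ⟨c1, c2, c3, c4⟩ := h.swap.step a1' hs2
  set v2 := (1 + s2) • v1 + s2 • j v1 with hv2d
  rw [a2] at c3
  rw [h.sq] at c1
  -- kill c_k
  have c1' : b v2 ((i ∘ₗ j) ((i ∘ₗ j) v2)) = 1 := by
    simp only [LinearMap.comp_apply]
    rw [h.ji (j v2), h.sq v2, h.four]; exact c1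
  obtain ⟨s3, hs3⟩ := exists_as (b v2 ((i ∘ₗ j) v2))
  obtain ⟨d1, d2, d3, d4⟩ := h.k.step c1' hs3
  set v3 := (1 + s3) • v2 + s3 • (i ∘ₗ j) v2 with hv3d
  simp only [LinearMap.comp_apply] at d1 d2 d3 d4
  rw [h.ji (j v3), h.sq v3, h.four] at d1
  rw [c3] at d3
  rw [h.ji v3, h.four, h.ji v2, h.four, c2] at d4
  -- now v3 has c_z = 1, c_i = c_j = c_k = 0
  obtain ⟨s4, hs4⟩ := exists_as (q v3)
  have z1 : b (i (i v3)) v3 = 1 := by rw [h.symm]; exact d1
  have z2 : b (i (i v3)) (i v3) = 0 := by rw [h.bi, ← h.symm]; exact d3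
  have z3 : b (i (i v3)) (j v3) = 0 := by
    rw [← h.sq v3, h.bj, ← h.symm]; exact d4
  have z4 : b (i (i v3)) (i (j v3)) = 0 := by
    rw [← h.bz (i (i v3)), h.four, h.zk]; exact d2
  have z5 : b v3 (i (i (i v3))) = 0 := by rw [h.inv_i]; exact d3
  have z6 : b (i (i v3)) (i (i (i v3))) = 0 := by rw [h.bz]; exact d3
  have z7 : b v3 (j (i (i v3))) = 0 := by
    rw [h.jz, ← h.bz v3, h.four]; exact z3
  have z8 : b (i (i v3)) (j (i (i v3))) = 0 := by rw [h.jz, h.bz]; exact d4
  have z9 : b v3 (i (j (i (i v3)))) = 0 := by rw [h.jz, h.zk]; exact d2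
  have z10 : b (i (i v3)) (i (j (i (i v3)))) = 0 := by
    rw [h.jz, h.bz]; exact d2
  refine ⟨(1 + s4) • v3 + s4 • i (i v3), ?_, ?_, ?_, ?_, ?_⟩
  · rw [h.add, h.smul, h.smul, h.qi, h.qi]
    simp only [map_smul, LinearMap.smul_apply, smul_eq_mul, d1]
    linear_combination (s4 * q v3 + s4 ^ 2 * q v3 + q v3) * t2 + hs4
  · simp only [map_add, map_smul, LinearMap.add_apply, LinearMap.smul_apply, smul_eq_mul, h.four,
      d1, z1, h.b_self, h.bz]
    linear_combination (s4 + s4 ^ 2) * t2
  · simp only [map_add, map_smul, LinearMap.add_apply, LinearMap.smul_apply, smul_eq_mul, d3,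
      z2, z5, z6]
    ring
  · simp only [map_add, map_smul, LinearMap.add_apply, LinearMap.smul_apply, smul_eq_mul, d4,
      z3, z7, z8]
    ring
  · simp only [map_add, map_smul, LinearMap.add_apply, LinearMap.smul_apply, smul_eq_mul, d2,
      z4, z9, z10]
    ring

end Cfsg.Agent.H400.L34.QNorm
end

-- part: H400/L34/QBasis
section
/-!
# S5917, type (D): the regular module of the quaternion group and its invariant forms
-/

namespace Cfsg.Agent.H400.L34.QFree

open Cfsg.Agent.H400.L34.QNorm (QD)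

variable {K M : Type*} [Field K] [AddCommGroup M] [Module K M] {i j : M →ₗ[K] M}

def Li : (Fin 8 → K) →ₗ[K] (Fin 8 → K) := LinearMap.funLeft K K ![3, 0, 1, 2, 7, 4, 5, 6]
def Lj : (Fin 8 → K) →ₗ[K] (Fin 8 → K) := LinearMap.funLeft K K ![6, 5, 4, 7, 0, 3, 2, 1]

theorem Li_apply (x : Fin 8 → K) (k : Fin 8) :
    (Li x : Fin 8 → K) k = x ((![3, 0, 1, 2, 7, 4, 5, 6] : Fin 8 → Fin 8) k) := rfl

theorem Lj_apply (x : Fin 8 → K) (k : Fin 8) :
    (Lj x : Fin 8 → K) k = x ((![6, 5, 4, 7, 0, 3, 2, 1] : Fin 8 → Fin 8) k) := rfl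

theorem ql_reg : QL (K := K) (M := Fin 8 → K) Li Lj where
  sq := fun v => by
    funext k
    simp only [Li_apply, Lj_apply]
    congr 1
    revert k; decide
  four := fun v => by
    funext k
    simp only [Li_apply]
    congr 1
    revert k; decide
  comm := fun v => by
    funext k
    simp only [Li_apply, Lj_apply]
    congr 1
    revert k; decide

/-- the eight vectors `i^a j^b e` -/
def vec (i j : M →ₗ[K] M) (e : M) : Fin 8 → M :=
  ![e, i e, i (i e), i (i (i e)), j e, i (j e), i (i (j e)), i (i (i (j e)))]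

theorem QL.indep (h : QL i j) [CharP K 2] {e : M} (he : nrm i j e ≠ 0) :
    LinearIndependent K (vec i j e) := by
  rw [linearIndependent_iff_injective_fintypeLinearCombination]
  rw [← LinearMap.ker_eq_bot]
  by_contra hk
  have hi : ∀ x ∈ LinearMap.ker (Fintype.linearCombination K (vec i j e)),
      Li x ∈ LinearMap.ker (Fintype.linearCombination K (vec i j e)) := by
    intro x hx
    rw [LinearMap.mem_ker, Fintype.linearCombination_apply, Fin.sum_univ_eight] at hx ⊢
    have := congrArg i hx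
    simp only [vec, Li_apply, Matrix.cons_val, map_add, map_smul, map_zero, h.four] at this ⊢
    rw [← this]
    module
  have hj : ∀ x ∈ LinearMap.ker (Fintype.linearCombination K (vec i j e)),
      Lj x ∈ LinearMap.ker (Fintype.linearCombination K (vec i j e)) := by
    intro x hx
    rw [LinearMap.mem_ker, Fintype.linearCombination_apply, Fin.sum_univ_eight] at hx ⊢
    have := congrArg j hx
    simp only [vec, Lj_apply, Matrix.cons_val, map_add, map_smul, map_zero, h.ji, h.four,
      h.sq] at this ⊢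
    rw [← this]
    module
  obtain ⟨x, hx, hx0, h1, h2⟩ := ql_reg.exists_fix hi hj hk
  have e1 := fun k => congrFun h1 k
  have e2 := fun k => congrFun h2 k
  simp only [Li_apply, Lj_apply] at e1 e2
  have k1 := e1 1
  have k2 := e1 2
  have k3 := e1 3
  have k5 := e1 5
  have k6 := e1 6
  have k7 := e1 7
  have k4 := e2 4
  simp only [Matrix.cons_val] at k1 k2 k3 k4 k5 k6 k7
  rw [LinearMap.mem_ker, Fintype.linearCombination_apply, Fin.sum_univ_eight] at hx
  simp only [vec, Matrix.cons_val] at hx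
  have hs : x 0 • nrm i j e = 0 := by
    rw [← hx, ← k7, ← k6, ← k5, ← k4, ← k3, ← k2, ← k1]
    unfold nrm
    module
  have h0 : x 0 = 0 := by
    rcases smul_eq_zero.1 hs with h | h
    · exact h
    · exact absurd h he
  apply hx0
  funext k
  fin_cases k
  · exact h0
  · exact k1.symm.trans h0
  · exact k2.symm.trans (k1.symm.trans h0)
  · exact k3.symm.trans (k2.symm.trans (k1.symm.trans h0))
  · exact k4.symm.trans h0
  · exact k5.symm.trans (k4.symm.trans h0)
  · exact k6.symm.trans (k5.symm.trans (k4.symm.trans h0))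
  · exact k7.symm.trans (k6.symm.trans (k5.symm.trans (k4.symm.trans h0)))

end Cfsg.Agent.H400.L34.QFree
end

-- part: H198/L34/HTwenty
section
/-!
# S5917, type D: the fixed space of `z` on `L₀` has dimension at least 20 (helper198)

Abstract linear algebra over a field of characteristic two. `ψ` an isometry of an 8-dimensional quadratic space with
`ψ² = 1`, `rank (ψ + 1) = 4`; `z` acts on `L` with `ρ (z x) = ψ ρ(x) ψ + c(x)`.
-/

set_option autoImplicit false
set_option linter.unusedSectionVars false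

namespace Cfsg.Agent.H198.L34

open Module

section one

variable {K : Type*} [Field K] [CharP K 2] {U : Type*} [AddCommGroup U] [Module K U]

theorem kadd (a : K) : a + a = 0 := CharTwo.add_self_eq_zero a

theorem keq {a b : K} (h : a + b = 0) : a = b := CharTwo.add_eq_zero.1 h

/-- a quadratic space with an involution -/
structure QS (B : LinearMap.BilinForm K U) (Q : U → K) (ψ : U →ₗ[K] U) : Prop where
  nd : ∀ v, (∀ w, B v w = 0) → v = 0
  pol : ∀ x y, Q (x + y) = Q x + Q y + B x y
  inv : ∀ u, ψ (ψ u) = u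
  iso : ∀ u, Q (ψ u) = Q u

variable {B : LinearMap.BilinForm K U} {Q : U → K} {ψ : U →ₗ[K] U}

theorem QS.self (h : QS B Q ψ) (u : U) : B u u = 0 := by
  have h0 : Q 0 = 0 := by
    have h1 := h.pol 0 0
    rw [add_zero, map_zero, add_zero, kadd] at h1
    exact h1
  have h1 := h.pol u u
  have h2 : u + u = 0 := by
    have h3 : (2 : K) • u = 0 := by rw [show (2 : K) = 0 from CharP.cast_eq_zero K 2, zero_smul]
    rwa [two_smul] at h3
  rw [h2, h0, kadd, zero_add] at h1
  exact h1.symm

theorem QS.symm (h : QS B Q ψ) (u w : U) : B u w = B w u := by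
  have h1 := h.self (u + w)
  rw [map_add, map_add, LinearMap.add_apply, LinearMap.add_apply, h.self, h.self, zero_add, add_zero] at h1
  exact keq (by rw [add_comm]; exact h1)

theorem QS.isom (h : QS B Q ψ) (u w : U) : B (ψ u) (ψ w) = B u w := by
  have h1 := h.pol (ψ u) (ψ w)
  rw [← map_add, h.iso, h.iso, h.iso, h.pol] at h1
  exact (add_left_cancel h1).symm

theorem QS.adj (h : QS B Q ψ) (u w : U) : B (ψ u) w = B u (ψ w) := by
  rw [← h.isom u (ψ w), h.inv]

/-- a basis adapted to `ψ` -/
theorem QS.exists_e [FiniteDimensional K U] (h : QS B Q ψ) (hU : finrank K U = 8)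
    (hr : finrank K (LinearMap.range (ψ + 1)) = 4) :
    ∃ e : Fin 4 → U, ∀ u : U, ∃ a b : Fin 4 → K, u = ∑ k, a k • e k + ∑ k, b k • ψ (e k) := by
  let b := finBasisOfFinrankEq K (LinearMap.range (ψ + 1)) hr
  choose e he using fun k => (b k).2
  have hee : ∀ u, (ψ + 1) ((ψ + 1) u) = 0 := by
    intro u
    have h3 : ∀ x : U, x + x = 0 := fun x => by
      have h4 : (2 : K) • x = 0 := by rw [show (2 : K) = 0 from CharP.cast_eq_zero K 2, zero_smul]
      rwa [two_smul] at h4
    simp only [LinearMap.add_apply, Module.End.one_apply, map_add, h.inv]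
    rw [show u + ψ u + (ψ u + u) = (u + u) + (ψ u + ψ u) by abel, h3, h3, add_zero]
  have hle : LinearMap.range (ψ + 1) ≤ LinearMap.ker (ψ + 1) := by
    rintro _ ⟨x, rfl⟩
    exact hee x
  have hk : LinearMap.range (ψ + 1) = LinearMap.ker (ψ + 1) := by
    apply Submodule.eq_of_le_of_finrank_eq hle
    have h4 := LinearMap.finrank_range_add_finrank_ker (ψ + 1)
    omega
  have hx : ∀ x ∈ LinearMap.range (ψ + 1), ∃ a : Fin 4 → K, x = ∑ k, a k • ((ψ + 1) (e k)) := by
    intro x hx
    refine ⟨b.repr ⟨x, hx⟩, ?_⟩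
    have h5 : ((∑ k, b.repr ⟨x, hx⟩ k • b k : LinearMap.range (ψ + 1)) : U) = x :=
      congrArg Subtype.val (b.sum_repr ⟨x, hx⟩)
    rw [Submodule.coe_sum] at h5
    refine h5.symm.trans (Finset.sum_congr rfl fun k _ => ?_)
    rw [Submodule.coe_smul, he]
  refine ⟨e, fun u => ?_⟩
  obtain ⟨a, ha⟩ := hx _ (LinearMap.mem_range_self (ψ + 1) u)
  have h6 : u - ∑ k, a k • e k ∈ LinearMap.ker (ψ + 1) := by
    rw [LinearMap.mem_ker, map_sub, ha, map_sum]
    simp only [map_smul, sub_self]
  rw [← hk] at h6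
  obtain ⟨c, hc⟩ := hx _ h6
  refine ⟨fun k => a k + c k, c, ?_⟩
  rw [sub_eq_iff_eq_add] at hc
  rw [hc]
  simp only [LinearMap.add_apply, Module.End.one_apply, smul_add, add_smul, Finset.sum_add_distrib]
  abel

/-- **the space of the differences has dimension at most 12** -/
theorem QS.bound [FiniteDimensional K U] (h : QS B Q ψ) (hU : finrank K U = 8)
    (hr : finrank K (LinearMap.range (ψ + 1)) = 4) (W : Submodule K (Module.End K U))
    (h1 : ∀ y ∈ W, ∀ u, B (y u) u = 0) (h2 : ∀ y ∈ W, ∀ u w, B (y (ψ u)) (ψ w) = B (y u) w)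
    (h3 : ∀ y ∈ W, ∀ u, B (y u) (ψ u) = 0) : finrank K W ≤ 12 := by
  obtain ⟨e, he⟩ := h.exists_e hU hr
  let I := {p : Fin 4 × Fin 4 // p.1 < p.2}
  have hI : Fintype.card I = 6 := by decide
  let Φ : W →ₗ[K] (I → K) × (I → K) :=
    { toFun := fun y => (fun p => B (y.1 (e p.1.1)) (e p.1.2), fun p => B (y.1 (e p.1.1)) (ψ (e p.1.2)))
      map_add' := fun x y => by
        refine Prod.ext (funext fun p => ?_) (funext fun p => ?_)
        · change B ((x.1 + y.1) _) _ = _
          rw [LinearMap.add_apply, map_add, LinearMap.add_apply]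
          rfl
        · change B ((x.1 + y.1) _) _ = _
          rw [LinearMap.add_apply, map_add, LinearMap.add_apply]
          rfl
      map_smul' := fun c x => by
        refine Prod.ext (funext fun p => ?_) (funext fun p => ?_)
        · change B ((c • x.1) _) _ = _
          rw [LinearMap.smul_apply, map_smul, LinearMap.smul_apply]
          rfl
        · change B ((c • x.1) _) _ = _
          rw [LinearMap.smul_apply, map_smul, LinearMap.smul_apply]
          rfl }
  have hsym : ∀ y ∈ W, ∀ u w, B (y u) w = B (y w) u := by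
    intro y hy u w
    have h4 := h1 y hy (u + w)
    simp only [map_add, LinearMap.add_apply] at h4
    rw [h1 y hy, h1 y hy, zero_add, add_zero] at h4
    exact keq (by rw [add_comm]; exact h4)
  have hinj : Function.Injective Φ := by
    rw [injective_iff_map_eq_zero]
    rintro ⟨y, hy⟩ h0
    have g1 : ∀ p : I, B (y (e p.1.1)) (e p.1.2) = 0 := fun p => congrFun (congrArg Prod.fst h0) p
    have g2 : ∀ p : I, B (y (e p.1.1)) (ψ (e p.1.2)) = 0 := fun p => congrFun (congrArg Prod.snd h0) p
    have k1 : ∀ a b, B (y (e a)) (e b) = 0 := by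
      intro a b
      rcases lt_trichotomy a b with hab | rfl | hab
      · exact g1 ⟨(a, b), hab⟩
      · exact h1 y hy _
      · rw [hsym y hy]
        exact g1 ⟨(b, a), hab⟩
    have k2 : ∀ a b, B (y (e a)) (ψ (e b)) = 0 := by
      intro a b
      rcases lt_trichotomy a b with hab | rfl | hab
      · exact g2 ⟨(a, b), hab⟩
      · exact h3 y hy _
      · rw [← h2 y hy, h.inv, hsym y hy]
        exact g2 ⟨(b, a), hab⟩
    have k3 : ∀ a b, B (y (ψ (e a))) (e b) = 0 := fun a b => by rw [hsym y hy]; exact k2 b a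
    have k4 : ∀ a b, B (y (ψ (e a))) (ψ (e b)) = 0 := fun a b => by rw [h2 y hy]; exact k1 a b
    apply Subtype.ext
    change y = 0
    refine LinearMap.ext fun u => ?_
    rw [LinearMap.zero_apply]
    apply h.nd
    intro w
    obtain ⟨a, b, rfl⟩ := he u
    obtain ⟨a', b', rfl⟩ := he w
    simp only [map_add, map_sum, map_smul, LinearMap.add_apply, LinearMap.sum_apply, LinearMap.smul_apply, k1, k2, k3, k4,
      smul_zero, Finset.sum_const_zero, add_zero]
  have h5 := LinearMap.finrank_le_finrank_of_injective hinj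
  rwa [finrank_prod, finrank_fintype_fun_eq_card, hI] at h5

/-- the three properties of a difference -/
theorem QS.diff (h : QS B Q ψ) {m y : Module.End K U} {c : K} (hm : ∀ u, B (m u) u = c * Q u)
    (hy : ∀ u, y u = ψ (m (ψ u)) + c • u + m u) :
    (∀ u, B (y u) u = 0) ∧ (∀ u w, B (y (ψ u)) (ψ w) = B (y u) w) ∧ ∀ u, B (y u) (ψ u) = 0 := by
  have hp : ∀ u w, B (m u) w + B (m w) u = c * B u w := by
    intro u w
    have h1 := hm (u + w)
    rw [h.pol] at h1
    simp only [map_add, LinearMap.add_apply] at h1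
    rw [hm, hm] at h1
    linear_combination h1
  refine ⟨fun u => ?_, fun u w => ?_, fun u => ?_⟩
  · rw [hy]
    simp only [map_add, map_smul, LinearMap.add_apply, LinearMap.smul_apply]
    rw [h.adj, hm, h.self, hm, h.iso, smul_zero, add_zero, kadd]
  · rw [hy, hy]
    simp only [map_add, map_smul, LinearMap.add_apply, LinearMap.smul_apply]
    rw [h.inv, h.isom, h.isom, ← h.adj (m (ψ u)) w, h.adj (m (ψ u)) w, ← h.adj]
    ring
  · rw [hy]
    simp only [map_add, map_smul, LinearMap.add_apply, LinearMap.smul_apply]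
    rw [h.isom]
    have h1 := hp (ψ u) u
    rw [h.symm (ψ u) u] at h1
    rw [smul_eq_mul, ← h1]
    have h2 := kadd (B (m (ψ u)) u)
    have h3 := kadd (B (m u) (ψ u))
    linear_combination h2 + h3

end one

section two

variable {K : Type*} [Field K] [CharP K 2] {U U' : Type*} [AddCommGroup U] [Module K U] [AddCommGroup U'] [Module K U']
  [FiniteDimensional K U] {B : LinearMap.BilinForm K U} {Q : U → K} {ψ : U →ₗ[K] U} {B' : LinearMap.BilinForm K U'}
  {Q' : U' → K} {ψ' : U' →ₗ[K] U'} {L : Type*} [AddCommGroup L] [Module K L] [FiniteDimensional K L]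

/-- **the fixed space of `z` has codimension at most 12** -/
theorem fix_le (h : QS B Q ψ) (h' : QS B' Q' ψ') (hU : finrank K U = 8) (hr : finrank K (LinearMap.range (ψ + 1)) = 4)
    (hc4 : ∃ u, B' u (ψ' u) ≠ 0) (z : L →ₗ[K] L) (ρ : L →ₗ[K] Module.End K U) (ρ' : L →ₗ[K] Module.End K U')
    (c c' : L → K) (hB : ∀ x u, B (ρ x u) u = c x * Q u) (hB' : ∀ x u, B' (ρ' x u) u = c' x * Q' u)
    (hz : ∀ x u, ρ (z x) u = ψ (ρ x (ψ u)) + c x • u) (hz' : ∀ x u, ρ' (z x) u = ψ' (ρ' x (ψ' u)) + c' x • u)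
    (hs : ∀ x, ρ (z x + x) = 0 → ∃ κ : K, ∀ u, ρ' (z x + x) u = κ • u)
    (hk : ∀ x, ρ (z x + x) = 0 → ρ' (z x + x) = 0 → z x + x = 0) :
    finrank K L ≤ 12 + finrank K (LinearMap.ker (z + 1)) := by
  let T : L →ₗ[K] Module.End K U := ρ ∘ₗ (z + 1)
  have hT : ∀ x, T x = ρ (z x + x) := fun x => rfl
  have hd : ∀ x, (∀ u, B (T x u) u = 0) ∧ (∀ u w, B (T x (ψ u)) (ψ w) = B (T x u) w) ∧ ∀ u, B (T x u) (ψ u) = 0 := by
    intro x
    refine h.diff (hB x) fun u => ?_
    rw [hT, map_add, LinearMap.add_apply, hz]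
  have h1 : finrank K (LinearMap.range T) ≤ 12 := by
    refine h.bound hU hr _ ?_ ?_ ?_
    · rintro _ ⟨x, rfl⟩
      exact (hd x).1
    · rintro _ ⟨x, rfl⟩
      exact (hd x).2.1
    · rintro _ ⟨x, rfl⟩
      exact (hd x).2.2
  have h2 : LinearMap.ker T ≤ LinearMap.ker (z + 1) := by
    intro x hx
    have h3 : ρ (z x + x) = 0 := hx
    obtain ⟨κ, hκ⟩ := hs x h3
    obtain ⟨u, hu⟩ := hc4
    have h4 := (h'.diff (hB' x) (y := ρ' (z x + x)) fun u => by rw [map_add, LinearMap.add_apply, hz']).2.2 u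
    rw [hκ, map_smul, LinearMap.smul_apply, smul_eq_mul] at h4
    have h5 : κ = 0 := (mul_eq_zero.1 h4).resolve_right hu
    have h6 : ρ' (z x + x) = 0 := LinearMap.ext fun u => by rw [hκ, h5, zero_smul, LinearMap.zero_apply]
    rw [LinearMap.mem_ker]
    exact hk x h3 h6
  have h3 := LinearMap.finrank_range_add_finrank_ker T
  have h4 := Submodule.finrank_mono h2
  omega

end two

end Cfsg.Agent.H198.L34
end

-- part: H198/L34/CFour
section
/-!
# S5917, type D: an involution which is the square in a quaternion group of isometries is of type `c₄` (helper198)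
-/

set_option autoImplicit false
set_option linter.unusedSectionVars false

namespace Cfsg.Agent.H198.L34

open Module Cfsg.Agent.H400.L34.QFree

variable {K : Type*} [Field K] {U : Type*} [AddCommGroup U] [Module K U] {i j : U →ₗ[K] U}

theorem nrm_i (h : QL i j) (v : U) : i (nrm i j v) = nrm i j v := by
  unfold nrm
  simp only [map_add, h.four]
  abel

theorem nrm_j (h : QL i j) (v : U) : j (nrm i j v) = nrm i j v := by
  unfold nrm
  simp only [map_add, h.ji, h.four, h.sq]
  abel

/-- **type `c₄`** -/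
theorem exists_c4 [CharP K 2] [IsAlgClosed K] [FiniteDimensional K U] (hU : finrank K U = 8) (h : QL i j)
    (hf : ∀ v, i (i v) = v → ∃ w, v = w + i (i w)) {B : LinearMap.BilinForm K U} {Q : U → K}
    (hB : QS B Q (i ∘ₗ i)) (hi : ∀ u w, B (i u) (i w) = B u w) (hj : ∀ u w, B (j u) (j w) = B u w) :
    ∃ u, B u (i (i u)) ≠ 0 := by
  by_contra hcon
  push Not at hcon
  have hnt : Nontrivial U := Module.nontrivial_of_finrank_pos (R := K) (by rw [hU]; norm_num)
  obtain ⟨v, hv⟩ := h.exists_nrm hf
  apply hv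
  have hs := hB.symm
  have e1 : B v (i (i (i v))) = B v (i v) := by
    rw [← hi, h.four, hs]
  have e2 : B v (i (i (j v))) = B v (j v) := by
    rw [← h.jz v, ← hj v (j (i (i v))), h.sq (i (i v)), h.four, hs]
  have e3 : B v (i (i (i (j v)))) = B v (i (j v)) := by
    have h1 : B v (i (i (i (j v)))) = B v (j (i v)) := by rw [h.ji]
    rw [h1]
    have h2 : B v (j (i v)) = B (i (j v)) (i (j (j (i v)))) := by rw [hi, hj]
    rw [h2, h.sq, h.four, hs]
  have hvv : B v (nrm i j v) = 0 := by
    unfold nrm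
    simp only [map_add]
    rw [hB.self, hcon, e1, e2, e3]
    have t1 := kadd (B v (i v))
    have t2 := kadd (B v (j v))
    have t3 := kadd (B v (i (j v)))
    linear_combination t1 + t2 + t3
  have gi : ∀ u, B (i u) (nrm i j v) = B u (nrm i j v) := fun u => by
    conv_lhs => rw [← nrm_i h v]
    rw [hi]
  have gj : ∀ u, B (j u) (nrm i j v) = B u (nrm i j v) := fun u => by
    conv_lhs => rw [← nrm_j h v]
    rw [hj]
  have hli := h.indep hv
  have hsp : Submodule.span K (Set.range (vec i j v)) = ⊤ :=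
    hli.span_eq_top_of_card_eq_finrank (by rw [Fintype.card_fin, hU])
  apply hB.nd
  intro w
  rw [hs]
  have hw : w ∈ Submodule.span K (Set.range (vec i j v)) := by rw [hsp]; exact Submodule.mem_top
  refine Submodule.span_induction (p := fun w _ => B w (nrm i j v) = 0) ?_ ?_ ?_ ?_ hw
  · rintro _ ⟨k, rfl⟩
    fin_cases k <;> simp [vec, gi, gj, hvv]
  · rw [map_zero, LinearMap.zero_apply]
  · intro x y _ _ hx hy
    rw [map_add, LinearMap.add_apply, hx, hy, add_zero]
  · intro a x _ hx
    rw [map_smul, LinearMap.smul_apply, hx, smul_zero]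

end Cfsg.Agent.H198.L34
end

private theorem dce_880731065955 : _root_.True := by
  try have : _root_.True := by simp only [_root_.Cfsg.Agent.H400.L34.QFree.vec.eq_1]
  exact _root_.True.intro
end

-- part: H198/L34/HTwentyB
section
prune_inst 0x4200000000002082000200222000000680005000000000020400c0001408020894020c01090010210009c005800004010000010002000002000300000030020800112021120a2040c0009000100000000000000000000000000000000010000000000000
set_option linter.all false
open scoped Cfsg.Agent.FastGrp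

-- part: H736/L34/ZFree
section
/-!
`U` of dimension 8 over a field of characteristic 2 with a quadratic form `Q` (polar form `B`
nondegenerate), `i` an isometry with `i ^ 2 = z`, `z ^ 2 = 1`.  If a space `W` of infinitesimal
similitudes has `(1 + Ad z) W` of dimension at least 12, then `z + 1` has rank 4.
-/

namespace Cfsg.Agent.H736.L34

open Module

variable {K : Type*} [Field K]

/-- If `f` vanishes on the kernel of `g` in `W` then `dim f(W)` is at most `dim G`. -/
theorem finrank_map_le {E F G : Type*} [AddCommGroup E] [Module K E] [AddCommGroup F] [Module K F]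
    [AddCommGroup G] [Module K G] [FiniteDimensional K E] [FiniteDimensional K G]
    (W : Submodule K E) (f : E →ₗ[K] F) (g : E →ₗ[K] G) (h : ∀ x ∈ W, g x = 0 → f x = 0) :
    finrank K (W.map f) ≤ finrank K G := by
  have h1 := LinearMap.finrank_range_add_finrank_ker (f.domRestrict W)
  have h2 := LinearMap.finrank_range_add_finrank_ker (g.domRestrict W)
  have h3 : LinearMap.ker (g.domRestrict W) ≤ LinearMap.ker (f.domRestrict W) := by
    rintro ⟨x, hx⟩ hx'
    rw [LinearMap.mem_ker, LinearMap.domRestrict_apply] at hx' ⊢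
    exact h x hx hx'
  have h4 := Submodule.finrank_mono h3
  have h5 := Submodule.finrank_le (LinearMap.range (g.domRestrict W))
  have h6 : LinearMap.range (f.domRestrict W) = W.map f := LinearMap.range_domRestrict _ _
  rw [h6] at h1
  omega

variable {U : Type*} [AddCommGroup U] [Module K U]

theorem add_self' [CharP K 2] (x : U) : x + x = 0 := by
  have : (2 : K) • x = 0 := by
    rw [show (2 : K) = 0 from CharP.cast_eq_zero K 2, zero_smul]
  rw [← two_smul K x, this]

section Main

variable [CharP K 2] (B : LinearMap.BilinForm K U) (hB : B.IsAlt)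

include hB in
theorem symm (x y : U) : B x y = B y x := by
  have h : -B x y = B y x := LinearMap.IsAlt.neg hB x y
  rw [← h, CharTwo.neg_eq]

variable (Q : U → K) (hQ : ∀ x y, Q (x + y) = Q x + Q y + B x y)
  (i z : U →ₗ[K] U) (hi : ∀ x, i (i x) = z x) (hz : ∀ x, z (z x) = x)
  (hBi : ∀ x y, B (i x) (i y) = B x y) (hQz : ∀ x, Q (z x) = Q x)

omit [CharP K 2] in
include hi hBi in
theorem Bz (x y : U) : B (z x) (z y) = B x y := by
  rw [← hi, ← hi, hBi, hBi]

include hz in
theorem eta_eta (x : U) : (z + 1 : U →ₗ[K] U) ((z + 1 : U →ₗ[K] U) x) = 0 := by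
  simp only [LinearMap.add_apply, Module.End.one_apply, map_add, hz]
  rw [show x + z x + (z x + x) = (x + x) + (z x + z x) by abel, add_self' (K := K) x,
    add_self' (K := K) (z x), add_zero]

include hB hi hz hBi in
/-- The rank of `z + 1` is even. -/
theorem even_rank [FiniteDimensional K U] (hn : B.Nondegenerate) :
    ∃ m, finrank K (LinearMap.range (z + 1 : U →ₗ[K] U)) = m + m := by
  let G : LinearMap.BilinForm K U :=
    (B.compl₁₂ (z + 1 : U →ₗ[K] U) i)
  have hG : ∀ x y, G x y = B ((z + 1 : U →ₗ[K] U) x) (i y) := fun x y => rfl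
  have hA : G.IsAlt := by
    intro x
    rw [hG, LinearMap.add_apply, Module.End.one_apply, map_add, LinearMap.add_apply]
    rw [← hi x, hBi, symm B hB x (i x)]
    exact CharTwo.add_self_eq_zero _
  obtain ⟨m, hm⟩ := Cfsg.Agent.ClassicalGeometry.TwoFamilies.exists_finrank_eq_ker_add G hA
  have hker : LinearMap.ker G = LinearMap.ker (z + 1 : U →ₗ[K] U) := by
    ext x
    rw [LinearMap.mem_ker, LinearMap.mem_ker]
    constructor
    · intro h
      apply hn.1
      intro y
      have h1 : G x (i (z y)) = 0 := by rw [h]; rfl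
      rw [hG, hi, hz] at h1
      exact h1
    · intro h
      ext y
      rw [hG, h]
      simp
  have h1 := LinearMap.finrank_range_add_finrank_ker (z + 1 : U →ₗ[K] U)
  rw [hker] at hm
  exact ⟨m, by omega⟩

variable (D : Module.End K U →ₗ[K] Module.End K U) (hD : ∀ x u, D x u = z (x (z u)) + x u)
  (W : Submodule K (Module.End K U)) (hW : ∀ x ∈ W, ∃ c : K, ∀ u, B (x u) u = c * Q u)

omit [CharP K 2] in
include hi hz hBi hD in
theorem B_D (x : Module.End K U) (u v : U) : B (D x u) v = B (x (z u)) (z v) + B (x u) v := by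
  rw [hD, map_add, LinearMap.add_apply]
  congr 1
  rw [← Bz B i z hi hBi, hz]

include hi hz hBi hD hQz in
theorem B_D_self {x : Module.End K U} {c : K} (hx : ∀ u, B (x u) u = c * Q u) (u : U) :
    B (D x u) u = 0 := by
  rw [B_D B i z hi hz hBi D hD, hx, hx, hQz]
  exact CharTwo.add_self_eq_zero _

include hi hz hBi hD hQz in
theorem B_D_symm {x : Module.End K U} {c : K} (hx : ∀ u, B (x u) u = c * Q u) (u v : U) :
    B (D x u) v = B (D x v) u := by
  have h := B_D_self B Q i z hi hz hBi hQz D hD hx (u + v)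
  simp only [map_add, LinearMap.add_apply] at h
  rw [B_D_self B Q i z hi hz hBi hQz D hD hx, B_D_self B Q i z hi hz hBi hQz D hD hx, zero_add,
    add_zero] at h
  exact (CharTwo.add_eq_zero.1 h).symm

include hi hz hBi hD in
/-- The value on a fixed vector `v` of `z`. -/
theorem B_D_fix (x : Module.End K U) (u v : U) (hv : (z + 1 : U →ₗ[K] U) v = 0) :
    B (D x u) v = B (x ((z + 1 : U →ₗ[K] U) u)) v := by
  have hzv : z v = v := by
    have h1 : z v + v = 0 := hv
    have h2 := add_self' (K := K) v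
    exact add_right_cancel (h1.trans h2.symm)
  rw [B_D B i z hi hz hBi D hD, hzv]
  simp only [LinearMap.add_apply, Module.End.one_apply, map_add]

include hi hz hBi hD in
theorem B_D_fix_fix (x : Module.End K U) (u v : U) (hu : (z + 1 : U →ₗ[K] U) u = 0)
    (hv : (z + 1 : U →ₗ[K] U) v = 0) : B (D x u) v = 0 := by
  rw [B_D_fix B i z hi hz hBi D hD x u v hv, hu]
  simp

omit [CharP K 2] in
include hQ in
theorem B_x_symm {x : Module.End K U} {c : K} (hx : ∀ u, B (x u) u = c * Q u) (u v : U) :
    B (x u) v + B (x v) u = c * B u v := by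
  have h := hx (u + v)
  rw [hQ] at h
  simp only [map_add, LinearMap.add_apply] at h
  rw [hx, hx] at h
  linear_combination h

include hQ hi hz hBi hQz hD hW in
theorem rank_two [FiniteDimensional K U] (hU : finrank K U = 8) (hn : B.Nondegenerate)
    (h2 : finrank K (LinearMap.range (z + 1 : U →ₗ[K] U)) = 2) :
    finrank K (W.map D) ≤ 11 := by
  set e : U →ₗ[K] U := z + 1 with he
  have hee : ∀ x, e (e x) = 0 := eta_eta (K := K) z hz
  -- a vector with `Q ≠ 0`
  obtain ⟨u0, hu0⟩ : ∃ u, Q u ≠ 0 := by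
    by_contra hcon
    push Not at hcon
    have h0 : ∀ x : U, x = 0 := by
      intro x
      apply hn.1
      intro y
      have := hQ x y
      rw [hcon, hcon, hcon, zero_add, zero_add] at this
      exact this.symm
    have : finrank K U = 0 := by
      have : Subsingleton U := ⟨fun a b => by rw [h0 a, h0 b]⟩
      exact finrank_zero_of_subsingleton
    omega
  -- a basis of the range
  let b := Module.finBasisOfFinrankEq K (LinearMap.range e) h2
  obtain ⟨c1, hc1⟩ := (b 0).2
  obtain ⟨c2, hc2⟩ := (b 1).2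
  have hspan : ∀ u, ∃ s t : K, e u = s • e c1 + t • e c2 := by
    intro u
    refine ⟨b.repr ⟨e u, LinearMap.mem_range_self e u⟩ 0,
      b.repr ⟨e u, LinearMap.mem_range_self e u⟩ 1, ?_⟩
    have h := b.sum_repr ⟨e u, LinearMap.mem_range_self e u⟩
    rw [Fin.sum_univ_two] at h
    have h' := congrArg Subtype.val h
    simp only [Submodule.coe_add, Submodule.coe_smul] at h'
    rw [hc1, hc2]
    exact h'.symm
  -- a complement of the range in the kernel
  obtain ⟨M, hM⟩ := Submodule.exists_isCompl (LinearMap.range e)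
  have hle : LinearMap.range e ≤ LinearMap.ker e := by
    rintro _ ⟨x, rfl⟩
    exact hee x
  have hsup : LinearMap.range e ⊔ (M ⊓ LinearMap.ker e) = LinearMap.ker e := by
    rw [← sup_inf_assoc_of_le M hle, hM.sup_eq_top, top_inf_eq]
  have hinf : LinearMap.range e ⊓ (M ⊓ LinearMap.ker e) = ⊥ := by
    rw [← inf_assoc, hM.inf_eq_bot, bot_inf_eq]
  have hrk := LinearMap.finrank_range_add_finrank_ker e
  have hdim := Submodule.finrank_sup_add_finrank_inf_eq (LinearMap.range e) (M ⊓ LinearMap.ker e)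
  rw [hsup, hinf, finrank_bot] at hdim
  have hK : finrank K ↥(M ⊓ LinearMap.ker e) = 4 := by omega
  -- the map
  let S : Submodule K U := M ⊓ LinearMap.ker e
  let g : Module.End K U →ₗ[K] (K × K × K × Module.Dual K S × Module.Dual K S) :=
    LinearMap.prod ((B.flip u0).comp (LinearMap.applyₗ u0))
      (LinearMap.prod ((B.flip (e c2)).comp (LinearMap.applyₗ (e c1)))
        (LinearMap.prod ((B.flip c2).comp ((LinearMap.applyₗ c1).comp D))
          (LinearMap.prod (((Submodule.dualRestrict S).comp B).comp ((LinearMap.applyₗ c1).comp D))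
            (((Submodule.dualRestrict S).comp B).comp ((LinearMap.applyₗ c2).comp D)))))
  have hg : ∀ x, g x = 0 → B (x u0) u0 = 0 ∧ B (x (e c1)) (e c2) = 0 ∧ B (D x c1) c2 = 0 ∧
      (∀ k ∈ S, B (D x c1) k = 0) ∧ (∀ k ∈ S, B (D x c2) k = 0) := by
    intro x hx
    have h1 := congrArg Prod.fst hx
    have hx2 := congrArg Prod.snd hx
    have h2 := congrArg Prod.fst hx2
    have hx3 := congrArg Prod.snd hx2
    have h3 := congrArg Prod.fst hx3
    have hx4 := congrArg Prod.snd hx3
    have h4 := congrArg Prod.fst hx4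
    have h5 := congrArg Prod.snd hx4
    refine ⟨h1, h2, h3, ?_, ?_⟩
    · intro k hk
      exact congrArg (fun φ : Module.Dual K S => φ ⟨k, hk⟩) h4
    · intro k hk
      exact congrArg (fun φ : Module.Dual K S => φ ⟨k, hk⟩) h5
  have hfin : finrank K (K × K × K × Module.Dual K S × Module.Dual K S) = 11 := by
    simp only [Module.finrank_prod, Module.finrank_self, Subspace.dual_finrank_eq]
    show 1 + (1 + (1 + (finrank K ↥(M ⊓ LinearMap.ker e) + finrank K ↥(M ⊓ LinearMap.ker e)))) = 11
    rw [hK]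
  rw [← hfin]
  apply finrank_map_le W D g
  intro x hxW hx
  obtain ⟨c, hc⟩ := hW x hxW
  obtain ⟨g1, g2, g3, g4, g5⟩ := hg x hx
  have hc0 : c = 0 := by
    rw [hc] at g1
    exact (mul_eq_zero.1 g1).resolve_right hu0
  -- values on the range
  have hgam : ∀ u w, B (x (e u)) (e w) = B (x (e w)) (e u) := by
    intro u w
    have h := B_x_symm B Q hQ hc (e u) (e w)
    rw [hc0, zero_mul] at h
    exact CharTwo.add_eq_zero.1 h
  have hgam0 : ∀ u, B (x (e u)) (e u) = 0 := by
    intro u
    rw [hc, hc0, zero_mul]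
  have hval : ∀ u w, B (D x u) (e w) = B (x (e u)) (e w) := fun u w =>
    B_D_fix B i z hi hz hBi D hD x u (e w) (hee w)
  have r11 : B (x (e c1)) (e c1) = 0 := hgam0 c1
  have r22 : B (x (e c2)) (e c2) = 0 := hgam0 c2
  have r21 : B (x (e c2)) (e c1) = 0 := by rw [hgam]; exact g2
  have hR1 : ∀ w, B (D x c1) (e w) = 0 := by
    intro w
    obtain ⟨s, t, hst⟩ := hspan w
    rw [hval, hst]
    simp only [map_add, map_smul, r11, g2, smul_zero, add_zero]
  have hR2 : ∀ w, B (D x c2) (e w) = 0 := by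
    intro w
    obtain ⟨s, t, hst⟩ := hspan w
    rw [hval, hst]
    simp only [map_add, map_smul, r21, r22, smul_zero, add_zero]
  -- decomposition of vectors
  have hdec : ∀ v, ∃ s t : K, ∃ k, e k = 0 ∧ v = s • c1 + t • c2 + k := by
    intro v
    obtain ⟨s, t, hst⟩ := hspan v
    refine ⟨s, t, v - (s • c1 + t • c2), ?_, by abel⟩
    rw [map_sub, map_add, map_smul, map_smul, hst, sub_self]
  have hdec2 : ∀ k, e k = 0 → ∃ w, ∃ m ∈ S, k = e w + m := by
    intro k hk
    have : k ∈ LinearMap.range e ⊔ (M ⊓ LinearMap.ker e) := by rw [hsup]; exact hk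
    obtain ⟨y, ⟨w, rfl⟩, m, hm, rfl⟩ := Submodule.mem_sup.1 this
    exact ⟨w, m, hm, rfl⟩
  have hself := B_D_self B Q i z hi hz hBi hQz D hD hc
  have hsym := B_D_symm B Q i z hi hz hBi hQz D hD hc
  have hk1 : ∀ k, e k = 0 → B (D x c1) k = 0 := by
    intro k hk
    obtain ⟨w, m, hm, rfl⟩ := hdec2 k hk
    rw [map_add, hR1, g4 m hm, add_zero]
  have hk2 : ∀ k, e k = 0 → B (D x c2) k = 0 := by
    intro k hk
    obtain ⟨w, m, hm, rfl⟩ := hdec2 k hk
    rw [map_add, hR2, g5 m hm, add_zero]
  have g3' : B (D x c2) c1 = 0 := by rw [hsym]; exact g3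
  have a1 : ∀ v, B (D x c1) v = 0 := by
    intro v
    obtain ⟨s, t, k, hk, rfl⟩ := hdec v
    simp only [map_add, map_smul, hself, g3, hk1 k hk, smul_zero, add_zero]
  have a2 : ∀ v, B (D x c2) v = 0 := by
    intro v
    obtain ⟨s, t, k, hk, rfl⟩ := hdec v
    simp only [map_add, map_smul, hself, g3', hk2 k hk, smul_zero, add_zero]
  ext u
  apply hn.1
  intro v
  obtain ⟨s, t, k, hk, rfl⟩ := hdec u
  obtain ⟨s', t', k', hk', rfl⟩ := hdec v
  simp only [map_add, map_smul, LinearMap.add_apply, LinearMap.smul_apply, a1, a2, smul_zero,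
    zero_add, add_zero]
  rw [hsym k c1, hsym k c2, a1, a2, B_D_fix_fix B i z hi hz hBi D hD x k k' hk hk']
  simp

include hB hQ hi hz hBi hQz hD hW in
/-- `z` is free on `U`. -/
theorem z_free [FiniteDimensional K U] (hU : finrank K U = 8) (hn : B.Nondegenerate)
    (h12 : 12 ≤ finrank K (W.map D)) :
    finrank K (LinearMap.range (z + 1 : U →ₗ[K] U)) = 4 := by
  obtain ⟨m, hm⟩ := even_rank B hB i z hi hz hBi hn
  have hle : LinearMap.range (z + 1 : U →ₗ[K] U) ≤ LinearMap.ker (z + 1 : U →ₗ[K] U) := by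
    rintro _ ⟨x, rfl⟩
    exact eta_eta (K := K) z hz x
  have h1 := Submodule.finrank_mono hle
  have h2 := LinearMap.finrank_range_add_finrank_ker (z + 1 : U →ₗ[K] U)
  have h3 : m ≠ 0 := by
    rintro rfl
    have h4 : LinearMap.range (z + 1 : U →ₗ[K] U) = ⊥ := Submodule.finrank_eq_zero.1 hm
    have h5 : (z + 1 : U →ₗ[K] U) = 0 := LinearMap.range_eq_bot.1 h4
    have h6 : ∀ u, z u = u := by
      intro u
      have h7 : z u + u = 0 := congrArg (fun f : U →ₗ[K] U => f u) h5
      exact add_right_cancel (h7.trans (add_self' (K := K) u).symm)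
    have h8 : D = 0 := by
      ext x u
      rw [hD, h6, h6]
      exact add_self' (K := K) _
    rw [h8, Submodule.map_zero, finrank_bot] at h12
    omega
  have h4 : m ≠ 1 := by
    rintro rfl
    have := rank_two B Q hQ i z hi hz hBi hQz D hD W hW hU hn (by omega)
    omega
  omega

end Main

end Cfsg.Agent.H736.L34
end

-- part: H198/L34/HTwentyB
section
/-!
# S5917, type D: the fixed space of `z` on `L₀` has dimension 20, abstract assembly (helper198)
-/

set_option autoImplicit false
set_option linter.unusedSectionVars false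

namespace Cfsg.Agent.H198.L34

open Module Cfsg.Agent.H633.L34.Psi Cfsg.Agent.H400.L34.QFree

variable {K : Type*} [Field K] [CharP K 2] [IsAlgClosed K] {L M : Type*} [AddCommGroup L] [Module K L]
  [FiniteDimensional K L] [AddCommGroup M] [Module K M] [FiniteDimensional K M]

/-- the frame of type `D` -/
structure Fr (L0 D : Submodule K L) (rho : Fin 3 → L →ₗ[K] M →ₗ[K] M) (b : M →ₗ[K] M →ₗ[K] K) (Q : M → K)
    (c : Fin 3 → L → K) (nw : Fin 8 → Fin 8) (lam : Fin 3 → Fin 8 → L → K) (i j : L →ₗ[K] L) (si sj : Fin 8 → Fin 8)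
    (Gi Gj : Fin 3 → Fin 8 → M →ₗ[K] M) : Prop where
  hM : finrank K M = 8
  B : ∀ X, Blk L0 D (rho X) b Q (c X) nw (lam X)
  Ai : ∀ X, Act L0 D (rho X) (lam X) i si (Gi X)
  Aj : ∀ X, Act L0 D (rho X) (lam X) j sj (Gj X)
  four : ∀ x ∈ L0, i (i (i (i x))) = x
  jj : ∀ x ∈ L0, j (j x) = i (i x)
  ji : ∀ x ∈ L0, j (i x) = i (i (i (j x)))
  si2 : ∀ w, si (si w) = nw w
  sj2 : ∀ w, sj (sj w) = nw w
  /-- the value of `lam` at the negative character -/
  key : ∀ X, ∀ x ∈ L0, lam X (nw 0) x = c X x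
  /-- `z` is trivial on `L₀ / D` -/
  zD : ∀ x ∈ L0, i (i x) + x ∈ D
  scal : ∀ X X', ∀ d ∈ D, (∀ v, rho X d v = 0) → ∃ κ : K, ∀ v, rho X' d v = κ • v
  faith : ∀ X X', X ≠ X' → ∀ d ∈ D, (∀ v, rho X d v = 0) → (∀ v, rho X' d v = 0) → d = 0

/-- the part of `L₀` which comes from the Steinberg modules -/
structure SS (L0 S : Submodule K L) (i j : L →ₗ[K] L) : Prop where
  le : S ≤ L0
  mi : ∀ x ∈ S, i x ∈ S
  mj : ∀ x ∈ S, j x ∈ S
  rk : 12 ≤ finrank K (S.map (i ∘ₗ i + 1))
  fix : ∀ y ∈ S, i y = y → j y = y → ∃ u ∈ S, TrL i j u = y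

section

variable {L0 D : Submodule K L} {rho : Fin 3 → L →ₗ[K] M →ₗ[K] M} {b : M →ₗ[K] M →ₗ[K] K} {Q : M → K}
  {c : Fin 3 → L → K} {nw : Fin 8 → Fin 8} {lam : Fin 3 → Fin 8 → L → K} {i j : L →ₗ[K] L} {si sj : Fin 8 → Fin 8}
  {Gi Gj : Fin 3 → Fin 8 → M →ₗ[K] M}

theorem finrank_map_le_map {A A' : Type*} [AddCommGroup A] [Module K A] [AddCommGroup A'] [Module K A'] (S : Submodule K L)
    (f : L →ₗ[K] A) (g : L →ₗ[K] A') (h : ∀ x ∈ S, g x = 0 → f x = 0) : finrank K (S.map f) ≤ finrank K (S.map g) := by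
  have h1 := LinearMap.finrank_range_add_finrank_ker (f.domRestrict S)
  have h2 := LinearMap.finrank_range_add_finrank_ker (g.domRestrict S)
  have h3 : LinearMap.ker (g.domRestrict S) ≤ LinearMap.ker (f.domRestrict S) := by
    rintro ⟨x, hx⟩ hx'
    rw [LinearMap.mem_ker, LinearMap.domRestrict_apply] at hx' ⊢
    exact h x hx hx'
  have h4 := Submodule.finrank_mono h3
  rw [LinearMap.range_domRestrict] at h1 h2
  omega

/-- what we know about `ψ` -/
structure Ps (L0 D : Submodule K L) (r : L →ₗ[K] M →ₗ[K] M) (b : M →ₗ[K] M →ₗ[K] K) (Q : M → K) (cX : L → K)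
    (i j : L →ₗ[K] L) (pi pj : M →ₗ[K] M) : Prop where
  ql : QL pi pj
  qs : QS b Q (pi ∘ₗ pi)
  bi : ∀ u w, b (pi u) (pi w) = b u w
  bj : ∀ u w, b (pj u) (pj w) = b u w
  key : ∀ x ∈ L0, ∀ v, r (i (i x)) v = pi (pi (r x (pi (pi v)))) + cX x • v
  di : ∀ d ∈ D, ∀ v, r (i d) (pi v) = pi (r d v)
  dj : ∀ d ∈ D, ∀ v, r (j d) (pj v) = pj (r d v)
  nil : ∀ x ∈ L0, IsNilpotent (r (TrL i j x) : Module.End K M)

theorem Fr.exists_ps (h : Fr L0 D rho b Q c nw lam i j si sj Gi Gj) (X : Fin 3) :
    ∃ pi pj, Ps L0 D (rho X) b Q (c X) i j pi pj := by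
  have hsq : ∀ a : K, ∃ r, r * r = a := fun a => by
    obtain ⟨r, hr⟩ := IsAlgClosed.exists_pow_nat_eq a (n := 2) (by norm_num)
    exact ⟨r, by rw [← pow_two, hr]⟩
  obtain ⟨pi, pj, hq, qi, qj, fi, fj, o1, -, hn⟩ := main' h.hM hsq (h.B X) (h.Ai X) (h.Aj X) h.four h.jj h.ji h.si2 h.sj2
  have hB := h.B X
  have iso : ∀ p : M →ₗ[K] M, (∀ v, Q (p v) = Q v) → ∀ u w, b (p u) (p w) = b u w := by
    intro p hp u w
    have h1 := hB.pol (p u) (p w)
    rw [← map_add, hp, hp, hp, hB.pol] at h1
    exact (add_left_cancel h1).symm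
  have p4 : ∀ v, pi (pi (pi (pi v))) = v := hq.zz
  refine ⟨pi, pj, ?_, ?_, iso pi qi, iso pj qj, ?_, ?_, ?_, hn⟩
  · refine ⟨fun v => ?_, p4, fun v => ?_⟩
    · rw [hq.jj]; rfl
    · have h1 : pj (pi v) = pi (pi (pi (pj v))) := hq.ji v
      rw [h1, p4]
  · refine ⟨fun v hv => hB.nd v fun w => by rw [hB.sym]; exact hv w, hB.pol, hq.zz, fun u => ?_⟩
    rw [LinearMap.comp_apply, qi, qi]
  · intro x hx v
    have h1 := (fi.comp fi (h.Ai X).m0) 0 x hx (pi (pi v))
    change rho X (i (i x)) (pi (pi (pi (pi v)))) = pi (pi (rho X x (pi (pi v)))) +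
      (lam X 0 x + lam X (si (si 0)) (i (i x))) • pi (pi (pi (pi v))) at h1
    rw [p4, h.si2, o1 x hx, hB.lam0 x hx, zero_add, h.key X x hx] at h1
    exact h1
  · intro d hd v
    rw [fi 0 d (hB.DL hd) v]
    change _ + (lam X 0 d + lam X (si 0) (i d)) • _ = _
    rw [hB.lamD 0 d hd, hB.lamD _ _ ((h.Ai X).mD d hd), add_zero, zero_smul, add_zero]
  · intro d hd v
    rw [fj 0 d (hB.DL hd) v]
    change _ + (lam X 0 d + lam X (sj 0) (j d)) • _ = _
    rw [hB.lamD 0 d hd, hB.lamD _ _ ((h.Aj X).mD d hd), add_zero, zero_smul, add_zero]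

theorem scalar_nil [Nontrivial M] {T : Module.End K M} {κ : K} (h : ∀ v, T v = κ • v) (hn : IsNilpotent T) : κ = 0 := by
  obtain ⟨n, hn⟩ := hn
  have h1 : ∀ m v, (T ^ m) v = κ ^ m • v := by
    intro m
    induction m with
    | zero => intro v; rw [pow_zero, pow_zero, one_smul]; rfl
    | succ m ih => intro v; rw [pow_succ, Module.End.mul_apply, h, map_smul, ih, smul_smul, pow_succ']
  obtain ⟨v, hv⟩ := exists_ne (0 : M)
  have h2 := h1 n v
  rw [hn, LinearMap.zero_apply] at h2
  rcases smul_eq_zero.1 h2.symm with h3 | h3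
  · exact pow_eq_zero_iff (by rintro rfl; simp at h3) |>.1 h3
  · exact absurd h3 hv

/-- `L₀` as a module over the quaternion group -/
theorem Fr.ql0 (h : Fr L0 D rho b Q c nw lam i j si sj Gi Gj) :
    QL (i.restrict (p := L0) (q := L0) (h.Ai 0).m0) (j.restrict (p := L0) (q := L0) (h.Aj 0).m0) where
  sq := fun v => Subtype.ext (h.jj v.1 v.2)
  four := fun v => Subtype.ext (h.four v.1 v.2)
  comm := fun v => Subtype.ext (by
    change i (j v.1) = i (i (j (i v.1)))
    rw [h.ji v.1 v.2, h.four _ ((h.Ai 0).m0 _ ((h.Aj 0).m0 _ v.2))])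

/-- **no scalar in the image of `z + 1` on `S`** -/
theorem Fr.no_scalar (h : Fr L0 D rho b Q c nw lam i j si sj Gi Gj) {S : Submodule K L} (hS : SS L0 S i j) (X : Fin 3)
    {x : L} (hx : x ∈ S) {κ : K} (hκ : ∀ v, rho X (i (i x) + x) v = κ • v) : i (i x) + x = 0 := by
  have hnt : Nontrivial M := nontrivial_of_finrank_pos (R := K) (by rw [h.hM]; norm_num)
  obtain ⟨pi, pj, P⟩ := h.exists_ps X
  let N : Submodule K L :=
    { carrier := {y | (∃ x ∈ S, i (i x) + x = y) ∧ ∃ κ : K, ∀ v, rho X y v = κ • v}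
      add_mem' := by
        rintro _ _ ⟨⟨x, hx, rfl⟩, κ, hκ⟩ ⟨⟨y, hy, rfl⟩, μ, hμ⟩
        refine ⟨⟨x + y, S.add_mem hx hy, by simp only [map_add]; abel⟩, κ + μ, fun v => ?_⟩
        rw [map_add, LinearMap.add_apply, hκ, hμ, add_smul]
      zero_mem' := ⟨⟨0, S.zero_mem, by simp⟩, 0, fun v => by rw [map_zero, LinearMap.zero_apply, zero_smul]⟩
      smul_mem' := by
        rintro a _ ⟨⟨x, hx, rfl⟩, κ, hκ⟩
        refine ⟨⟨a • x, S.smul_mem a hx, by simp only [map_smul, smul_add]⟩, a * κ, fun v => ?_⟩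
        rw [map_smul, LinearMap.smul_apply, hκ, smul_smul] }
  have hND : ∀ y ∈ N, y ∈ D := by
    rintro _ ⟨⟨x, hx, rfl⟩, -⟩
    exact h.zD x (hS.le hx)
  have hNS : ∀ y ∈ N, y ∈ S := by
    rintro _ ⟨⟨x, hx, rfl⟩, -⟩
    exact S.add_mem (hS.mi _ (hS.mi _ hx)) hx
  have hNi : ∀ y ∈ N, i y ∈ N := by
    intro y hy
    have hyD := hND y hy
    obtain ⟨⟨x, hx, rfl⟩, κ, hκ⟩ := hy
    refine ⟨⟨i x, hS.mi _ hx, by rw [map_add]⟩, κ, fun v => ?_⟩
    have h1 : v = pi (pi (pi (pi v))) := (P.ql.four v).symm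
    rw [h1, P.di _ hyD, hκ, map_smul]
  have hNj : ∀ y ∈ N, j y ∈ N := by
    intro y hy
    have hyD := hND y hy
    obtain ⟨⟨x, hx, rfl⟩, κ, hκ⟩ := hy
    have hxL := hS.le hx
    refine ⟨⟨j x, hS.mj _ hx, ?_⟩, κ, fun v => ?_⟩
    · rw [map_add]
      congr 1
      have k1 : i x ∈ L0 := (h.Ai X).m0 x hxL
      have k2 : j x ∈ L0 := (h.Aj X).m0 x hxL
      rw [h.ji _ k1, h.ji _ hxL, h.four _ ((h.Ai X).m0 _ ((h.Ai X).m0 _ k2))]
    · have h1 : v = pj (pi (pi (pj v))) := by
        rw [← P.ql.sq (pj v), P.ql.sq (pj (pj v)), P.ql.sq v, P.ql.four]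
      rw [h1, P.dj _ hyD, hκ, map_smul]
  by_contra hne
  have hW : N.comap L0.subtype ≠ ⊥ := by
    intro h0
    apply hne
    have h1 : (⟨i (i x) + x, hS.le (hNS _ ⟨⟨x, hx, rfl⟩, κ, hκ⟩)⟩ : L0) ∈ N.comap L0.subtype := ⟨⟨x, hx, rfl⟩, κ, hκ⟩
    rw [h0, Submodule.mem_bot] at h1
    exact congrArg Subtype.val h1
  obtain ⟨y, hyW, hy0, hyi, hyj⟩ := h.ql0.exists_fix (W := N.comap L0.subtype) (fun v hv => hNi v.1 hv)
    (fun v hv => hNj v.1 hv) hW
  have hyN : y.1 ∈ N := hyW
  obtain ⟨u, hu, huy⟩ := hS.fix y.1 (hNS _ hyN) (congrArg Subtype.val hyi) (congrArg Subtype.val hyj)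
  have hyD := hND _ hyN
  obtain ⟨-, μ, hμ⟩ := hyN
  have hnil : ∀ X, IsNilpotent (rho X y.1 : Module.End K M) := by
    intro X
    obtain ⟨_, _, P'⟩ := h.exists_ps X
    rw [← huy]
    exact P'.nil u (hS.le hu)
  have g1 : ∀ v, rho X y.1 v = 0 := by
    intro v
    rw [hμ, scalar_nil hμ (hnil X), zero_smul]
  obtain ⟨X', hX'⟩ := (by decide : ∀ X : Fin 3, ∃ X', X ≠ X') X
  obtain ⟨ν, hν⟩ := h.scal X X' _ hyD g1
  have g2 : ∀ v, rho X' y.1 v = 0 := by
    intro v
    rw [hν, scalar_nil hν (hnil X'), zero_smul]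
  exact hy0 (Subtype.ext (h.faith X X' hX' _ hyD g1 g2))

/-- `z` is free on the modules -/
theorem Fr.free (h : Fr L0 D rho b Q c nw lam i j si sj Gi Gj) {S : Submodule K L} (hS : SS L0 S i j) {X : Fin 3}
    {pi pj : M →ₗ[K] M} (P : Ps L0 D (rho X) b Q (c X) i j pi pj) :
    finrank K (LinearMap.range (pi ∘ₗ pi + 1)) = 4 := by
  let Dd : Module.End K M →ₗ[K] Module.End K M :=
    { toFun := fun x => (pi ∘ₗ pi) ∘ₗ x ∘ₗ (pi ∘ₗ pi) + x
      map_add' := fun x y => by
        refine LinearMap.ext fun u => ?_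
        simp only [LinearMap.add_apply, LinearMap.comp_apply, map_add]
        abel
      map_smul' := fun a x => by
        refine LinearMap.ext fun u => ?_
        simp only [LinearMap.add_apply, LinearMap.comp_apply, LinearMap.smul_apply, map_smul, smul_add, RingHom.id_apply] }
  have hDd : ∀ x u, Dd x u = (pi ∘ₗ pi) (x ((pi ∘ₗ pi) u)) + x u := fun x u => rfl
  have hQS := P.qs
  refine Cfsg.Agent.H736.L34.z_free b hQS.self Q hQS.pol pi (pi ∘ₗ pi) (fun x => rfl) hQS.inv P.bi hQS.iso Dd hDd
    (S.map (rho X)) ?_ h.hM ⟨fun v hv => hQS.nd v hv, fun v hv => hQS.nd v fun w => by rw [hQS.symm]; exact hv w⟩ ?_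
  · rintro _ ⟨x, hx, rfl⟩
    exact ⟨c X x, fun u => (h.B X).hc x (hS.le hx) u⟩
  · have h1 : (S.map (rho X)).map Dd = S.map (Dd ∘ₗ rho X) := (Submodule.map_comp _ _ _).symm
    rw [h1]
    refine hS.rk.trans (finrank_map_le_map S _ _ fun x hx h0 => ?_)
    change i (i x) + x = 0
    refine h.no_scalar hS X hx (κ := c X x) fun v => ?_
    have h2 : pi (pi (rho X x (pi (pi v)))) + rho X x v = 0 := congrArg (fun T : Module.End K M => T v) h0
    rw [map_add, LinearMap.add_apply, P.key x (hS.le hx)]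
    rw [show pi (pi (rho X x (pi (pi v)))) + c X x • v + rho X x v =
      (pi (pi (rho X x (pi (pi v)))) + rho X x v) + c X x • v by abel, h2, zero_add]

/-- **`finrank = 20`** -/
theorem Fr.twenty (h : Fr L0 D rho b Q c nw lam i j si sj Gi Gj) {S : Submodule K L} (hS : SS L0 S i j)
    (h32 : finrank K L0 = 32) : finrank K ↥(L0 ⊓ LinearMap.ker (i ∘ₗ i + 1)) = 20 := by
  obtain ⟨pi, pj, P⟩ := h.exists_ps 0
  obtain ⟨pi', pj', P'⟩ := h.exists_ps 1
  have hf := h.free hS P
  have hf' := h.free hS P'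
  have hc4 : ∃ u, b u (pi' (pi' u)) ≠ 0 := by
    refine exists_c4 h.hM P'.ql (fun v hv => ?_) P'.qs P'.bi P'.bj
    have h1 : LinearMap.range (pi' ∘ₗ pi' + 1) = LinearMap.ker (pi' ∘ₗ pi' + 1) := by
      apply Submodule.eq_of_le_of_finrank_eq
      · rintro _ ⟨x, rfl⟩
        have e1 : ∀ u : M, u + u = 0 := fun u => by
          have h4 : (2 : K) • u = 0 := by rw [show (2 : K) = 0 from CharP.cast_eq_zero K 2, zero_smul]
          rwa [two_smul] at h4
        rw [LinearMap.mem_ker]
        simp only [LinearMap.add_apply, Module.End.one_apply, LinearMap.comp_apply, map_add, P'.ql.four]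
        rw [show x + pi' (pi' x) + (pi' (pi' x) + x) = (x + x) + (pi' (pi' x) + pi' (pi' x)) by abel, e1, e1, add_zero]
      · have h4 := LinearMap.finrank_range_add_finrank_ker (pi' ∘ₗ pi' + 1)
        rw [h.hM] at h4
        omega
    have e1 : v + v = 0 := by
      have h4 : (2 : K) • v = 0 := by rw [show (2 : K) = 0 from CharP.cast_eq_zero K 2, zero_smul]
      rwa [two_smul] at h4
    have h2 : v ∈ LinearMap.ker (pi' ∘ₗ pi' + 1) := by
      rw [LinearMap.mem_ker]
      change pi' (pi' v) + v = 0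
      rw [hv, e1]
    rw [← h1] at h2
    obtain ⟨w, hw⟩ := h2
    exact ⟨w, by rw [← hw, add_comm]; rfl⟩
  let f : L0 →ₗ[K] L := (i ∘ₗ i + 1).domRestrict L0
  have hfx : ∀ x : L0, f x = i (i x.1) + x.1 := fun x => rfl
  have hk : (LinearMap.ker f).map L0.subtype = L0 ⊓ LinearMap.ker (i ∘ₗ i + 1) := by
    ext x
    constructor
    · rintro ⟨y, hy, rfl⟩
      exact ⟨y.2, hy⟩
    · rintro ⟨h1, h2⟩
      exact ⟨⟨x, h1⟩, h2, rfl⟩
  have hk' : finrank K ↥(L0 ⊓ LinearMap.ker (i ∘ₗ i + 1)) = finrank K (LinearMap.ker f) := by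
    rw [← hk]
    exact Submodule.finrank_map_subtype_eq _ _
  have hrn := LinearMap.finrank_range_add_finrank_ker f
  have hr12 : 12 ≤ finrank K (LinearMap.range f) := by
    refine hS.rk.trans (Submodule.finrank_mono ?_)
    rintro _ ⟨x, hx, rfl⟩
    exact ⟨⟨x, hS.le hx⟩, rfl⟩
  -- the upper bound
  have hzL : ∀ x ∈ L0, (i ∘ₗ i) x ∈ L0 := fun x hx => (h.Ai 0).m0 _ ((h.Ai 0).m0 x hx)
  let z : L0 →ₗ[K] L0 := (i ∘ₗ i).restrict hzL
  have hzx : ∀ x : L0, ((z x : L0) : L) = i (i x.1) := fun x => rfl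
  have h5 := fix_le (L := L0) P.qs P'.qs h.hM hf hc4 z ((rho 0).comp L0.subtype) ((rho 1).comp L0.subtype)
    (fun x => c 0 x.1) (fun x => c 1 x.1) (fun x u => (h.B 0).hc x.1 x.2 u) (fun x u => (h.B 1).hc x.1 x.2 u)
    (fun x u => P.key x.1 x.2 u) (fun x u => P'.key x.1 x.2 u)
    (fun x hx => h.scal 0 1 _ (h.zD x.1 x.2) fun v => congrArg (fun T : Module.End K M => T v) hx)
    (fun x hx hx' => Subtype.ext (h.faith 0 1 (by decide) _ (h.zD x.1 x.2)
      (fun v => congrArg (fun T : Module.End K M => T v) hx) (fun v => congrArg (fun T : Module.End K M => T v) hx')))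
  have h6 : LinearMap.ker (z + 1) = LinearMap.ker f := by
    ext x
    rw [LinearMap.mem_ker, LinearMap.mem_ker, hfx]
    constructor
    · intro h1
      exact congrArg Subtype.val h1
    · intro h1
      exact Subtype.ext h1
  rw [h6] at h5
  omega

end

end Cfsg.Agent.H198.L34
end
end

-- part: H436/L34/Nine
section
prune_inst 0x56004400062020828182004320000002000040000000000e0000c0001408000a04500c010100102000820407808006011000000424000000e0000000002002080000000000002000c0009000100000000000000000000000000000000010004000000000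
set_option linter.all false
open scoped Cfsg.Agent.FastGrp

/-!
# S5917 (`L₃(4)` in `E₈(2)`), row N1: from a submodule of type 9 over `F₂` to a linear map over `K` (helper436)

`exists_Phi` : `φ : Herm₃(F₄) → F₂^I` additive and injective extends to a `K`-linear injective map
`Φ : M₃(K) → K^I` with `Φ (X^Fr)ᵀ = Fr (Φ X)`, and with the action `Φ (g X g*) = A_K (Φ X)`.
-/

set_option autoImplicit false

namespace Cfsg.Agent.H436.L34

open Matrix Cfsg.Agent.H691.L34

section

variable {F : Type} [Field F] {K : Type*} [Field K]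

/-- the basis of the hermitian matrices -/
def bs (ω : F) : Fin 9 → M3 F :=
  ![!![1, 0, 0; 0, 0, 0; 0, 0, 0], !![0, 0, 0; 0, 1, 0; 0, 0, 0], !![0, 0, 0; 0, 0, 0; 0, 0, 1],
    !![0, 1, 0; 1, 0, 0; 0, 0, 0], !![0, ω, 0; ω ^ 2, 0, 0; 0, 0, 0],
    !![0, 0, 1; 0, 0, 0; 1, 0, 0], !![0, 0, ω; 0, 0, 0; ω ^ 2, 0, 0],
    !![0, 0, 0; 0, 0, 1; 0, 1, 0], !![0, 0, 0; 0, 0, ω; 0, ω ^ 2, 0]]

/-- the coordinates -/
def co (w : K) (X : Matrix (Fin 3) (Fin 3) K) : Fin 9 → K :=
  ![X 0 0, X 1 1, X 2 2, w ^ 2 * X 0 1 + w * X 1 0, X 0 1 + X 1 0, w ^ 2 * X 0 2 + w * X 2 0, X 0 2 + X 2 0,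
    w ^ 2 * X 1 2 + w * X 2 1, X 1 2 + X 2 1]

theorem co_add (w : K) (X Y : Matrix (Fin 3) (Fin 3) K) (k : Fin 9) : co w (X + Y) k = co w X k + co w Y k := by
  (revert k; simp only [co, _root_.Fin.forall_fin_succ, Fin.isValue, _root_.Matrix.add_apply, _root_.Matrix.cons_val_zero, _root_.Matrix.cons_val_succ, _root_.Matrix.cons_val_fin_one, _root_.forall_const, _root_.true_and]) <;> (repeat' with_reducible apply And.intro) <;> ring

theorem co_smul (w c : K) (X : Matrix (Fin 3) (Fin 3) K) (k : Fin 9) : co w (c • X) k = c * co w X k := by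
  (revert k; simp only [co, _root_.Fin.forall_fin_succ, Fin.isValue, _root_.Matrix.smul_apply, _root_.smul_eq_mul, _root_.Matrix.cons_val_zero, _root_.Matrix.cons_val_succ, _root_.Matrix.cons_val_fin_one, _root_.forall_const, _root_.true_and]) <;> (repeat' with_reducible apply And.intro) <;> ring

theorem two_eq_zero [Fintype F] (hF : Fintype.card F = 4) : (2 : F) = 0 := by
  have h1 : ((4 : ℕ) : F) = 0 := by rw [← hF]; exact Nat.cast_card_eq_zero F
  have h2 : (2 : F) ^ 2 = 0 := by rw [← h1]; norm_num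
  exact pow_eq_zero_iff (by norm_num) |>.1 h2

/-- the element of order 3 -/
theorem exists_omega [Fintype F] (hF : Fintype.card F = 4) : ∃ ω : F, ω ^ 2 + ω + 1 = 0 := by
  classical
  obtain ⟨ω, hω⟩ : ∃ ω : F, ω ∉ ({0, 1} : Finset F) := by
    by_contra h
    push Not at h
    have h1 := Finset.card_le_card (show (Finset.univ : Finset F) ⊆ {0, 1} from fun x _ => h x)
    rw [Finset.card_univ, hF] at h1
    have h2 := Finset.card_le_two (a := (0 : F)) (b := 1)
    omega
  rw [Finset.mem_insert, Finset.mem_singleton, not_or] at hω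
  refine ⟨ω, ?_⟩
  have h3 : ω ^ 3 = 1 := by
    have := FiniteField.pow_card_sub_one_eq_one ω hω.1
    rwa [hF] at this
  have h4 : (ω - 1) * (ω ^ 2 + ω + 1) = 0 := by
    have : (ω - 1) * (ω ^ 2 + ω + 1) = ω ^ 3 - 1 := by ring
    rw [this, h3, sub_self]
  exact (mul_eq_zero.1 h4).resolve_left (sub_ne_zero.2 hω.2)

theorem pow_four [Fintype F] (hF : Fintype.card F = 4) (a : F) : a ^ 4 = a := by
  have := FiniteField.pow_card a
  rwa [hF] at this

theorem dec (h2 : (2 : K) = 0) (ι : F →+* K) {ω : F} (hω : ω ^ 2 + ω + 1 = 0) (X : Matrix (Fin 3) (Fin 3) K) :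
    ∑ k, co (ι ω) X k • (bs ω k).map ι = X := by
  have hw : (ι ω) ^ 2 = ι ω + 1 := by
    have h := congrArg ι hω
    rw [map_add, map_add, map_pow, map_one, map_zero] at h
    linear_combination h - (ι ω + 1) * h2
  ext i j
  simp only [Fin.sum_univ_succ, Fin.sum_univ_zero, Matrix.add_apply, Matrix.smul_apply, Matrix.map_apply]
  (revert i j; simp only [co, bs, hw, _root_.Fin.forall_fin_succ, Fin.isValue, _root_.Matrix.cons_val_zero, _root_.Matrix.of_apply, _root_.Matrix.cons_val', _root_.Matrix.cons_val_fin_one, _root_.smul_eq_mul, _root_.Fin.succ_zero_eq_one, _root_.Matrix.cons_val_one, _root_.Fin.succ_one_eq_two, _root_.Matrix.cons_val, Fin.reduceSucc, _root_.Matrix.zero_apply, _root_.add_zero, _root_.Matrix.cons_val_succ, _root_.IsEmpty.forall_iff, _root_.map_one, _root_.mul_one, _root_.map_zero, _root_.MulZeroClass.mul_zero, _root_.zero_add, _root_.map_pow, _root_.and_true, _root_.true_and]) <;> (repeat' with_reducible apply And.intro)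
  · linear_combination (ι ω * (X 0 1 + X 1 0)) * h2
  · linear_combination (ι ω * (X 0 2 + X 2 0)) * h2
  · linear_combination ((ι ω + 1) * X 0 1 + ι ω * X 1 0) * h2
  · linear_combination (ι ω * (X 1 2 + X 2 1)) * h2
  · linear_combination ((ι ω + 1) * X 0 2 + ι ω * X 2 0) * h2
  · linear_combination ((ι ω + 1) * X 1 2 + ι ω * X 2 1) * h2

/-- the basis consists of hermitian matrices -/
theorem hf_bs {ω : F} (hω : ω ^ 4 = ω) (k : Fin 9) : HF (bs ω k) := by
  unfold HF ct
  ext i j
  (revert k i j; simp only [bs, ← pow_mul, hω, _root_.Fin.forall_fin_succ, _root_.Matrix.transpose_apply, _root_.Matrix.map_apply, Fin.isValue, _root_.Fin.succ_zero_eq_one, _root_.Fin.succ_one_eq_two, _root_.IsEmpty.forall_iff, _root_.and_true, _root_.Matrix.cons_val_zero, _root_.Matrix.of_apply, _root_.Matrix.cons_val', _root_.Matrix.cons_val_fin_one, _root_.one_pow, _root_.Matrix.cons_val_one, _root_.ne_eq, _root_.OfNat.ofNat_ne_zero, _root_.not_false_eq_true, _root_.zero_pow, _root_.Matrix.cons_val, _root_.and_self,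 _root_.Matrix.cons_val_succ, Nat.reduceMul, _root_.implies_true])

theorem hf_smul {c : F} (hc : c = 0 ∨ c = 1) {X : M3 F} (hX : HF X) : HF (c • X) := by
  rcases hc with rfl | rfl
  · rw [zero_smul]
    unfold HF ct
    ext i j
    simp
  · rwa [one_smul]

theorem hf_zero : HF (0 : M3 F) := by
  unfold HF ct
  ext i j
  simp

theorem hf_add (h2 : (2 : F) = 0) {X Y : M3 F} (hX : HF X) (hY : HF Y) : HF (X + Y) := by
  unfold HF ct at *
  ext i j
  have e1 := congrFun (congrFun hX i) j
  have e2 := congrFun (congrFun hY i) j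
  simp only [Matrix.transpose_apply, Matrix.map_apply, Matrix.add_apply] at e1 e2 ⊢
  linear_combination e1 + e2 + X j i * Y j i * h2

theorem hf_entry {X : M3 F} (hX : HF X) (i j : Fin 3) : X j i ^ 2 = X i j := by
  have e1 := congrFun (congrFun hX i) j
  simpa [ct] using e1

/-- the coordinates of a hermitian matrix are `0` or `1` -/
theorem co_sq (h2 : (2 : F) = 0) {ω : F} (hω : ω ^ 2 + ω + 1 = 0) {X : M3 F} (hX : HF X) (k : Fin 9) :
    co ω X k = 0 ∨ co ω X k = 1 := by
  have key : co ω X k ^ 2 = co ω X k := by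
    have a0 := hf_entry hX 0 0
    have a1 := hf_entry hX 1 1
    have a2 := hf_entry hX 2 2
    have b01 := hf_entry hX 0 1
    have b10 := hf_entry hX 1 0
    have b02 := hf_entry hX 0 2
    have b20 := hf_entry hX 2 0
    have b12 := hf_entry hX 1 2
    have b21 := hf_entry hX 2 1
    fin_cases k
    · exact a0
    · exact a1
    · exact a2
    · show (ω ^ 2 * X 0 1 + ω * X 1 0) ^ 2 = ω ^ 2 * X 0 1 + ω * X 1 0
      linear_combination ω ^ 4 * b10 + ω ^ 2 * b01 + ω * (ω - 1) * X 1 0 * hω + ω ^ 3 * X 0 1 * X 1 0 * h2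
    · show (X 0 1 + X 1 0) ^ 2 = X 0 1 + X 1 0
      linear_combination b10 + b01 + X 0 1 * X 1 0 * h2
    · show (ω ^ 2 * X 0 2 + ω * X 2 0) ^ 2 = ω ^ 2 * X 0 2 + ω * X 2 0
      linear_combination ω ^ 4 * b20 + ω ^ 2 * b02 + ω * (ω - 1) * X 2 0 * hω + ω ^ 3 * X 0 2 * X 2 0 * h2
    · show (X 0 2 + X 2 0) ^ 2 = X 0 2 + X 2 0
      linear_combination b20 + b02 + X 0 2 * X 2 0 * h2
    · show (ω ^ 2 * X 1 2 + ω * X 2 1) ^ 2 = ω ^ 2 * X 1 2 + ω * X 2 1
      linear_combination ω ^ 4 * b21 + ω ^ 2 * b12 + ω * (ω - 1) * X 2 1 * hω + ω ^ 3 * X 1 2 * X 2 1 * h2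
    · show (X 1 2 + X 2 1) ^ 2 = X 1 2 + X 2 1
      linear_combination b21 + b12 + X 1 2 * X 2 1 * h2
  have h3 : co ω X k * (co ω X k - 1) = 0 := by linear_combination key
  rcases mul_eq_zero.1 h3 with h | h
  · exact Or.inl h
  · exact Or.inr (sub_eq_zero.1 h)

/-- the coordinates and the hermitian Frobenius map -/
theorem co_frob (h2 : (2 : K) = 0) {w : K} (hw : w ^ 2 + w + 1 = 0) (X : Matrix (Fin 3) (Fin 3) K) (k : Fin 9) :
    co w (X.map fun a => a ^ 2).transpose k = co w X k ^ 2 := by
  fin_cases k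
  · rfl
  · rfl
  · rfl
  · show w ^ 2 * X 1 0 ^ 2 + w * X 0 1 ^ 2 = (w ^ 2 * X 0 1 + w * X 1 0) ^ 2
    linear_combination (-(w * (w - 1) * X 0 1 ^ 2)) * hw - w ^ 3 * X 0 1 * X 1 0 * h2
  · show X 1 0 ^ 2 + X 0 1 ^ 2 = (X 0 1 + X 1 0) ^ 2
    linear_combination (-(X 0 1 * X 1 0)) * h2
  · show w ^ 2 * X 2 0 ^ 2 + w * X 0 2 ^ 2 = (w ^ 2 * X 0 2 + w * X 2 0) ^ 2
    linear_combination (-(w * (w - 1) * X 0 2 ^ 2)) * hw - w ^ 3 * X 0 2 * X 2 0 * h2
  · show X 2 0 ^ 2 + X 0 2 ^ 2 = (X 0 2 + X 2 0) ^ 2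
    linear_combination (-(X 0 2 * X 2 0)) * h2
  · show w ^ 2 * X 2 1 ^ 2 + w * X 1 2 ^ 2 = (w ^ 2 * X 1 2 + w * X 2 1) ^ 2
    linear_combination (-(w * (w - 1) * X 1 2 ^ 2)) * hw - w ^ 3 * X 1 2 * X 2 1 * h2
  · show X 2 1 ^ 2 + X 1 2 ^ 2 = (X 1 2 + X 2 1) ^ 2
    linear_combination (-(X 1 2 * X 2 1)) * h2

/-- the coordinates of the members of the basis -/
theorem co_bs (h2 : (2 : K) = 0) (ι : F →+* K) {ω : F} (hω : ω ^ 2 + ω + 1 = 0) (l k : Fin 9) :
    co (ι ω) ((bs ω l).map ι) k = if k = l then 1 else 0 := by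
  have hw : (ι ω) ^ 2 = ι ω + 1 := by
    have h := congrArg ι hω
    rw [map_add, map_add, map_pow, map_one, map_zero] at h
    linear_combination h - (ι ω + 1) * h2
  (revert l k; simp only [co, bs, hw, _root_.Fin.forall_fin_succ, Fin.isValue, _root_.Matrix.map_apply, _root_.Matrix.cons_val_zero, _root_.Matrix.cons_val_succ, _root_.Fin.succ_zero_eq_one, _root_.Fin.succ_one_eq_two, Fin.reduceSucc, _root_.Matrix.cons_val_fin_one, _root_.IsEmpty.forall_iff, _root_.Matrix.of_apply, _root_.Matrix.cons_val', _root_.map_one, ↓reduceIte, _root_.Matrix.cons_val_one, _root_.map_zero, _root_.one_ne_zero, _root_.Matrix.cons_val, Fin.reduceEq, _root_.MulZeroClass.mul_zero, _root_.add_zero, _root_.zero_ne_one, _root_.mul_one, _root_.map_pow, _root_.right_eq_ite_iff, _root_.imp_false, _root_.ne_eq, _root_.not_false_eq_true, _root_.and_true, _root_.true_and]) <;> (repeat' with_reducible apply And.intro)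
  all_goals first
    | linear_combination h2
    | linear_combination (ι ω) * h2
    | linear_combination (ι ω * (ι ω + 1)) * h2

/-- `co` and the decomposition -/
theorem sum_bs [Fintype F] (h2 : (2 : F) = 0) {ω : F} (hω : ω ^ 2 + ω + 1 = 0) (X : M3 F) :
    ∑ k, co ω X k • bs ω k = X := by
  have h := dec h2 (RingHom.id F) hω X
  have e : ∀ k, (bs ω k).map (RingHom.id F) = bs ω k := fun k => by
    ext i j
    rfl
  simpa only [RingHom.id_apply, e] using h

section Phi

variable {I : Type*}

/-- the lift of a vector -/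
def jj (K : Type*) [Field K] (v : I → ZMod 2) (i : I) : K := if v i = 0 then 0 else 1

theorem jj_zero : jj K (0 : I → ZMod 2) = 0 := by
  funext i
  simp [jj]

theorem zmod_two (a : ZMod 2) : a = 0 ∨ a = 1 := by
  revert a
  decide

theorem jj_add (h2 : (2 : K) = 0) (u v : I → ZMod 2) : jj K (u + v) = jj K u + jj K v := by
  funext i
  show jj K (u + v) i = jj K u i + jj K v i
  unfold jj
  have e : (u + v) i = u i + v i := rfl
  rw [e]
  have h11 : (1 : ZMod 2) + 1 = 0 := by decide
  have k11 : (1 : K) + 1 = 0 := by linear_combination h2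
  rcases zmod_two (u i) with h | h <;> rcases zmod_two (v i) with h' | h' <;> simp only [h, h', h11, k11, _root_.add_zero, ↓ _root_.reduceIte, _root_.zero_add, _root_.one_ne_zero]

theorem jj_sq (v : I → ZMod 2) (i : I) : jj K v i ^ 2 = jj K v i := by
  unfold jj
  split_ifs <;> simp

variable {φ : M3 F → I → ZMod 2}

theorem phi_zero (h1 : ∀ X Y, HF X → HF Y → φ (X + Y) = φ X + φ Y) : φ 0 = 0 := by
  have h := h1 0 0 hf_zero hf_zero
  rw [add_zero] at h
  exact (left_eq_add.1 h)

theorem phi_sum (h2 : (2 : F) = 0) (h1 : ∀ X Y, HF X → HF Y → φ (X + Y) = φ X + φ Y) {n : ℕ} (f : Fin n → M3 F)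
    (hf : ∀ k, HF (f k)) : HF (∑ k, f k) ∧ φ (∑ k, f k) = ∑ k, φ (f k) := by
  induction n with
  | zero => simp [hf_zero, phi_zero h1]
  | succ n ih =>
    obtain ⟨e1, e2⟩ := ih (fun k => f k.castSucc) fun k => hf _
    rw [Fin.sum_univ_castSucc, Fin.sum_univ_castSucc]
    exact ⟨hf_add h2 e1 (hf _), by rw [h1 _ _ e1 (hf _), e2]⟩

/-- the linear map -/
noncomputable def Phi (w : K) (v : Fin 9 → I → K) : Matrix (Fin 3) (Fin 3) K →ₗ[K] (I → K) where
  toFun X := ∑ k, co w X k • v k
  map_add' X Y := by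
    rw [← Finset.sum_add_distrib]
    exact Finset.sum_congr rfl fun k _ => by rw [co_add, add_smul]
  map_smul' c X := by
    rw [RingHom.id_apply, Finset.smul_sum]
    exact Finset.sum_congr rfl fun k _ => by rw [co_smul, mul_smul]

theorem Phi_apply (w : K) (v : Fin 9 → I → K) (X : Matrix (Fin 3) (Fin 3) K) : Phi w v X = ∑ k, co w X k • v k := rfl

theorem charP_two (h2 : (2 : K) = 0) : CharP K 2 :=
  (CharP.charP_iff_prime_eq_zero Nat.prime_two).2 (by exact_mod_cast h2)

theorem jj_eq [CharP K 2] (v : I → ZMod 2) (i : I) :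
    jj K v i = ZMod.castHom (dvd_refl 2) K (v i) := by
  unfold jj
  rcases zmod_two (v i) with h | h
  · rw [h, map_zero, if_pos rfl]
  · rw [h, map_one, if_neg (by decide)]

/-- independence is preserved by the extension of the field -/
theorem indep_of [Finite I] (h2 : (2 : K) = 0) (u : Fin 9 → I → ZMod 2)
    (hu : ∀ c : Fin 9 → ZMod 2, ∑ k, c k • u k = 0 → c = 0) {a : Fin 9 → K} (ha : ∑ k, a k • jj K (u k) = 0) :
    a = 0 := by
  classical
  have := Fintype.ofFinite I
  have := charP_two h2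
  let S : (Fin 9 → ZMod 2) →ₗ[ZMod 2] (I → ZMod 2) :=
    { toFun := fun c => ∑ k, c k • u k
      map_add' := fun c d => by
        rw [← Finset.sum_add_distrib]
        exact Finset.sum_congr rfl fun k _ => by rw [Pi.add_apply, add_smul]
      map_smul' := fun c d => by
        rw [RingHom.id_apply, Finset.smul_sum]
        exact Finset.sum_congr rfl fun k _ => by rw [Pi.smul_apply, smul_eq_mul, mul_smul] }
  have hS : LinearMap.ker S = ⊥ := by
    rw [LinearMap.ker_eq_bot']
    exact hu
  obtain ⟨T, hT⟩ := LinearMap.exists_leftInverse_of_injective S hS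
  have hTu : ∀ k, T (u k) = Pi.single k 1 := by
    intro k
    have e : S (Pi.single k 1) = u k := by
      show ∑ l, (Pi.single k 1 : Fin 9 → ZMod 2) l • u l = u k
      rw [Finset.sum_eq_single k]
      · rw [Pi.single_eq_same, one_smul]
      · intro l _ hl
        rw [Pi.single_eq_of_ne hl, zero_smul]
      · intro h
        exact absurd (Finset.mem_univ _) h
    rw [← e]
    exact LinearMap.congr_fun hT _
  have hTm : ∀ (v : I → ZMod 2) (l : Fin 9), T v l = ∑ i, v i * T (Pi.single i 1) l := by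
    intro v l
    have e : v = ∑ i, v i • (Pi.single i (1 : ZMod 2) : I → ZMod 2) := by
      funext j
      rw [Finset.sum_apply, Finset.sum_eq_single j]
      · simp
      · intro i _ hi
        simp [Pi.single_eq_of_ne hi.symm]
      · intro h
        exact absurd (Finset.mem_univ _) h
    conv_lhs => rw [e]
    rw [map_sum, Finset.sum_apply]
    exact Finset.sum_congr rfl fun i _ => by rw [map_smul, Pi.smul_apply, smul_eq_mul]
  funext l
  have hr : ∀ k, ∑ i, ZMod.castHom (dvd_refl 2) K (T (Pi.single i 1) l) * jj K (u k) i = if k = l then 1 else 0 := by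
    intro k
    have e1 := hTm (u k) l
    rw [hTu] at e1
    have e2 := congrArg (ZMod.castHom (dvd_refl 2) K) e1
    rw [map_sum] at e2
    have e3 : ∑ i, ZMod.castHom (dvd_refl 2) K (T (Pi.single i 1) l) * jj K (u k) i =
        ∑ i, ZMod.castHom (dvd_refl 2) K (u k i * T (Pi.single i 1) l) :=
      Finset.sum_congr rfl fun i _ => by rw [map_mul, jj_eq, mul_comm]
    rw [e3, ← e2]
    by_cases hkl : k = l
    · rw [hkl, Pi.single_eq_same, if_pos rfl, map_one]
    · rw [Pi.single_eq_of_ne (Ne.symm hkl), if_neg hkl, map_zero]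
  have e4 : ∑ i, ZMod.castHom (dvd_refl 2) K (T (Pi.single i 1) l) * (∑ k, a k • jj K (u k)) i = a l := by
    have e5 : ∀ i, ZMod.castHom (dvd_refl 2) K (T (Pi.single i 1) l) * (∑ k, a k • jj K (u k)) i =
        ∑ k, a k * (ZMod.castHom (dvd_refl 2) K (T (Pi.single i 1) l) * jj K (u k) i) := by
      intro i
      rw [Finset.sum_apply, Finset.mul_sum]
      exact Finset.sum_congr rfl fun k _ => by
        rw [Pi.smul_apply, smul_eq_mul]
        ring
    rw [Finset.sum_congr rfl fun i _ => e5 i, Finset.sum_comm]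
    rw [Finset.sum_congr rfl fun k _ => (Finset.mul_sum _ _ _).symm]
    rw [Finset.sum_congr rfl fun k _ => by rw [hr k], Finset.sum_eq_single l]
    · rw [if_pos rfl, mul_one]
    · intro k _ hk
      rw [if_neg hk, mul_zero]
    · intro h
      exact absurd (Finset.mem_univ _) h
  rw [← e4, ha]
  simp only [_root_.ZMod.castHom_apply, _root_.Pi.zero_apply, _root_.MulZeroClass.mul_zero, _root_.Finset.sum_const_zero]

theorem two_K [Fintype F] (hF : Fintype.card F = 4) (ι : F →+* K) : (2 : K) = 0 := by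
  have h := congrArg ι (two_eq_zero hF)
  rwa [map_zero, map_ofNat] at h

/-- **from `F₂` to `K`** -/
theorem exists_Phi [Fintype F] [Finite I] (hF : Fintype.card F = 4) (ι : F →+* K)
    (h1 : ∀ X Y, HF X → HF Y → φ (X + Y) = φ X + φ Y) (h0 : ∀ X, HF X → φ X = 0 → X = 0) :
    ∃ Φ : Matrix (Fin 3) (Fin 3) K →ₗ[K] (I → K), Function.Injective Φ ∧
      (∀ X, HF X → Φ (X.map ι) = jj K (φ X)) ∧
      (∀ X i, Φ (X.map fun a => a ^ 2).transpose i = Φ X i ^ 2) ∧
      (∀ (A : (I → ZMod 2) → I → ZMod 2) (AK : (I → K) →ₗ[K] (I → K)), (∀ v, AK (jj K v) = jj K (A v)) →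
        ∀ g : G3 F, (∀ X, HF X → A (φ X) = φ (hact g X)) →
          ∀ X, AK (Φ X) = Φ ((g : M3 F).map ι * X * (ct (g : M3 F)).map ι)) ∧
      ∀ X, Φ X ∈ Submodule.span K {v | ∃ Y, HF Y ∧ v = jj K (φ Y)} := by
  classical
  have h2 := two_eq_zero hF
  have h2K := two_K hF ι
  obtain ⟨ω, hω⟩ := exists_omega hF
  have hwK : (ι ω) ^ 2 + ι ω + 1 = 0 := by
    have h := congrArg ι hω
    rwa [map_add, map_add, map_pow, map_one, map_zero] at h
  have hb := hf_bs (pow_four hF ω)
  have hval : ∀ X, HF X → Phi (ι ω) (fun k => jj K (φ (bs ω k))) (X.map ι) = jj K (φ X) := by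
    intro X hX
    have e1 : φ X = ∑ k, φ (co ω X k • bs ω k) := by
      conv_lhs => rw [← sum_bs h2 hω X]
      exact (phi_sum h2 h1 _ fun k => hf_smul (co_sq h2 hω hX k) (hb k)).2
    have e2 : ∀ {n : ℕ} (f : Fin n → I → ZMod 2), jj K (∑ k, f k) = ∑ k, jj K (f k) := by
      intro n f
      induction n with
      | zero => simp [jj_zero]
      | succ n ih => rw [Fin.sum_univ_castSucc, Fin.sum_univ_castSucc, jj_add h2K, ih]
    rw [e1, e2, Phi_apply]
    refine Finset.sum_congr rfl fun k _ => ?_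
    have e3 : co (ι ω) (X.map ι) k = ι (co ω X k) := by
      (revert k; simp only [co, _root_.Fin.forall_fin_succ, _root_.Finset.mem_univ, Fin.isValue, _root_.Matrix.map_apply, _root_.forall_const, _root_.Matrix.cons_val_zero, _root_.Matrix.cons_val_succ, _root_.map_add, _root_.map_mul, _root_.map_pow, _root_.Matrix.cons_val_fin_one, _root_.implies_true, _root_.and_self])
    rw [e3]
    rcases co_sq h2 hω hX k with h | h
    · rw [h, map_zero, zero_smul, zero_smul, phi_zero h1, jj_zero]
    · rw [h, map_one, one_smul, one_smul]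
  refine ⟨Phi (ι ω) fun k => jj K (φ (bs ω k)), ?_, hval, ?_, ?_, ?_⟩
  · rw [← LinearMap.ker_eq_bot, LinearMap.ker_eq_bot']
    intro X hX
    have e1 := indep_of (K := K) h2K (fun k => φ (bs ω k)) (fun c hc => by
      have e2 : φ (∑ k, (if c k = 0 then (0 : F) else 1) • bs ω k) = ∑ k, c k • φ (bs ω k) := by
        rw [(phi_sum h2 h1 _ fun k => hf_smul (by split_ifs <;> simp) (hb k)).2]
        refine Finset.sum_congr rfl fun k _ => ?_
        rcases zmod_two (c k) with h | h
        · rw [h, if_pos rfl, zero_smul, zero_smul, phi_zero h1]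
        · rw [h, if_neg (by decide), one_smul, one_smul]
      rw [hc] at e2
      have e3 := h0 _ (phi_sum h2 h1 _ fun k => hf_smul (by split_ifs <;> simp) (hb k)).1 e2
      funext l
      have e4 : co (ι ω) ((∑ k, (if c k = 0 then (0 : F) else 1) • bs ω k).map ι) l = if c l = 0 then 0 else 1 := by
        have e5 : (∑ k, (if c k = 0 then (0 : F) else 1) • bs ω k).map ι =
            ∑ k, (if c k = 0 then (0 : K) else 1) • (bs ω k).map ι := by
          ext i j
          simp only [Matrix.map_apply, Matrix.sum_apply, Matrix.smul_apply, map_sum, smul_eq_mul, map_mul]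
          refine Finset.sum_congr rfl fun k _ => ?_
          split_ifs <;> simp
        rw [e5]
        have e6 : ∀ {n : ℕ} (f : Fin n → Matrix (Fin 3) (Fin 3) K), co (ι ω) (∑ k, f k) l = ∑ k, co (ι ω) (f k) l := by
          intro n f
          induction n with
          | zero => (revert l; simp only [co, _root_.Fin.forall_fin_succ, _root_.Finset.univ_eq_empty, Fin.isValue, _root_.Finset.sum_empty, _root_.Matrix.zero_apply, _root_.MulZeroClass.mul_zero, _root_.add_zero, _root_.Matrix.cons_val_zero, _root_.Matrix.cons_val_succ, _root_.Matrix.cons_val_fin_one, _root_.implies_true, _root_.and_self])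
          | succ n ih => rw [Fin.sum_univ_castSucc, Fin.sum_univ_castSucc, co_add, ih]
        rw [e6, Finset.sum_eq_single l]
        · rw [co_smul, co_bs h2K ι hω, if_pos rfl, mul_one]
        · intro k _ hk
          rw [co_smul, co_bs h2K ι hω, if_neg (Ne.symm hk), mul_zero]
        · intro h
          exact absurd (Finset.mem_univ _) h
      rw [e3] at e4
      have e7 : co (ι ω) ((0 : M3 F).map ι) l = 0 := by (revert l; simp only [co, _root_.Fin.forall_fin_succ, Fin.isValue, _root_.Matrix.map_apply, _root_.Matrix.zero_apply, _root_.map_zero, _root_.MulZeroClass.mul_zero, _root_.add_zero, _root_.Matrix.cons_val_zero, _root_.left_eq_ite_iff, _root_.zero_ne_one, _root_.imp_false, _root_.Decidable.not_not, _root_.implies_true, _root_.Matrix.cons_val_succ, _root_.Fin.succ_zero_eq_one, _root_.Fin.succ_one_eq_two, Fin.reduceSucc, _root_.Matrix.cons_val_fin_one, _root_.and_self])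
      rw [e7] at e4
      by_contra h
      have h' : c l ≠ 0 := h
      rw [if_neg h'] at e4
      exact zero_ne_one e4) (a := co (ι ω) X) hX
    rw [← dec h2K ι hω X]
    refine Finset.sum_eq_zero fun k _ => ?_
    rw [congrFun e1 k, Pi.zero_apply, zero_smul]
  · intro X i
    have := charP_two h2K
    rw [Phi_apply, Phi_apply, Finset.sum_apply, Finset.sum_apply]
    have e := map_sum (frobenius K 2) (fun k => (co (ι ω) X k • jj K (φ (bs ω k))) i) Finset.univ
    simp only [frobenius_def] at e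
    rw [e]
    refine Finset.sum_congr rfl fun k _ => ?_
    rw [Pi.smul_apply, Pi.smul_apply, smul_eq_mul, smul_eq_mul, mul_pow, jj_sq, co_frob h2K hwK]
  · intro A AK hA g hg X
    have key : ∀ k, AK (Phi (ι ω) (fun k => jj K (φ (bs ω k))) ((bs ω k).map ι)) =
        Phi (ι ω) (fun k => jj K (φ (bs ω k))) ((g : M3 F).map ι * (bs ω k).map ι * (ct (g : M3 F)).map ι) := by
      intro k
      have hh : HF (hact g (bs ω k)) := by
        have hbk : ct (bs ω k) = bs ω k := hb k
        show ct ((g : M3 F) * bs ω k * ct (g : M3 F)) = _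
        have hct : ∀ A B : M3 F, ct (A * B) = ct B * ct A := by
          intro A B
          have := charP_two h2
          unfold ct
          rw [show (A * B).map (fun a => a ^ 2) = A.map (fun a => a ^ 2) * B.map fun a => a ^ 2 from
            Matrix.map_mul (f := frobenius F 2), Matrix.transpose_mul]
        have hcc : ct (ct (g : M3 F)) = g := by
          ext i j
          simp only [ct, Matrix.transpose_apply, Matrix.map_apply]
          rw [← pow_mul]
          exact pow_four hF _
        rw [hct, hct, hcc, hbk, ← mul_assoc]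
        rfl
      rw [hval _ (hb k), hA, hg _ (hb k), ← hval _ hh]
      congr 1
      show (((g : M3 F) * bs ω k * ct (g : M3 F)).map ι) = _
      rw [Matrix.map_mul, Matrix.map_mul]
    have e1 := dec h2K ι hω X
    conv_lhs => rw [← e1]
    conv_rhs => rw [← e1]
    rw [map_sum, map_sum, Matrix.mul_sum, Matrix.sum_mul, map_sum]
    refine Finset.sum_congr rfl fun k _ => ?_
    rw [map_smul, map_smul, key k, Matrix.mul_smul, Matrix.smul_mul, map_smul]
  · intro X
    rw [Phi_apply]
    exact Submodule.sum_mem _ fun k _ => Submodule.smul_mem _ _ (Submodule.subset_span ⟨_, hb k, rfl⟩)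

end Phi

/-- **row N1** : the linear map over `K` of a submodule of type 9 -/
theorem exists_nine_Phi [Fintype F] (hF : Fintype.card F = 4) (ι : F →+* K) {I : Type} [Finite I]
    {ρ : Representation (ZMod 2) (G3 F) (I → ZMod 2)} {b : Bool} {W : Submodule (ZMod 2) (I → ZMod 2)}
    (h : IsNine ρ b W) :
    ∃ Φ : Matrix (Fin 3) (Fin 3) K →ₗ[K] (I → K), Function.Injective Φ ∧
      (∀ v, v ∈ W ↔ ∃ X, HF X ∧ Φ (X.map ι) = jj K v) ∧
      (∀ X, HF X → ∃ v ∈ W, Φ (X.map ι) = jj K v) ∧
      (∀ X i, Φ (X.map fun a => a ^ 2).transpose i = Φ X i ^ 2) ∧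
      (∀ X, Φ X ∈ Submodule.span K {u | ∃ v ∈ W, u = jj K v}) ∧
      ∀ (g : G3 F) (AK : (I → K) →ₗ[K] (I → K)), (∀ v, AK (jj K v) = jj K (ρ g v)) →
        ∀ X, AK (Φ X) = Φ ((tw b g : M3 F).map ι * X * (ct (tw b g : M3 F)).map ι) := by
  obtain ⟨φ, h1, h0, hW, hg⟩ := h
  obtain ⟨Φ, i1, i2, i3, i4, i5⟩ := exists_Phi (K := K) hF ι h1 h0
  have hjj : ∀ u v : I → ZMod 2, jj K u = jj K v → u = v := by
    intro u v huv
    funext i
    have e := congrFun huv i
    unfold jj at e
    rcases zmod_two (u i) with a | a <;> rcases zmod_two (v i) with c | c <;> rw [a, c] at e ⊢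
    · simp only [↓ _root_.reduceIte, _root_.one_ne_zero, _root_.zero_ne_one] at e
    · simp only [_root_.one_ne_zero, ↓ _root_.reduceIte] at e
  refine ⟨Φ, i1, ?_, ?_, i3, ?_, ?_⟩
  · intro v
    constructor
    · intro hv
      obtain ⟨X, hX, rfl⟩ := (hW v).1 hv
      exact ⟨X, hX, i2 X hX⟩
    · rintro ⟨X, hX, hv⟩
      rw [i2 X hX] at hv
      exact (hW v).2 ⟨X, hX, hjj _ _ hv⟩
  · intro X hX
    exact ⟨φ X, (hW _).2 ⟨X, hX, rfl⟩, i2 X hX⟩
  · intro X
    refine Submodule.span_mono ?_ (i5 X)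
    rintro _ ⟨Y, hY, rfl⟩
    exact ⟨φ Y, (hW _).2 ⟨Y, hY, rfl⟩, rfl⟩
  · intro g AK hA X
    exact i4 (fun v => ρ g v) AK hA (tw b g) (fun Y hY => hg g Y hY) X

end

end Cfsg.Agent.H436.L34

private theorem dce_81d897168d5b : _root_.True := by
  try have : _root_.True := by simp only [_root_.Cfsg.Agent.H691.L34.ct.eq_1]
  try have : _root_.True := by simp only [_root_.Cfsg.Agent.H436.L34.co.eq_1]
  try have : _root_.True := by simp only [_root_.Cfsg.Agent.H436.L34.bs.eq_1]
  try have : _root_.True := by simp only [_root_.Cfsg.Agent.H436.L34.jj.eq_1]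
  exact _root_.True.intro
end
end
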